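import Mathlib
import Cfsg.Agent.LieClassical.HermBasic
import Cfsg.Agent.LieClassical.HermSiegel
import Cfsg.Agent.ClassicalGeometry.HermLines
import Cfsg.Agent.H77.Geom
import Cfsg.Agent.LieClassical.HermPerfect
set_option linter.all false

-- part: H77/CW
section
/-!
# Isotropic vectors in additive subgroups (Chevalley-Warning)
-/

set_option autoImplicit false

namespace Cfsg.Agent.H77.CW

open Cfsg Cfsg.Agent.LieClassical.HermBasic
open MvPolynomial

variable {F : Type*} [Field F] [Fintype F] {q n : ℕ}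

/-- An additive subgroup with more than `q ^ 2` elements contains a nonzero isotropic vector. -/
theorem exists_isotropic (hF : Fintype.card F = q ^ 2) (A : AddSubgroup (Fin n → F))
    (hA : q ^ 2 < Nat.card A) : ∃ w ∈ A, w ≠ 0 ∧ hermForm n F q w w = 0 := by
  classical
  obtain ⟨p, k, hp, hchar, hqk, hk0⟩ := exists_prime_pow hF
  have := Fact.mk hp
  let _ := ZMod.algebra F p
  set A' : Submodule (ZMod p) (Fin n → F) := AddSubgroup.toZModSubmodule p A with hA'
  have hmem : ∀ v, v ∈ A' ↔ v ∈ A := fun v => Iff.rfl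
  have : Module.Finite (ZMod p) F := Module.Finite.of_finite
  set D := Module.finrank (ZMod p) A' with hD
  have hcardA : Nat.card A = p ^ D := by
    have : Nat.card A' = Nat.card (ZMod p) ^ D := Module.natCard_eq_pow_finrank
    rw [Nat.card_zmod] at this
    exact this
  -- the fixed field
  let T₀ : AddSubgroup F :=
    { carrier := {x | x ^ q = x}
      add_mem' := fun {a b} ha hb => by
        change (a + b) ^ q = a + b
        rw [add_pow_q hF, show a ^ q = a from ha, show b ^ q = b from hb]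
      zero_mem' := zero_pow_q hF
      neg_mem' := fun {a} ha => by
        change (-a) ^ q = -a
        rw [neg_pow_q hF, show a ^ q = a from ha] }
  set T : Submodule (ZMod p) F := AddSubgroup.toZModSubmodule p T₀ with hT
  have hmemT : ∀ x, x ∈ T ↔ x ^ q = x := fun x => Iff.rfl
  have hfT : Module.finrank (ZMod p) T = k := by
    have h1 : Nat.card T = Nat.card (ZMod p) ^ Module.finrank (ZMod p) T :=
      Module.natCard_eq_pow_finrank
    rw [Nat.card_zmod] at h1
    have h2 : Nat.card T = q := card_fixed hF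
    rw [h2, hqk] at h1
    exact (Nat.pow_right_injective hp.two_le h1).symm
  let bT : Module.Basis (Fin k) (ZMod p) T := Module.finBasisOfFinrankEq _ _ hfT
  obtain ⟨Φ, hΦ⟩ := LinearMap.exists_extend (bT.equivFun : T →ₗ[ZMod p] (Fin k → ZMod p))
  have hΦinj : ∀ x : F, x ^ q = x → Φ x = 0 → x = 0 := by
    intro x hx h0
    have h1 : bT.equivFun ⟨x, hx⟩ = 0 := by
      rw [← h0]
      exact (LinearMap.congr_fun hΦ ⟨x, hx⟩).symm
    have h2 := (LinearEquiv.map_eq_zero_iff _).1 h1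
    exact congrArg Subtype.val h2
  let b : Module.Basis (Fin D) (ZMod p) A' := Module.finBasis (ZMod p) A'
  -- the polynomials
  let f : Fin k → MvPolynomial (Fin D) (ZMod p) := fun i =>
    ∑ j, ∑ l, C (Φ (hermForm n F q (b j : Fin n → F) (b l : Fin n → F)) i) * (X j * X l)
  have hdeg : ∀ i, (f i).totalDegree ≤ 2 := by
    intro i
    refine (totalDegree_finsetSum _ _).trans (Finset.sup_le fun j _ => ?_)
    refine (totalDegree_finsetSum _ _).trans (Finset.sup_le fun l _ => ?_)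
    refine (totalDegree_mul _ _).trans ?_
    rw [totalDegree_C, zero_add]
    refine (totalDegree_mul _ _).trans ?_
    rw [totalDegree_X, totalDegree_X]
  have hsum : (∑ i, (f i).totalDegree) < Fintype.card (Fin D) := by
    refine (Finset.sum_le_sum fun i _ => hdeg i).trans_lt ?_
    rw [Finset.sum_const, Finset.card_univ, Fintype.card_fin, Fintype.card_fin, smul_eq_mul]
    rw [hcardA, hqk, ← pow_mul] at hA
    exact (Nat.pow_lt_pow_iff_right hp.one_lt).1 hA
  have hdvd := char_dvd_card_solutions_of_fintype_sum_lt p hsum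
  replace hdvd : p ∣ Nat.card {x : Fin D → ZMod p // ∀ i, eval x (f i) = 0} := by
    refine hdvd.trans (dvd_of_eq ?_)
    exact (@Nat.card_eq_fintype_card _ (_)).symm
  have hzero : ∀ i, eval (0 : Fin D → ZMod p) (f i) = 0 := by
    intro i
    simp [f]
  have hpos : 0 < Nat.card {x : Fin D → ZMod p // ∀ i, eval x (f i) = 0} := by
    have : Nonempty {x : Fin D → ZMod p // ∀ i, eval x (f i) = 0} := ⟨⟨0, hzero⟩⟩
    exact Nat.card_pos
  have h1 : 1 < Nat.card {x : Fin D → ZMod p // ∀ i, eval x (f i) = 0} :=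
    lt_of_lt_of_le hp.one_lt (Nat.le_of_dvd hpos hdvd)
  rw [Nat.card_eq_fintype_card] at h1
  obtain ⟨⟨x, hx⟩, hx0⟩ := Fintype.exists_ne_of_one_lt_card h1 ⟨0, hzero⟩
  have hx0' : x ≠ 0 := fun h => hx0 (Subtype.ext h)
  set w : A' := b.equivFun.symm x with hw
  have hwsum : (w : Fin n → F) = ∑ j, algebraMap (ZMod p) F (x j) • (b j : Fin n → F) := by
    rw [hw, Module.Basis.equivFun_symm_apply, Submodule.coe_sum]
    refine Finset.sum_congr rfl fun j _ => ?_
    rw [Submodule.coe_smul, algebraMap_smul]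
  have hpow : ∀ y : ZMod p, (algebraMap (ZMod p) F y) ^ q = algebraMap (ZMod p) F y := by
    intro y
    rw [← map_pow, hqk, ZMod.pow_card_pow]
  have hherm : hermForm n F q (w : Fin n → F) w =
      ∑ j, ∑ l, (x j * x l) • hermForm n F q (b j : Fin n → F) (b l : Fin n → F) := by
    rw [hwsum, herm_sum_left]
    refine Finset.sum_congr rfl fun j _ => ?_
    rw [herm_smul_left, herm_sum_right hF, Finset.mul_sum]
    refine Finset.sum_congr rfl fun l _ => ?_
    rw [herm_smul_right, hpow, Algebra.smul_def, map_mul, mul_assoc]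
  refine ⟨w, w.2, ?_, ?_⟩
  · intro h
    apply hx0'
    have h2 : w = 0 := Subtype.ext h
    rw [hw] at h2
    exact (LinearEquiv.map_eq_zero_iff _).1 h2
  · apply hΦinj _ (herm_self_pow hF _)
    funext i
    rw [hherm, map_sum, Finset.sum_apply, Pi.zero_apply, ← hx i]
    simp only [f, map_sum, Finset.sum_apply, map_mul, eval_C, eval_X, map_smul, Pi.smul_apply,
      smul_eq_mul]
    refine Finset.sum_congr rfl fun j _ => Finset.sum_congr rfl fun l _ => ?_
    ring

/-- Relative version: an additive subgroup `A` with more than `q ^ 2 |B|` elements, `B ≤ A`,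
contains an isotropic vector outside `B`. -/
theorem exists_isotropic_not_mem (hF : Fintype.card F = q ^ 2) (A B : AddSubgroup (Fin n → F))
    (hBA : B ≤ A) (hA : q ^ 2 * Nat.card B < Nat.card A) :
    ∃ w ∈ A, w ∉ B ∧ hermForm n F q w w = 0 := by
  classical
  obtain ⟨p, k, hp, hchar, hqk, hk0⟩ := exists_prime_pow hF
  have := Fact.mk hp
  let _ := ZMod.algebra F p
  set A' : Submodule (ZMod p) (Fin n → F) := AddSubgroup.toZModSubmodule p A with hA'
  set B' : Submodule (ZMod p) A' := (AddSubgroup.toZModSubmodule p B).comap A'.subtype with hB'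
  obtain ⟨C', hC'⟩ := Submodule.exists_isCompl B'
  have hcard : Nat.card A' = Nat.card B' * Nat.card C' := by
    rw [← Nat.card_prod]
    exact Nat.card_congr (Submodule.prodEquivOfIsCompl B' C' hC').symm.toEquiv
  have hcB : Nat.card B' = Nat.card B := by
    apply Nat.card_congr
    refine
      { toFun := fun x => ⟨x.1.1, x.2⟩
        invFun := fun x => ⟨⟨x.1, hBA x.2⟩, x.2⟩
        left_inv := fun x => rfl
        right_inv := fun x => rfl }
  set C : AddSubgroup (Fin n → F) := (C'.map A'.subtype).toAddSubgroup with hC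
  have hcC : Nat.card C = Nat.card C' := by
    apply Nat.card_congr
    exact (Submodule.equivMapOfInjective A'.subtype Subtype.val_injective C').symm.toEquiv
  have hlt : q ^ 2 < Nat.card C := by
    have h1 : Nat.card A = Nat.card B * Nat.card C := by
      rw [hcC, ← hcB]; exact hcard
    rw [h1, mul_comm] at hA
    exact lt_of_mul_lt_mul_left hA (Nat.zero_le _)
  obtain ⟨w, hw, hw0, hww⟩ := exists_isotropic hF C hlt
  obtain ⟨w', hw', rfl⟩ := hw
  refine ⟨_, w'.2, ?_, hww⟩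
  intro hB
  have h1 : w' ∈ B' := hB
  have h2 : w' = 0 := by
    have := hC'.disjoint
    rw [Submodule.disjoint_def] at this
    exact this w' h1 hw'
  apply hw0
  rw [h2]
  rfl

end Cfsg.Agent.H77.CW
end

-- part: H77/Heis
section
/-!
# The group of Siegel pairs attached to an isotropic vector
-/

set_option autoImplicit false

namespace Cfsg.Agent.H77.Heis

open Cfsg Cfsg.Agent.LieClassical.HermBasic Cfsg.Agent.LieClassical.HermSiegel
open Cfsg.Agent.H77.Geom

variable {F : Type*} [Field F] [Fintype F] {q n : ℕ}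

/-- Elements of trace zero. -/
def T0 (hF : Fintype.card F = q ^ 2) : AddSubgroup F where
  carrier := {c | c + c ^ q = 0}
  add_mem' := fun {a b} ha hb => by
    change a + b + (a + b) ^ q = 0
    have ha' : a + a ^ q = 0 := ha
    have hb' : b + b ^ q = 0 := hb
    rw [add_pow_q hF]
    linear_combination ha' + hb'
  zero_mem' := by
    change (0 : F) + 0 ^ q = 0
    rw [zero_pow_q hF, add_zero]
  neg_mem' := fun {a} ha => by
    change -a + (-a) ^ q = 0
    have ha' : a + a ^ q = 0 := ha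
    rw [neg_pow_q hF]
    linear_combination -ha'

theorem mem_T0 (hF : Fintype.card F = q ^ 2) {c : F} : c ∈ T0 hF ↔ c + c ^ q = 0 := Iff.rfl

theorem card_T0 (hF : Fintype.card F = q ^ 2) : Nat.card (T0 hF) = q :=
  ClassicalGeometry.HermLines.card_trace_eq hF (zero_pow_q hF)

theorem pow_q_of_mem_T0 (hF : Fintype.card F = q ^ 2) {c : F} (hc : c ∈ T0 hF) : c ^ q = -c :=
  eq_neg_of_add_eq_zero_right hc

theorem exists_mem_T0 (hF : Fintype.card F = q ^ 2) : ∃ c ∈ T0 hF, c ≠ 0 := by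
  obtain ⟨c, hc, h⟩ := exists_trace_zero_ne hF
  exact ⟨c, h, hc⟩

theorem smul_mem_T0 (hF : Fintype.card F = q ^ 2) {c f : F} (hc : c ∈ T0 hF) (hf : f ^ q = f) :
    f * c ∈ T0 hF := by
  rw [mem_T0] at *
  rw [mul_pow, hf, ← mul_add, hc, mul_zero]

theorem mul_fixed (hF : Fintype.card F = q ^ 2) {c d : F} (hc : c ∈ T0 hF) (hd : d ∈ T0 hF) :
    (c * d) ^ q = c * d := by
  rw [mul_pow, pow_q_of_mem_T0 hF hc, pow_q_of_mem_T0 hF hd, neg_mul_neg]

theorem inv_mem_T0 (hF : Fintype.card F = q ^ 2) {c : F} (hc : c ∈ T0 hF) : c⁻¹ ∈ T0 hF := by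
  rw [mem_T0, inv_pow, pow_q_of_mem_T0 hF hc, inv_neg, add_neg_cancel]

/-- Pairs `(w, μ)` such that the Siegel transformation is defined. -/
def HP (_hF : Fintype.card F = q ^ 2) (v : Fin n → F) (_hv : hermForm n F q v v = 0) : Type _ :=
  {p : (Fin n → F) × F // IsSiegel q v p.1 p.2}

variable {hF : Fintype.card F = q ^ 2} {v : Fin n → F} {hv : hermForm n F q v v = 0}

/-- first component -/
def HP.w (x : HP hF v hv) : Fin n → F := x.1.1

/-- second component -/
def HP.m (x : HP hF v hv) : F := x.1.2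

theorem HP.sg (x : HP hF v hv) : IsSiegel q v x.w x.m := x.2

@[ext] theorem HP.ext {x y : HP hF v hv} (h1 : x.w = y.w) (h2 : x.m = y.m) : x = y :=
  Subtype.ext (Prod.ext h1 h2)

/-- constructor -/
def HP.mk (hF : Fintype.card F = q ^ 2) (hv : hermForm n F q v v = 0) (w : Fin n → F) (μ : F)
    (h : IsSiegel q v w μ) : HP hF v hv := ⟨(w, μ), h⟩

theorem HP.mk_w (w : Fin n → F) (μ : F) (h : IsSiegel q v w μ) :
    (HP.mk hF hv w μ h).w = w := rfl

theorem HP.mk_m (w : Fin n → F) (μ : F) (h : IsSiegel q v w μ) :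
    (HP.mk hF hv w μ h).m = μ := rfl

instance instFinite : Finite (HP hF v hv) :=
  inferInstanceAs (Finite {p : (Fin n → F) × F // IsSiegel q v p.1 p.2})

instance instMul : Mul (HP hF v hv) :=
  ⟨fun a b => HP.mk hF hv (a.w + b.w) (a.m + b.m - hermForm n F q b.w a.w) (a.sg.mul hF b.sg)⟩

instance instOne : One (HP hF v hv) := ⟨HP.mk hF hv 0 0 (IsSiegel.zero hF hv)⟩

instance instInv : Inv (HP hF v hv) := ⟨fun a => HP.mk hF hv (-a.w) (a.m ^ q) (a.sg.inv hF)⟩

theorem mul_w (a b : HP hF v hv) : (a * b).w = a.w + b.w := rfl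

theorem mul_m (a b : HP hF v hv) : (a * b).m = a.m + b.m - hermForm n F q b.w a.w := rfl

theorem one_w : (1 : HP hF v hv).w = 0 := rfl

theorem one_m : (1 : HP hF v hv).m = 0 := rfl

theorem inv_w (a : HP hF v hv) : (a⁻¹).w = -a.w := rfl

theorem inv_m (a : HP hF v hv) : (a⁻¹).m = a.m ^ q := rfl

instance instGroup : Group (HP hF v hv) where
  mul_assoc a b c := by
    ext1
    · rw [mul_w, mul_w, mul_w, mul_w, add_assoc]
    · simp only [mul_m, mul_w, herm_add_left, herm_add_right hF]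
      ring
  one_mul a := by
    ext1
    · rw [mul_w, one_w, zero_add]
    · rw [mul_m, one_m, one_w, herm_zero_right hF]; ring
  mul_one a := by
    ext1
    · rw [mul_w, one_w, add_zero]
    · rw [mul_m, one_m, one_w, herm_zero_left]; ring
  inv_mul_cancel a := by
    ext1
    · rw [mul_w, inv_w, one_w, neg_add_cancel]
    · rw [mul_m, inv_m, inv_w, one_m, herm_neg_right hF]
      linear_combination a.sg.tr

/-- The homomorphism to `SU`. -/
def rho (hF : Fintype.card F = q ^ 2) (v : Fin n → F) (hv : hermForm n F q v v = 0) :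
    HP hF v hv →* SU n F q where
  toFun x := siegel hF v x.w x.m x.sg
  map_one' := siegel_zero hF _
  map_mul' x y := (siegel_mul hF x.sg y.sg).symm

theorem rho_apply (x : HP hF v hv) : rho hF v hv x = siegel hF v x.w x.m x.sg := rfl

theorem act_rho (x : HP hF v hv) (y : Fin n → F) :
    act (rho hF v hv x) y = y + hermForm n F q y v • x.w +
      (x.m * hermForm n F q y v - hermForm n F q y x.w) • v := act_siegel hF x.sg y

/-- Projection of a subgroup of pairs to the space. -/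
def prj (K : Subgroup (HP hF v hv)) : AddSubgroup (Fin n → F) where
  carrier := {w | ∃ x ∈ K, HP.w x = w}
  add_mem' := by
    rintro _ _ ⟨x, hx, rfl⟩ ⟨y, hy, rfl⟩
    exact ⟨x * y, K.mul_mem hx hy, rfl⟩
  zero_mem' := ⟨1, K.one_mem, rfl⟩
  neg_mem' := by
    rintro _ ⟨x, hx, rfl⟩
    exact ⟨x⁻¹, K.inv_mem hx, rfl⟩

theorem mem_prj {K : Subgroup (HP hF v hv)} {w : Fin n → F} :
    w ∈ prj K ↔ ∃ x ∈ K, HP.w x = w := Iff.rfl

/-- Intersection of a subgroup of pairs with the centre. -/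
def cen (K : Subgroup (HP hF v hv)) : AddSubgroup F where
  carrier := {c | ∃ x ∈ K, HP.w x = 0 ∧ HP.m x = c}
  add_mem' := by
    rintro _ _ ⟨x, hx, hx0, rfl⟩ ⟨y, hy, hy0, rfl⟩
    refine ⟨x * y, K.mul_mem hx hy, ?_, ?_⟩
    · rw [mul_w, hx0, hy0, add_zero]
    · rw [mul_m, hy0, herm_zero_left, sub_zero]
  zero_mem' := ⟨1, K.one_mem, rfl, rfl⟩
  neg_mem' := by
    rintro _ ⟨x, hx, hx0, rfl⟩
    refine ⟨x⁻¹, K.inv_mem hx, ?_, ?_⟩
    · rw [inv_w, hx0, neg_zero]
    · rw [inv_m]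
      have h := x.sg.tr
      rw [hx0, herm_zero_left, add_zero] at h
      exact eq_neg_of_add_eq_zero_right h

theorem mem_cen {K : Subgroup (HP hF v hv)} {c : F} :
    c ∈ cen K ↔ ∃ x ∈ K, HP.w x = 0 ∧ HP.m x = c := Iff.rfl

theorem cen_le (K : Subgroup (HP hF v hv)) : cen K ≤ T0 hF := by
  rintro _ ⟨x, -, hx0, rfl⟩
  have h := x.sg.tr
  rw [hx0, herm_zero_left, add_zero] at h
  exact h

/-- The order of a subgroup of pairs. -/
theorem card_eq (K : Subgroup (HP hF v hv)) :
    Nat.card K = Nat.card (prj K) * Nat.card (cen K) := by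
  let f : K →* Multiplicative (Fin n → F) :=
    { toFun := fun x => Multiplicative.ofAdd (HP.w x.1)
      map_one' := rfl
      map_mul' := fun x y => rfl }
  have h1 := Subgroup.card_mul_index f.ker
  rw [Subgroup.index_ker] at h1
  have h2 : Nat.card f.range = Nat.card (prj K) := by
    apply Nat.card_congr
    refine
      { toFun := fun x => ⟨Multiplicative.toAdd x.1, ?_⟩
        invFun := fun x => ⟨Multiplicative.ofAdd x.1, ?_⟩
        left_inv := fun x => rfl
        right_inv := fun x => rfl }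
    · obtain ⟨y, hy⟩ := x.2
      exact ⟨y.1, y.2, congrArg Multiplicative.toAdd hy⟩
    · obtain ⟨y, hy, hyx⟩ := x.2
      exact ⟨⟨y, hy⟩, congrArg Multiplicative.ofAdd hyx⟩
  have h3 : Nat.card f.ker = Nat.card (cen K) := by
    apply Nat.card_congr
    refine Equiv.ofBijective
      (fun x => (⟨HP.m x.1.1, ⟨x.1.1, x.1.2, congrArg Multiplicative.toAdd x.2, rfl⟩⟩ : cen K))
      ⟨?_, ?_⟩
    · rintro ⟨⟨x, hx⟩, hx0⟩ ⟨⟨y, hy⟩, hy0⟩ h
      have h1 : HP.m x = HP.m y := congrArg Subtype.val h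
      have h2 : HP.w x = 0 := congrArg Multiplicative.toAdd hx0
      have h3 : HP.w y = 0 := congrArg Multiplicative.toAdd hy0
      apply Subtype.ext
      apply Subtype.ext
      exact HP.ext (h2.trans h3.symm) h1
    · rintro ⟨_, x, hx, hx0, rfl⟩
      exact ⟨⟨⟨x, hx⟩, congrArg Multiplicative.ofAdd hx0⟩, rfl⟩
  rw [← h1, h2, h3, mul_comm]

/-- The pairs with first component in an additive subgroup. -/
def EX (X : AddSubgroup (Fin n → F)) : Subgroup (HP hF v hv) where
  carrier := {x | HP.w x ∈ X}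
  mul_mem' := fun ha hb => X.add_mem ha hb
  one_mem' := X.zero_mem
  inv_mem' := fun ha => X.neg_mem ha

theorem mem_EX {X : AddSubgroup (Fin n → F)} {x : HP hF v hv} :
    x ∈ (EX X : Subgroup (HP hF v hv)) ↔ HP.w x ∈ X := Iff.rfl

theorem exists_mu (hF : Fintype.card F = q ^ 2) (hv : hermForm n F q v v = 0) {w : Fin n → F}
    (hw : hermForm n F q w v = 0) : ∃ μ, IsSiegel q v w μ := by
  obtain ⟨μ, hμ⟩ := exists_trace_eq hF (c := -hermForm n F q w w)
    (by rw [neg_pow_q hF, herm_self_pow hF])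
  exact ⟨μ, hv, hw, by rw [hμ, neg_add_cancel]⟩

theorem prj_EX {X : AddSubgroup (Fin n → F)} (hX : ∀ z ∈ X, hermForm n F q z v = 0) :
    prj (EX X : Subgroup (HP hF v hv)) = X := by
  ext w
  constructor
  · rintro ⟨x, hx, rfl⟩
    exact hx
  · intro hw
    obtain ⟨μ, hμ⟩ := exists_mu hF hv (hX w hw)
    exact ⟨HP.mk hF hv w μ hμ, hw, rfl⟩

omit [Fintype F] in
theorem isSiegel_zero_iff (hv : hermForm n F q v v = 0) {c : F} :
    IsSiegel q v 0 c ↔ c + c ^ q = 0 := by
  constructor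
  · intro h
    have := h.tr
    rwa [herm_zero_left, add_zero] at this
  · intro h
    exact ⟨hv, herm_zero_left _, by rw [herm_zero_left, add_zero, h]⟩

theorem cen_EX {X : AddSubgroup (Fin n → F)} :
    cen (EX X : Subgroup (HP hF v hv)) = T0 hF := by
  apply le_antisymm (cen_le _)
  intro c hc
  exact ⟨HP.mk hF hv 0 c ((isSiegel_zero_iff hv).2 hc), X.zero_mem, rfl, rfl⟩

theorem card_EX {X : AddSubgroup (Fin n → F)} (hX : ∀ z ∈ X, hermForm n F q z v = 0) :
    Nat.card (EX X : Subgroup (HP hF v hv)) = Nat.card X * q := by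
  rw [card_eq, prj_EX hX, cen_EX, card_T0]

/-- Commutators. -/
theorem comm_mem_cen {K : Subgroup (HP hF v hv)} {a b : Fin n → F} (ha : a ∈ prj K)
    (hb : b ∈ prj K) : hermForm n F q a b - hermForm n F q b a ∈ cen K := by
  obtain ⟨x, hx, rfl⟩ := ha
  obtain ⟨y, hy, rfl⟩ := hb
  refine ⟨x * y * (y * x)⁻¹, K.mul_mem (K.mul_mem hx hy) (K.inv_mem (K.mul_mem hy hx)), ?_, ?_⟩
  · simp only [mul_w, inv_w]
    abel
  · have h : x * y * (y * x)⁻¹ * (y * x) = x * y := by group
    have h0 : HP.w (x * y * (y * x)⁻¹) = 0 := by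
      simp only [mul_w, inv_w]
      abel
    generalize x * y * (y * x)⁻¹ = z at h h0 ⊢
    have h1 := congrArg HP.m h
    rw [mul_m, h0, herm_zero_right hF, mul_m, mul_m] at h1
    linear_combination h1

/-- Bounding an index by a map that separates cosets. -/
theorem index_le {G' T : Type*} [Group G'] [Finite T] (K : Subgroup G') (f : G' → T)
    (h : ∀ x y, f x = f y → x⁻¹ * y ∈ K) : K.index ≤ Nat.card T := by
  rw [Subgroup.index]
  apply Nat.card_le_card_of_injective (fun c : G' ⧸ K => f c.out)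
  intro a b hab
  have := h _ _ hab
  rw [← QuotientGroup.eq, QuotientGroup.out_eq', QuotientGroup.out_eq'] at this
  exact this

end Cfsg.Agent.H77.Heis
end

-- part: H77/Iso
section
/-!
# Pairings over the prime field
-/

set_option autoImplicit false

namespace Cfsg.Agent.H77.Iso

open Cfsg Cfsg.Agent.LieClassical.HermBasic Cfsg.Agent.LieClassical.HermSiegel
open Cfsg.Agent.H77.Geom Cfsg.Agent.H77.Heis

theorem pairing_card {p : ℕ} [Fact p.Prime] {M : Type*} [AddCommGroup M] [Module (ZMod p) M]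
    [Finite M] (B : LinearMap.BilinForm (ZMod p) M) (W : Submodule (ZMod p) M) :
    Nat.card W * Nat.card (B.orthogonal W) =
      Nat.card M * Nat.card (W ⊓ LinearMap.ker B : Submodule (ZMod p) M) := by
  have : Module.Finite (ZMod p) M := Module.Finite.of_finite
  have h := LinearMap.BilinForm.finrank_add_finrank_orthogonal' (B := B) W
  rw [Module.natCard_eq_pow_finrank (K := ZMod p) (V := W),
    Module.natCard_eq_pow_finrank (K := ZMod p) (V := M),
    Module.natCard_eq_pow_finrank (K := ZMod p) (V := B.orthogonal W),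
    Module.natCard_eq_pow_finrank (K := ZMod p) (V := (W ⊓ LinearMap.ker B : Submodule (ZMod p) M)),
    ← pow_add, ← pow_add, h]

variable {F : Type*} [Field F] [Fintype F] {q n : ℕ}

/-- If the values `h(a, λ u) - h(λ u, a)` are killed by a functional nonzero on `T0`, then
`h(a, u) = 0`. -/
theorem eq_zero_of_comm (hF : Fintype.card F = q ^ 2) {A : Type*} [AddMonoid A] (φ : F →+ A)
    {τ : F} (hτ : τ ∈ T0 hF) (hφ : φ τ ≠ 0) {a u : Fin n → F}
    (h : ∀ t : F, φ (hermForm n F q a (t • u) - hermForm n F q (t • u) a) = 0) :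
    hermForm n F q a u = 0 := by
  by_contra h0
  obtain ⟨y, hy⟩ := ClassicalGeometry.UnitTransv.exists_sub_pow_eq hF hτ
  apply hφ
  have h1 := h ((y * (hermForm n F q a u)⁻¹) ^ q)
  rw [herm_smul_right, herm_smul_left, pow_q_pow_q hF, inv_mul_cancel_right₀ h0,
    herm_swap hF a u, mul_pow, inv_pow, inv_mul_cancel_right₀ (pow_ne_zero _ h0), hy] at h1
  exact h1

/-- A subgroup of pairs not containing the centre has small projection. -/
theorem card_prj_sq_le {hF : Fintype.card F = q ^ 2} {v : Fin n → F}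
    {hv : hermForm n F q v v = 0} (K : Subgroup (HP hF v hv)) (X : Submodule F (Fin n → F))
    (hKX : ∀ w ∈ prj K, w ∈ X) (hC : cen K ≠ T0 hF) :
    Nat.card (prj K) ^ 2 ≤ Nat.card X *
      Nat.card (X ⊓ perp q (X : Set (Fin n → F)) : Submodule F (Fin n → F)) := by
  classical
  obtain ⟨p, k, hp, hchar, hqk, hk0⟩ := exists_prime_pow hF
  have := Fact.mk hp
  let _ := ZMod.algebra F p
  obtain ⟨τ, hτ, hτC⟩ : ∃ τ ∈ T0 hF, τ ∉ cen K := by
    by_contra hcon
    push Not at hcon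
    exact hC (le_antisymm (cen_le K) hcon)
  obtain ⟨φ, hφ, hker⟩ := Submodule.exists_le_ker_of_notMem
    (p := AddSubgroup.toZModSubmodule p (cen K)) hτC
  let g (a : X) : X →+ ZMod p :=
    { toFun := fun u => φ (hermForm n F q (a : Fin n → F) u - hermForm n F q (u : Fin n → F) a)
      map_zero' := by
        rw [Submodule.coe_zero, herm_zero_left, herm_zero_right hF, sub_self, map_zero]
      map_add' := fun u u' => by
        rw [Submodule.coe_add, herm_add_left, herm_add_right hF, ← map_add]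
        congr 1
        ring }
  let G : X →+ (X →ₗ[ZMod p] ZMod p) :=
    { toFun := fun a => (g a).toZModLinearMap p
      map_zero' := by
        ext u
        change φ _ = 0
        rw [Submodule.coe_zero, herm_zero_left, herm_zero_right hF, sub_self, map_zero]
      map_add' := fun a a' => by
        ext u
        change φ _ = φ _ + φ _
        rw [Submodule.coe_add, herm_add_left, herm_add_right hF, ← map_add]
        congr 1
        ring }
  let B : LinearMap.BilinForm (ZMod p) X := G.toZModLinearMap p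
  have hB : ∀ a u : X, B a u =
      φ (hermForm n F q (a : Fin n → F) u - hermForm n F q (u : Fin n → F) a) := fun a u => rfl
  let W : Submodule (ZMod p) X :=
    AddSubgroup.toZModSubmodule p ((prj K).comap X.subtype.toAddMonoidHom)
  have hW : ∀ a : X, a ∈ W ↔ (a : Fin n → F) ∈ prj K := fun a => Iff.rfl
  have hcW : Nat.card W = Nat.card (prj K) := by
    apply Nat.card_congr
    refine
      { toFun := fun x => ⟨x.1.1, x.2⟩
        invFun := fun x => ⟨⟨x.1, hKX _ x.2⟩, x.2⟩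
        left_inv := fun x => rfl
        right_inv := fun x => rfl }
  have hWle : W ≤ B.orthogonal W := by
    intro b hb
    rw [LinearMap.BilinForm.mem_orthogonal_iff]
    intro a ha
    change B a b = 0
    rw [hB]
    exact hker (comm_mem_cen ((hW a).1 ha) ((hW b).1 hb))
  have h1 := pairing_card B W
  have h2 : Nat.card W ≤ Nat.card (B.orthogonal W) :=
    Nat.card_le_card_of_injective (Submodule.inclusion hWle) (Submodule.inclusion_injective hWle)
  have h3 : Nat.card (W ⊓ LinearMap.ker B : Submodule (ZMod p) X) ≤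
      Nat.card (X ⊓ perp q (X : Set (Fin n → F)) : Submodule F (Fin n → F)) := by
    refine Nat.card_le_card_of_injective (fun a => ⟨a.1.1, a.1.2, ?_⟩) ?_
    · intro u hu
      have ha := a.2.2
      apply eq_zero_of_comm hF φ.toAddMonoidHom hτ hφ
      intro t
      have := LinearMap.congr_fun (LinearMap.mem_ker.1 ha) ⟨t • u, X.smul_mem t hu⟩
      exact this
    · intro a b hab
      apply Subtype.ext
      apply Subtype.ext
      exact Subtype.mk.inj hab
  rw [hcW] at h1 h2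
  calc Nat.card (prj K) ^ 2 = Nat.card (prj K) * Nat.card (prj K) := sq _
    _ ≤ Nat.card (prj K) * Nat.card (B.orthogonal W) := Nat.mul_le_mul_left _ h2
    _ = _ := h1
    _ ≤ _ := Nat.mul_le_mul_left _ h3

/-- The dual of an additive subgroup `A` of `X` for the pairing `φ(h(a, b))`. -/
def dual (hF : Fintype.card F = q ^ 2) {p : ℕ} (φ : F →+ ZMod p) (A : AddSubgroup (Fin n → F))
    (X : Submodule F (Fin n → F)) : AddSubgroup (Fin n → F) where
  carrier := {b | b ∈ X ∧ ∀ a ∈ A, φ (hermForm n F q a b) = 0}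
  add_mem' := fun {b b'} hb hb' => ⟨X.add_mem hb.1 hb'.1, fun a ha => by
    rw [herm_add_right hF, map_add, hb.2 a ha, hb'.2 a ha, add_zero]⟩
  zero_mem' := ⟨X.zero_mem, fun a _ => by rw [herm_zero_right hF, map_zero]⟩
  neg_mem' := fun {b} hb => ⟨X.neg_mem hb.1, fun a ha => by
    rw [herm_neg_right hF, map_neg, hb.2 a ha, neg_zero]⟩

theorem mem_dual (hF : Fintype.card F = q ^ 2) {p : ℕ} {φ : F →+ ZMod p}
    {A : AddSubgroup (Fin n → F)} {X : Submodule F (Fin n → F)} {b : Fin n → F} :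
    b ∈ dual hF φ A X ↔ b ∈ X ∧ ∀ a ∈ A, φ (hermForm n F q a b) = 0 := Iff.rfl

/-- The order of the dual. -/
theorem card_dual (hF : Fintype.card F = q ^ 2) {p : ℕ} (hp : p.Prime) [CharP F p]
    (φ : F →+ ZMod p) (hφ : φ ≠ 0) (A : AddSubgroup (Fin n → F)) (X : Submodule F (Fin n → F))
    (hAX : ∀ a ∈ A, a ∈ X) (hrad : ∀ a ∈ X, a ∈ perp q (X : Set (Fin n → F)) → a ∈ A) :
    Nat.card A * Nat.card (dual hF φ A X) = Nat.card X *
      Nat.card (X ⊓ perp q (X : Set (Fin n → F)) : Submodule F (Fin n → F)) := by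
  classical
  have := Fact.mk hp
  let _ := ZMod.algebra F p
  let g (a : X) : X →+ ZMod p :=
    { toFun := fun u => φ (hermForm n F q (a : Fin n → F) u)
      map_zero' := by
        rw [Submodule.coe_zero, herm_zero_right hF, map_zero]
      map_add' := fun u u' => by
        rw [Submodule.coe_add, herm_add_right hF, ← map_add] }
  let G : X →+ (X →ₗ[ZMod p] ZMod p) :=
    { toFun := fun a => (g a).toZModLinearMap p
      map_zero' := by
        ext u
        change φ _ = 0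
        rw [Submodule.coe_zero, herm_zero_left, map_zero]
      map_add' := fun a a' => by
        ext u
        change φ _ = φ _ + φ _
        rw [Submodule.coe_add, herm_add_left, ← map_add] }
  let B : LinearMap.BilinForm (ZMod p) X := G.toZModLinearMap p
  have hB : ∀ a u : X, B a u = φ (hermForm n F q (a : Fin n → F) u) := fun a u => rfl
  let W : Submodule (ZMod p) X :=
    AddSubgroup.toZModSubmodule p (A.comap X.subtype.toAddMonoidHom)
  have hW : ∀ a : X, a ∈ W ↔ (a : Fin n → F) ∈ A := fun a => Iff.rfl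
  have hcW : Nat.card W = Nat.card A := by
    apply Nat.card_congr
    refine
      { toFun := fun x => ⟨x.1.1, x.2⟩
        invFun := fun x => ⟨⟨x.1, hAX _ x.2⟩, x.2⟩
        left_inv := fun x => rfl
        right_inv := fun x => rfl }
  have hcD : Nat.card (B.orthogonal W) = Nat.card (dual hF φ A X) := by
    apply Nat.card_congr
    refine
      { toFun := fun x => ⟨x.1.1, x.1.2, fun a ha => ?_⟩
        invFun := fun x => ⟨⟨x.1, x.2.1⟩, ?_⟩
        left_inv := fun x => rfl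
        right_inv := fun x => rfl }
    · have h := x.2
      rw [LinearMap.BilinForm.mem_orthogonal_iff] at h
      exact h ⟨a, hAX a ha⟩ ha
    · rw [LinearMap.BilinForm.mem_orthogonal_iff]
      intro a ha
      exact x.2.2 a.1 ha
  have hker : ∀ a : X, a ∈ LinearMap.ker B ↔ (a : Fin n → F) ∈ perp q (X : Set (Fin n → F)) := by
    intro a
    rw [LinearMap.mem_ker]
    constructor
    · intro ha u hu
      by_contra h0
      apply hφ
      ext s
      have h1 := LinearMap.congr_fun ha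
        ⟨(s * (hermForm n F q (a : Fin n → F) u)⁻¹) ^ q • u, X.smul_mem _ hu⟩
      rw [hB] at h1
      change φ (hermForm n F q (a : Fin n → F) (_ • u)) = 0 at h1
      rw [herm_smul_right, pow_q_pow_q hF, inv_mul_cancel_right₀ h0] at h1
      exact h1
    · intro ha
      ext u
      rw [hB, ha u.1 u.2, map_zero]
      rfl
  have hcR : Nat.card (W ⊓ LinearMap.ker B : Submodule (ZMod p) X) =
      Nat.card (X ⊓ perp q (X : Set (Fin n → F)) : Submodule F (Fin n → F)) := by
    apply Nat.card_congr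
    refine
      { toFun := fun x => ⟨x.1.1, x.1.2, (hker _).1 x.2.2⟩
        invFun := fun x => ⟨⟨x.1, x.2.1⟩, hrad _ x.2.1 x.2.2, (hker ⟨x.1, x.2.1⟩).2 x.2.2⟩
        left_inv := fun x => rfl
        right_inv := fun x => rfl }
  rw [← hcW, ← hcD, ← hcR]
  exact pairing_card B W

end Cfsg.Agent.H77.Iso
end

-- part: H77/Arith
section
/-!
# Polynomial inequalities
-/

set_option autoImplicit false

namespace Cfsg.Agent.H77.Arith

/-- Substitution principle. -/
theorem sub_pos {P : ℤ → ℤ → Prop} (k : ℕ) (H : ∀ s t : ℕ, P (2 + (s : ℤ)) ((2 + (s : ℤ)) ^ k + (t : ℤ)))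
    {q X : ℤ} (hq : 2 ≤ q) (hX : q ^ k ≤ X) : P q X := by
  obtain ⟨s, hs⟩ := Int.eq_ofNat_of_zero_le (sub_nonneg.2 hq)
  obtain ⟨t, ht⟩ := Int.eq_ofNat_of_zero_le (sub_nonneg.2 hX)
  have h1 : q = 2 + (s : ℤ) := by linarith
  have h2 : X = (2 + (s : ℤ)) ^ k + t := by rw [← h1]; linarith
  rw [h2, h1]
  exact H s t

theorem a0 {q X ε : ℤ} (hq : 2 ≤ q) (hX : q ^ 3 ≤ X) (hε : ε = 1 ∨ ε = -1) :
    (q ^ 2 * X - ε) * (q * X + ε) * q ^ 2 ≤ X ^ 3 * (X - ε) := by
  rcases hε with rfl | rfl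
  · refine sub_pos (P := fun q X => (q ^ 2 * X - 1) * (q * X + 1) * q ^ 2 ≤ X ^ 3 * (X - 1)) 3 ?_ hq hX
    intro s t
    rw [← sub_nonneg]
    ring_nf
    positivity
  · refine sub_pos (P := fun q X => (q ^ 2 * X - -1) * (q * X + -1) * q ^ 2 ≤ X ^ 3 * (X - -1)) 3 ?_ hq hX
    intro s t
    rw [← sub_nonneg]
    ring_nf
    positivity

theorem b0 {q X ε : ℤ} (hq : 2 ≤ q) (hX : q ^ 3 ≤ X) (hε : ε = 1 ∨ ε = -1) :
    (q ^ 2 * X - ε) * (q * X + ε) * q ^ 2 ≤ (X - ε) * (X + ε * q) * X ^ 2 := by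
  rcases hε with rfl | rfl
  · refine sub_pos (P := fun q X => (q ^ 2 * X - 1) * (q * X + 1) * q ^ 2 ≤
      (X - 1) * (X + 1 * q) * X ^ 2) 3 ?_ hq hX
    intro s t
    rw [← sub_nonneg]
    ring_nf
    positivity
  · refine sub_pos (P := fun q X => (q ^ 2 * X - -1) * (q * X + -1) * q ^ 2 ≤
      (X - -1) * (X + -1 * q) * X ^ 2) 3 ?_ hq hX
    intro s t
    rw [← sub_nonneg]
    ring_nf
    positivity

theorem k2 {q X ε : ℤ} (hq : 2 ≤ q) (hX : q ^ 3 ≤ X) (hε : ε = 1 ∨ ε = -1) :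
    (q ^ 2 * X - ε) * (q * X + ε) * (X - 1) ≤
      (q + 1) * (q ^ 2 - 1) * (X - ε) * (X + ε * q) * X := by
  rcases hε with rfl | rfl
  · refine sub_pos (P := fun q X => (q ^ 2 * X - 1) * (q * X + 1) * (X - 1) ≤
      (q + 1) * (q ^ 2 - 1) * (X - 1) * (X + 1 * q) * X) 3 ?_ hq hX
    intro s t
    rw [← sub_nonneg]
    ring_nf
    positivity
  · refine sub_pos (P := fun q X => (q ^ 2 * X - -1) * (q * X + -1) * (X - 1) ≤
      (q + 1) * (q ^ 2 - 1) * (X - -1) * (X + -1 * q) * X) 3 ?_ hq hX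
    intro s t
    rw [← sub_nonneg]
    ring_nf
    positivity

theorem ka {q X ε : ℤ} (hq : 2 ≤ q) (hX : q ^ 4 ≤ X) (hε : ε = 1 ∨ ε = -1) :
    (q ^ 2 * X - ε) * (q * X + ε) ≤ (X - ε) * (X + ε * q) * X := by
  rcases hε with rfl | rfl
  · refine sub_pos (P := fun q X => (q ^ 2 * X - 1) * (q * X + 1) ≤
      (X - 1) * (X + 1 * q) * X) 4 ?_ hq hX
    intro s t
    rw [← sub_nonneg]
    ring_nf
    positivity
  · refine sub_pos (P := fun q X => (q ^ 2 * X - -1) * (q * X + -1) ≤
      (X - -1) * (X + -1 * q) * X) 4 ?_ hq hX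
    intro s t
    rw [← sub_nonneg]
    ring_nf
    positivity

/-- `k ≤ q^3 + q` in dimension five. -/
theorem k5 {q k : ℤ} (hq : 2 ≤ q) (h : k * q ^ 4 < (q ^ 5 + 1) * (q ^ 2 + 1)) :
    k ≤ q ^ 3 + q := by
  by_contra hcon
  have h1 : q ^ 3 + q + 1 ≤ k := by linarith
  have h2 : (q ^ 3 + q + 1) * q ^ 4 ≤ k * q ^ 4 := mul_le_mul_of_nonneg_right h1 (by positivity)
  have h3 : q ^ 2 + 1 ≤ q ^ 4 := by nlinarith [mul_self_nonneg (q ^ 2 - 1), sq_nonneg q]
  nlinarith

theorem last5 {q k a0 ac : ℤ} (hq : 2 ≤ q) (hk0 : 0 ≤ k) (hk : k ≤ q ^ 3 + q) (ha : a0 + ac ≤ q ^ 5 - q ^ 2)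
    (h1 : q ^ 2 * (q ^ 3 + 1) * (q ^ 2 - 1) ≤ k * a0) (h2 : q * (q ^ 4 * (q ^ 3 + 1)) ≤ k * ac) :
    False := by
  have hq2 : (0 : ℤ) ≤ q ^ 5 - q ^ 2 := by
    have : q ^ 2 * 1 ≤ q ^ 2 * q ^ 3 := by
      apply mul_le_mul_of_nonneg_left _ (by positivity)
      nlinarith [pow_le_pow_left₀ (by norm_num : (0:ℤ) ≤ 2) hq 3]
    nlinarith
  have h3 : k * (a0 + ac) ≤ (q ^ 3 + q) * (q ^ 5 - q ^ 2) := by
    calc k * (a0 + ac) ≤ k * (q ^ 5 - q ^ 2) := mul_le_mul_of_nonneg_left ha hk0
      _ ≤ _ := mul_le_mul_of_nonneg_right hk hq2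
  have h4 : q ^ 2 * (q ^ 3 + 1) * (q ^ 2 - 1) + q * (q ^ 4 * (q ^ 3 + 1)) ≤
      (q ^ 3 + q) * (q ^ 5 - q ^ 2) := by
    calc _ ≤ k * a0 + k * ac := add_le_add h1 h2
      _ = k * (a0 + ac) := by ring
      _ ≤ _ := h3
  have h5 : (q ^ 3 + q) * (q ^ 5 - q ^ 2) < q ^ 2 * (q ^ 3 + 1) * (q ^ 2 - 1) +
      q * (q ^ 4 * (q ^ 3 + 1)) := by
    obtain ⟨s, hs⟩ := Int.eq_ofNat_of_zero_le (sub_nonneg.2 hq)
    have h1 : q = 2 + (s : ℤ) := by linarith
    rw [h1, ← _root_.sub_pos]
    ring_nf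
    positivity
  linarith

end Cfsg.Agent.H77.Arith
end

-- part: H77/Key1
section
/-!
# Images of an additive subgroup of `e^⊥`: double counting and local analysis
-/

set_option autoImplicit false

namespace Cfsg.Agent.H77.Key1

open Cfsg Cfsg.Agent.LieClassical.HermBasic Cfsg.Agent.LieClassical.HermSiegel
open Cfsg.Agent.H77.Geom Cfsg.Agent.H77.Heis Cfsg.Agent.H77.Iso

variable {F : Type*} [Field F] [Fintype F] {q n : ℕ}

/-- The transvection `y ↦ y + c h(y, w) w`. -/
def tv (hF : Fintype.card F = q ^ 2) (w : Fin n → F) (hw : hermForm n F q w w = 0) (c : F)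
    (hc : c ∈ T0 hF) : SU n F q :=
  siegel hF w 0 c ((isSiegel_zero_iff hw).2 hc)

theorem act_tv (hF : Fintype.card F = q ^ 2) (w : Fin n → F) (hw : hermForm n F q w w = 0) (c : F)
    (hc : c ∈ T0 hF) (y : Fin n → F) :
    act (tv hF w hw c hc) y = y + (c * hermForm n F q y w) • w := by
  rw [tv, act_siegel, smul_zero, add_zero, herm_zero_right hF, sub_zero]

theorem tv_mul (hF : Fintype.card F = q ^ 2) (w : Fin n → F) (hw : hermForm n F q w w = 0)
    (c d : F) (hc : c ∈ T0 hF) (hd : d ∈ T0 hF) :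
    tv hF w hw c hc * tv hF w hw d hd = tv hF w hw (c + d) ((T0 hF).add_mem hc hd) := by
  apply ext_act
  intro v
  rw [act_mul, act_tv, act_tv, act_tv, herm_add_left, herm_smul_left, hw]
  rw [mul_zero, add_zero, add_mul, add_smul]
  abel

open Classical in
/-- The images of a set under the stabiliser of `e`. -/
noncomputable def Imgs (q : ℕ) (e : Fin n → F) (A : Set (Fin n → F)) : Finset (Set (Fin n → F)) :=
  Finset.univ.filter (fun B => ∃ g : SU n F q, act g e = e ∧ act g '' A = B)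

theorem mem_Imgs {e : Fin n → F} {A B : Set (Fin n → F)} :
    B ∈ Imgs q e A ↔ ∃ g : SU n F q, act g e = e ∧ act g '' A = B := by
  classical
  rw [Imgs, Finset.mem_filter]
  simp

open Classical in
/-- Vectors of norm `c` orthogonal to `e` outside the line of `e`. -/
noncomputable def OC (q : ℕ) (e : Fin n → F) (c : F) : Finset (Fin n → F) :=
  Finset.univ.filter (fun x => hermForm n F q x x = c ∧ hermForm n F q x e = 0 ∧
    x ∉ Submodule.span F {e})

theorem mem_OC {e x : Fin n → F} {c : F} :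
    x ∈ OC q e c ↔ hermForm n F q x x = c ∧ hermForm n F q x e = 0 ∧
      x ∉ Submodule.span F {e} := by
  classical
  rw [OC, Finset.mem_filter]
  simp

omit [Fintype F] in
theorem act_inv_fix {e : Fin n → F} {g : SU n F q} (hg : act g e = e) : act g⁻¹ e = e :=
  ((act_eq_iff g).1 hg).symm

omit [Fintype F] in
theorem act_span {e x : Fin n → F} {g : SU n F q} (hg : act g e = e)
    (hx : x ∉ Submodule.span F {e}) : act g x ∉ Submodule.span F {e} := by
  intro h
  apply hx
  obtain ⟨a, ha⟩ := Submodule.mem_span_singleton.1 h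
  rw [Submodule.mem_span_singleton]
  refine ⟨a, ?_⟩
  rw [← act_inv_act g x, ← ha, act_smul, act_inv_fix hg]

theorem act_mem_OC {e x : Fin n → F} {c : F} {g : SU n F q} (hg : act g e = e)
    (hx : x ∈ OC q e c) : act g x ∈ OC q e c := by
  rw [mem_OC] at *
  refine ⟨by rw [herm_act]; exact hx.1, ?_, act_span hg hx.2.2⟩
  conv_lhs => rw [← hg]
  rw [herm_act]
  exact hx.2.1

theorem act_mem_Imgs {e : Fin n → F} {A B : Set (Fin n → F)} {g : SU n F q} (hg : act g e = e)
    (hB : B ∈ Imgs q e A) : act g '' B ∈ Imgs q e A := by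
  rw [mem_Imgs] at *
  obtain ⟨g', hg', rfl⟩ := hB
  refine ⟨g * g', by rw [act_mul, hg', hg], ?_⟩
  rw [Set.image_image]
  exact Set.image_congr fun x _ => act_mul g g' x

open Classical in
/-- The number of images containing a given vector. -/
noncomputable def sn (q : ℕ) (e : Fin n → F) (A : Set (Fin n → F)) (x : Fin n → F) : ℕ :=
  ((Imgs q e A).filter (fun B => x ∈ B)).card

open Classical in
/-- The number of vectors of norm `c` in `A`, outside the line of `e`. -/
noncomputable def an (q : ℕ) (e : Fin n → F) (A : Set (Fin n → F)) (c : F) : ℕ :=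
  ((OC q e c).filter (fun x => x ∈ A)).card

theorem sn_eq {e : Fin n → F} {A : Set (Fin n → F)} {x : Fin n → F}
    [DecidablePred (fun B : Set (Fin n → F) => x ∈ B)] :
    sn q e A x = ((Imgs q e A).filter (fun B => x ∈ B)).card := by
  rw [sn]
  congr

theorem an_eq {e : Fin n → F} {A : Set (Fin n → F)} {c : F}
    [DecidablePred (fun x : Fin n → F => x ∈ A)] :
    an q e A c = ((OC q e c).filter (fun x => x ∈ A)).card := by
  rw [an]
  congr

/-- Double counting. -/
theorem double_count (hF : Fintype.card F = q ^ 2) (hn : 5 ≤ n) {e : Fin n → F} (he0 : e ≠ 0)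
    (A : Set (Fin n → F)) {x₀ : Fin n → F} {c : F} (hx₀ : x₀ ∈ OC q e c) :
    (Imgs q e A).card * an q e A c = (OC q e c).card * sn q e A x₀ := by
  classical
  apply Finset.card_mul_eq_card_mul (fun (B : Set (Fin n → F)) x => x ∈ B)
  · intro B hB
    obtain ⟨g, hg, rfl⟩ := mem_Imgs.1 hB
    rw [an]
    apply Finset.card_bij (fun x _ => act g⁻¹ x)
    · intro x hx
      rw [Finset.mem_bipartiteAbove] at hx
      rw [Finset.mem_filter]
      refine ⟨act_mem_OC (act_inv_fix hg) hx.1, ?_⟩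
      obtain ⟨y, hy, hyx⟩ := hx.2
      rw [← hyx, act_inv_act]
      exact hy
    · intro x _ y _ hxy
      exact act_injective _ hxy
    · intro y hy
      rw [Finset.mem_filter] at hy
      refine ⟨act g y, ?_, act_inv_act g y⟩
      rw [Finset.mem_bipartiteAbove]
      exact ⟨act_mem_OC hg hy.1, ⟨y, hy.2, rfl⟩⟩
  · intro x hx
    have hx' := mem_OC.1 hx
    have hx₀' := mem_OC.1 hx₀
    obtain ⟨g, hg, hgx⟩ := exists_fix_map hF hn he0 hx₀'.2.1 hx'.2.1 hx₀'.2.2 hx'.2.2
      (hx₀'.1.trans hx'.1.symm)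
    rw [sn]
    symm
    apply Finset.card_bij (fun B _ => act g '' B)
    · intro B hB
      rw [Finset.mem_filter] at hB
      rw [Finset.mem_bipartiteBelow]
      exact ⟨act_mem_Imgs hg hB.1, ⟨x₀, hB.2, hgx⟩⟩
    · intro B _ B' _ hBB
      exact (Set.image_injective.2 (act_injective g)) hBB
    · intro B hB
      rw [Finset.mem_bipartiteBelow] at hB
      refine ⟨act g⁻¹ '' B, ?_, ?_⟩
      · rw [Finset.mem_filter]
        refine ⟨act_mem_Imgs (act_inv_fix hg) hB.1, ⟨x, hB.2, ?_⟩⟩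
        rw [← hgx, act_inv_act]
      · rw [Set.image_image]
        simp only [act_act_inv, Set.image_id']

/-! ### Orders of the orbits -/

theorem neg_pow_eq (n : ℕ) (hn : 2 ≤ n) (q : ℤ) :
    (-q) ^ n = (-1) ^ n * (q ^ 2 * q ^ (n - 2)) := by
  rw [neg_pow, ← pow_add, Nat.add_sub_cancel' hn]

theorem card_OC_ne (hF : Fintype.card F = q ^ 2) (hn : 5 ≤ n) {e : Fin n → F} (he0 : e ≠ 0)
    (he : hermForm n F q e e = 0) {c : F} (hc : c ^ q = c) (hc0 : c ≠ 0) :
    ((OC q e c).card : ℤ) = q * ((q : ℤ) ^ (n - 2) * ((q : ℤ) ^ (n - 2) - (-1) ^ n)) := by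
  classical
  have h2 := two_le hF
  have h1 := card_norm_perp hF he0 he hc
  rw [LieClassical.HermCount.card_herm_eq hF n hc hc0, neg_pow_eq n (by omega)] at h1
  have h3 : Nat.card {v : Fin n → F // hermForm n F q v v = c ∧ hermForm n F q v e = 0} =
      (OC q e c).card := by
    rw [Nat.card_eq_fintype_card, Fintype.card_subtype, OC]
    congr 1
    ext x
    simp only [Finset.mem_filter, Finset.mem_univ, true_and]
    constructor
    · rintro ⟨hx, hxe⟩
      refine ⟨hx, hxe, fun h => hc0 ?_⟩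
      obtain ⟨a, ha⟩ := Submodule.mem_span_singleton.1 h
      rw [← hx, ← ha, herm_smul_left, herm_smul_right, he, mul_zero, mul_zero]
    · rintro ⟨hx, hxe, -⟩
      exact ⟨hx, hxe⟩
  rw [h3] at h1
  have hq0 : (q : ℤ) ≠ 0 := by exact_mod_cast (by omega : q ≠ 0)
  apply mul_left_cancel₀ hq0
  have h4 : (q : ℤ) ^ (2 * (n - 1)) = q ^ 2 * ((q : ℤ) ^ (n - 2)) ^ 2 := by
    rw [← pow_mul, ← pow_add]
    congr 1
    omega
  rw [h4] at h1
  linear_combination h1

theorem card_OC_zero (hF : Fintype.card F = q ^ 2) (hn : 5 ≤ n) {e : Fin n → F} (he0 : e ≠ 0)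
    (he : hermForm n F q e e = 0) :
    ((OC q e 0).card : ℤ) =
      q * (((q : ℤ) ^ (n - 2) - (-1) ^ n) * ((q : ℤ) ^ (n - 2) + (-1) ^ n * q)) := by
  classical
  have h2 := two_le hF
  have h1 := card_norm_perp hF he0 he (zero_pow_q hF)
  rw [LieClassical.HermCount.card_herm_eq_zero hF n, neg_pow_eq n (by omega)] at h1
  have h3 : Nat.card {v : Fin n → F // hermForm n F q v v = 0 ∧ hermForm n F q v e = 0} =
      (OC q e 0).card + q ^ 2 := by
    rw [← card_span_one hF he0, Nat.card_eq_fintype_card, Nat.card_eq_fintype_card,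
      Fintype.card_subtype, OC]
    rw [← Finset.card_filter_add_card_filter_not (s := Finset.univ.filter
      (fun v : Fin n → F => hermForm n F q v v = 0 ∧ hermForm n F q v e = 0))
      (fun x => x ∉ Submodule.span F {e}), Finset.filter_filter, Finset.filter_filter]
    congr 1
    · congr 1
      ext x
      simp only [Finset.mem_filter, Finset.mem_univ, true_and, and_assoc]
    · rw [Fintype.card_subtype]
      congr 1
      ext x
      simp only [Finset.mem_filter, Finset.mem_univ, true_and, not_not]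
      constructor
      · rintro ⟨-, h⟩
        exact h
      · intro h
        refine ⟨?_, h⟩
        obtain ⟨a, ha⟩ := Submodule.mem_span_singleton.1 h
        rw [← ha, herm_smul_left, herm_smul_right, herm_smul_left, he]
        simp
  rw [h3] at h1
  have hq0 : (q : ℤ) ≠ 0 := by exact_mod_cast (by omega : q ≠ 0)
  apply mul_left_cancel₀ hq0
  have h4 : (q : ℤ) ^ (2 * (n - 1)) = q ^ 2 * ((q : ℤ) ^ (n - 2)) ^ 2 := by
    rw [← pow_mul, ← pow_add]
    congr 1
    omega
  have h5 : ((-1 : ℤ) ^ n) * ((-1 : ℤ) ^ n) = 1 := by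
    rw [← mul_pow]; simp
  rw [h4] at h1
  push_cast at h1
  linear_combination h1 + (q : ℤ) ^ 3 * h5

end Cfsg.Agent.H77.Key1
end

-- part: H77/Key2
section
/-!
# The stabiliser of `A` in the unipotent group of an isotropic vector
-/

set_option autoImplicit false

namespace Cfsg.Agent.H77.Key2

open Cfsg Cfsg.Agent.LieClassical.HermBasic Cfsg.Agent.LieClassical.HermSiegel
open Cfsg.Agent.H77.Geom Cfsg.Agent.H77.Heis Cfsg.Agent.H77.Iso Cfsg.Agent.H77.Key1

variable {F : Type*} [Field F] [Fintype F] {q n : ℕ}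

omit [Fintype F] in
theorem image_mul (g h : SU n F q) (A : Set (Fin n → F)) :
    act (g * h) '' A = act g '' (act h '' A) := by
  rw [Set.image_image]
  exact Set.image_congr fun x _ => act_mul g h x

omit [Fintype F] in
theorem image_one (A : Set (Fin n → F)) : act (1 : SU n F q) '' A = A := by
  have : (act (1 : SU n F q) : (Fin n → F) → (Fin n → F)) = id := funext fun x => act_one x
  rw [this, Set.image_id]

/-- The setwise stabiliser. -/
def SA (q : ℕ) (A : Set (Fin n → F)) : Subgroup (SU n F q) where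
  carrier := {g | act g '' A = A}
  mul_mem' := by
    intro g h hg hh
    change act (g * h) '' A = A
    rw [image_mul, show act h '' A = A from hh, show act g '' A = A from hg]
  one_mem' := image_one A
  inv_mem' := by
    intro g hg
    change act g⁻¹ '' A = A
    conv_lhs => rw [← show act g '' A = A from hg]
    rw [← image_mul, inv_mul_cancel, image_one]

omit [Fintype F] in
theorem mem_SA {A : Set (Fin n → F)} {g : SU n F q} : g ∈ SA q A ↔ act g '' A = A := Iff.rfl

omit [Fintype F] in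
theorem SA_mem {A : Set (Fin n → F)} {g : SU n F q} (hg : g ∈ SA q A) {x : Fin n → F}
    (hx : x ∈ A) : act g x ∈ A := by
  rw [← mem_SA.1 hg]
  exact ⟨x, hx, rfl⟩

/-- The stabiliser in the group of pairs. -/
def KK (hF : Fintype.card F = q ^ 2) (v : Fin n → F) (hv : hermForm n F q v v = 0)
    (e : Fin n → F) (A : Set (Fin n → F)) : Subgroup (HP hF v hv) :=
  EX (perp q {e, v}).toAddSubgroup ⊓ (SA q A).comap (rho hF v hv)

theorem mem_KK {hF : Fintype.card F = q ^ 2} {v : Fin n → F} {hv : hermForm n F q v v = 0}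
    {e : Fin n → F} {A : Set (Fin n → F)} {x : HP hF v hv} :
    x ∈ KK hF v hv e A ↔ x.w ∈ perp q {e, v} ∧ act (rho hF v hv x) '' A = A := Iff.rfl

/-- `X_v ∩ X_v^⊥` has at most `q ^ 4` elements. -/
theorem card_rad_le (hF : Fintype.card F = q ^ 2) {e v : Fin n → F} (he0 : e ≠ 0)
    (hv : v ∉ Submodule.span F {e}) :
    Nat.card (perp q {e, v} ⊓ perp q ((perp q {e, v} : Submodule F (Fin n → F)) :
      Set (Fin n → F)) : Submodule F (Fin n → F)) ≤ q ^ 4 := by
  rw [← card_span_two hF he0 hv]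
  have hle : (perp q {e, v} ⊓ perp q ((perp q {e, v} : Submodule F (Fin n → F)) :
      Set (Fin n → F)) : Submodule F (Fin n → F)) ≤ Submodule.span F {e, v} := by
    intro x hx
    by_contra hxs
    obtain ⟨y, hy, hyx⟩ := exists_perp_ne (q := q) hF hxs
    exact hyx (herm_eq_zero_swap hF (hx.2 y hy))
  exact Nat.card_le_card_of_injective (Submodule.inclusion hle) (Submodule.inclusion_injective hle)

/-- Orbit of `A` under the group of pairs fixing `e` and `v`. -/
theorem card_le_sn (hF : Fintype.card F = q ^ 2) {e v : Fin n → F} (he0 : e ≠ 0)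
    (hv : hermForm n F q v v = 0) (hve : hermForm n F q v e = 0)
    (hvs : v ∉ Submodule.span F {e}) {A : Set (Fin n → F)} (hvA : v ∈ A) :
    q ^ (2 * (n - 2)) * q ≤ sn q e A v *
      (Nat.card (prj (KK hF v hv e A)) * Nat.card (cen (KK hF v hv e A))) := by
  classical
  set E : Subgroup (HP hF v hv) := EX (perp q {e, v}).toAddSubgroup with hE
  set K := KK hF v hv e A with hK
  have hKE : K ≤ E := inf_le_left
  have hcE : Nat.card E = q ^ (2 * (n - 2)) * q := by
    rw [hE, card_EX (fun z hz => (mem_perp_pair.1 hz).2)]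
    congr 1
    exact card_perp_two hF he0 hvs
  have h1 := Subgroup.card_mul_index (K.subgroupOf E)
  have h2 : Nat.card (K.subgroupOf E) = Nat.card K :=
    Nat.card_congr (Subgroup.subgroupOfEquivOfLe hKE).toEquiv
  have h3 : (K.subgroupOf E).index ≤ sn q e A v := by
    have h4 : Nat.card {B // B ∈ (Imgs q e A).filter (fun B => v ∈ B)} = sn q e A v := by
      rw [Nat.card_eq_fintype_card, Fintype.card_coe, sn_eq]
    rw [← h4]
    apply index_le _ (fun x : E => (⟨act (rho hF v hv x.1) '' A, by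
      rw [Finset.mem_filter, mem_Imgs]
      have hx := mem_perp_pair.1 x.2
      refine ⟨⟨rho hF v hv x.1, ?_, rfl⟩, ⟨v, hvA, ?_⟩⟩
      · rw [act_rho, herm_eq_zero_swap hF hve, herm_eq_zero_swap hF hx.1]
        simp
      · exact act_siegel_self hF x.1.sg⟩ : {B // B ∈ (Imgs q e A).filter (fun B => v ∈ B)}))
    intro x y hxy
    have h5 : act (rho hF v hv x.1) '' A = act (rho hF v hv y.1) '' A := congrArg Subtype.val hxy
    rw [Subgroup.mem_subgroupOf]
    refine mem_KK.2 ⟨(x⁻¹ * y).2, ?_⟩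
    rw [Subgroup.coe_mul, Subgroup.coe_inv, map_mul, map_inv,
      image_mul, ← h5, ← image_mul, inv_mul_cancel, image_one]
  rw [h2, hcE] at h1
  rw [← h1, card_eq K, mul_comm]
  exact Nat.mul_le_mul_right _ h3

/-- The whole group `Z_v` stabilises `A`, and the stabiliser is large. -/
theorem cen_eq (hF : Fintype.card F = q ^ 2) (hn : 5 ≤ n) {e v : Fin n → F} (he0 : e ≠ 0)
    (hv : hermForm n F q v v = 0) (hve : hermForm n F q v e = 0)
    (hvs : v ∉ Submodule.span F {e}) {A : Set (Fin n → F)} (hvA : v ∈ A)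
    (hs : sn q e A v ≤ q) : cen (KK hF v hv e A) = T0 hF := by
  by_contra hC
  have h2 := two_le hF
  have h1 := card_le_sn hF he0 hv hve hvs hvA
  have h3 := card_prj_sq_le (KK hF v hv e A) (perp q {e, v}) (by
    rintro _ ⟨x, hx, rfl⟩
    exact (mem_KK.1 hx).1) hC
  rw [card_perp_two hF he0 hvs] at h3
  have h4 := h3.trans (Nat.mul_le_mul_left _ (card_rad_le hF he0 hvs))
  have h5 : Nat.card (prj (KK hF v hv e A)) ≤ q ^ n := by
    rw [← pow_add, show 2 * (n - 2) + 4 = n * 2 by omega, pow_mul] at h4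
    exact (Nat.pow_le_pow_iff_left two_ne_zero).1 h4
  have h6 : 2 * Nat.card (cen (KK hF v hv e A)) ≤ q := by
    have hle := cen_le (KK hF v hv e A)
    have hdvd := AddSubgroup.card_dvd_of_le hle
    rw [card_T0] at hdvd
    obtain ⟨m, hm⟩ := hdvd
    have hm1 : m ≠ 1 := by
      rintro rfl
      apply hC
      apply AddSubgroup.eq_of_le_of_card_ge hle
      rw [card_T0]
      omega
    have hm0 : m ≠ 0 := by
      rintro rfl
      omega
    have : 2 ≤ m := by omega
    calc 2 * Nat.card (cen (KK hF v hv e A)) ≤ m * Nat.card (cen (KK hF v hv e A)) :=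
          Nat.mul_le_mul_right _ this
      _ = q := by rw [mul_comm, ← hm]
  have h7 : 2 * (q ^ (2 * (n - 2)) * q) ≤ q * (q ^ n * q) := by
    calc 2 * (q ^ (2 * (n - 2)) * q) ≤ 2 * (q * (q ^ n * Nat.card (cen (KK hF v hv e A)))) := by
          refine Nat.mul_le_mul_left _ (h1.trans ?_)
          exact Nat.mul_le_mul hs (Nat.mul_le_mul_right _ h5)
      _ = q * (q ^ n * (2 * Nat.card (cen (KK hF v hv e A)))) := by ring
      _ ≤ _ := Nat.mul_le_mul_left _ (Nat.mul_le_mul_left _ h6)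
  have h8 : q * (q ^ n * q) ≤ q ^ (2 * (n - 2)) * q := by
    rw [← pow_succ, ← pow_succ', ← pow_succ]
    exact Nat.pow_le_pow_right (by omega) (by omega)
  have h9 : 0 < q ^ (2 * (n - 2)) * q := by positivity
  omega

theorem card_prj_ge (hF : Fintype.card F = q ^ 2) (hn : 5 ≤ n) {e v : Fin n → F} (he0 : e ≠ 0)
    (hv : hermForm n F q v v = 0) (hve : hermForm n F q v e = 0)
    (hvs : v ∉ Submodule.span F {e}) {A : Set (Fin n → F)} (hvA : v ∈ A)
    (hs : sn q e A v ≤ q) :
    q ^ (2 * (n - 2)) ≤ sn q e A v * Nat.card (prj (KK hF v hv e A)) := by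
  have h1 := card_le_sn hF he0 hv hve hvs hvA
  rw [cen_eq hF hn he0 hv hve hvs hvA hs, card_T0, ← mul_assoc] at h1
  exact Nat.le_of_mul_le_mul_right h1 (q_pos hF)

/-- `c h(x, v) v ∈ A` for all `x ∈ A` and `c` of trace zero. -/
theorem smul_mem (hF : Fintype.card F = q ^ 2) (hn : 5 ≤ n) {e v : Fin n → F} (he0 : e ≠ 0)
    (hv : hermForm n F q v v = 0) (hve : hermForm n F q v e = 0)
    (hvs : v ∉ Submodule.span F {e}) {A : AddSubgroup (Fin n → F)} (hvA : v ∈ A)
    (hs : sn q e (A : Set (Fin n → F)) v ≤ q) {x : Fin n → F} (hx : x ∈ A) {c : F}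
    (hc : c ∈ T0 hF) : (c * hermForm n F q x v) • v ∈ A := by
  rw [← cen_eq hF hn he0 hv hve hvs (A := (A : Set (Fin n → F))) hvA hs] at hc
  obtain ⟨y, hy, hyw, hym⟩ := hc
  have h1 : act (rho hF v hv y) x ∈ A := SA_mem hy.2 hx
  rw [act_rho, hyw, hym, smul_zero, add_zero, herm_zero_right hF, sub_zero] at h1
  have h2 := A.sub_mem h1 hx
  rwa [add_sub_cancel_left] at h2

/-- If some `x ∈ A` is not orthogonal to `v` then `A ∩ X_v` is large. -/
theorem card_inter_ge (hF : Fintype.card F = q ^ 2) (hn : 5 ≤ n) {e v : Fin n → F} (he0 : e ≠ 0)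
    (hv : hermForm n F q v v = 0) (hve : hermForm n F q v e = 0)
    (hvs : v ∉ Submodule.span F {e}) {A : AddSubgroup (Fin n → F)} (hvA : v ∈ A)
    (hs : sn q e (A : Set (Fin n → F)) v ≤ q) {x : Fin n → F} (hx : x ∈ A)
    (hxv : hermForm n F q x v ≠ 0) :
    q ^ (2 * (n - 2)) ≤ sn q e (A : Set (Fin n → F)) v *
      (q * Nat.card (A ⊓ (perp q {e, v}).toAddSubgroup : AddSubgroup (Fin n → F))) := by
  classical
  have hv0 : v ≠ 0 := by
    rintro rfl
    exact hvs (Submodule.zero_mem _)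
  refine (card_prj_ge hF hn he0 hv hve hvs (A := (A : Set (Fin n → F))) hvA hs).trans
    (Nat.mul_le_mul_left _ ?_)
  set K := KK hF v hv e (A : Set (Fin n → F)) with hK
  have h1 := card_eq K
  rw [cen_eq hF hn he0 hv hve hvs (A := (A : Set (Fin n → F))) hvA hs, card_T0] at h1
  -- the stabiliser of `x`
  let K' : Subgroup K :=
    { carrier := {y | act (rho hF v hv y.1) x = x}
      mul_mem' := by
        intro a b ha hb
        change act (rho hF v hv (a.1 * b.1)) x = x
        rw [map_mul, act_mul, show act (rho hF v hv b.1) x = x from hb,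
          show act (rho hF v hv a.1) x = x from ha]
      one_mem' := by
        change act (rho hF v hv 1) x = x
        rw [map_one, act_one]
      inv_mem' := by
        intro a ha
        change act (rho hF v hv (a.1)⁻¹) x = x
        rw [map_inv]
        exact ((act_eq_iff _).1 ha).symm }
  have hK'mem : ∀ y : K, y ∈ K' ↔ act (rho hF v hv y.1) x = x := fun y => Iff.rfl
  have hK'eq : ∀ y : K, y ∈ K' → (hermForm n F q x v) • (y.1).w +
      ((y.1).m * hermForm n F q x v - hermForm n F q x (y.1).w) • v = 0 := by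
    intro y hy
    have h := (hK'mem y).1 hy
    rw [act_rho, add_assoc] at h
    exact add_eq_left.1 h
  have h2 : Nat.card K' ≤ q ^ 2 := by
    rw [← card_span_one hF hv0]
    refine Nat.card_le_card_of_injective (fun y : K' => (⟨(y.1.1).w, ?_⟩ :
      Submodule.span F {v})) ?_
    · have h := hK'eq y.1 y.2
      rw [Submodule.mem_span_singleton]
      refine ⟨-((hermForm n F q x v)⁻¹ *
        ((y.1.1).m * hermForm n F q x v - hermForm n F q x (y.1.1).w)), ?_⟩
      have h' := eq_neg_of_add_eq_zero_left h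
      rw [neg_smul, mul_smul, ← smul_neg, ← h', smul_smul, inv_mul_cancel₀ hxv, one_smul]
    · intro y y' hyy
      have h3 : (y.1.1).w = (y'.1.1).w := congrArg Subtype.val hyy
      apply Subtype.ext
      apply Subtype.ext
      refine HP.ext h3 ?_
      have e1 := hK'eq y.1 y.2
      have e2 := hK'eq y'.1 y'.2
      rw [h3] at e1
      have e3 : ((y.1.1).m * hermForm n F q x v - hermForm n F q x (y'.1.1).w) • v =
          ((y'.1.1).m * hermForm n F q x v - hermForm n F q x (y'.1.1).w) • v :=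
        add_left_cancel (e1.trans e2.symm)
      have e4 := smul_left_injective F hv0 e3
      have e5 : (y.1.1).m * hermForm n F q x v = (y'.1.1).m * hermForm n F q x v := by
        linear_combination e4
      exact mul_right_cancel₀ hxv e5
  have h3 : K'.index ≤
      Nat.card (A ⊓ (perp q {e, v}).toAddSubgroup : AddSubgroup (Fin n → F)) := by
    apply index_le _ (fun y : K => (⟨act (rho hF v hv y.1) x - x, ?_, ?_⟩ :
      (A ⊓ (perp q {e, v}).toAddSubgroup : AddSubgroup (Fin n → F))))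
    · intro a b hab
      have h4 : act (rho hF v hv a.1) x - x = act (rho hF v hv b.1) x - x :=
        congrArg Subtype.val hab
      have h5 := sub_left_injective h4
      rw [hK'mem, Subgroup.coe_mul, Subgroup.coe_inv, map_mul, map_inv, act_mul, ← h5,
        act_inv_act]
    · exact A.sub_mem (SA_mem y.2.2 hx) hx
    · have hw := mem_perp_pair.1 (mem_KK.1 y.2).1
      have : act (rho hF v hv y.1) x - x = (hermForm n F q x v) • (y.1).w +
          ((y.1).m * hermForm n F q x v - hermForm n F q x (y.1).w) • v := by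
        rw [act_rho]; abel
      rw [this]
      apply mem_perp_pair.2
      constructor
      · rw [herm_add_left, herm_smul_left, herm_smul_left, hw.1, hve, mul_zero, mul_zero,
          add_zero]
      · rw [herm_add_left, herm_smul_left, herm_smul_left, hw.2, hv, mul_zero, mul_zero,
          add_zero]
  have h4 := Subgroup.card_mul_index K'
  have h5 : Nat.card K ≤
      q ^ 2 * Nat.card (A ⊓ (perp q {e, v}).toAddSubgroup : AddSubgroup (Fin n → F)) := by
    rw [← h4]
    exact Nat.mul_le_mul h2 h3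
  rw [h1, sq, mul_comm _ q, mul_assoc] at h5
  exact Nat.le_of_mul_le_mul_left h5 (q_pos hF)

/-- `A ⊆ v^⊥`. -/
theorem orth_of_sn (hF : Fintype.card F = q ^ 2) (hn : 5 ≤ n) {e v : Fin n → F} (he0 : e ≠ 0)
    (hv : hermForm n F q v v = 0) (hve : hermForm n F q v e = 0)
    (hvs : v ∉ Submodule.span F {e}) {A : AddSubgroup (Fin n → F)} (hvA : v ∈ A)
    (hcard : Nat.card A ≤ q ^ n)
    (hs : sn q e (A : Set (Fin n → F)) v ≤ q)
    (hs' : sn q e (A : Set (Fin n → F)) v * q ^ (n + 1) < 2 * q ^ (2 * (n - 2)))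
    {x : Fin n → F} (hx : x ∈ A) : hermForm n F q x v = 0 := by
  by_contra hxv
  have h1 := card_inter_ge hF hn he0 hv hve hvs hvA hs hx hxv
  have hle : (A ⊓ (perp q {e, v}).toAddSubgroup : AddSubgroup (Fin n → F)) ≤ A := inf_le_left
  have h2 : 2 * Nat.card (A ⊓ (perp q {e, v}).toAddSubgroup : AddSubgroup (Fin n → F)) ≤
      Nat.card A := by
    obtain ⟨m, hm⟩ := AddSubgroup.card_dvd_of_le hle
    have hpos : 0 < Nat.card A := Nat.card_pos
    have hm1 : m ≠ 1 := by
      rintro rfl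
      rw [mul_one] at hm
      have := AddSubgroup.eq_of_le_of_card_ge hle hm.le
      rw [← this] at hx
      exact hxv (mem_perp_pair.1 hx.2).2
    have hm0 : m ≠ 0 := by
      rintro rfl
      omega
    have : 2 ≤ m := by omega
    calc _ ≤ m * Nat.card (A ⊓ (perp q {e, v}).toAddSubgroup : AddSubgroup (Fin n → F)) :=
          Nat.mul_le_mul_right _ this
      _ = _ := by rw [mul_comm, ← hm]
  have h3 : 2 * q ^ (2 * (n - 2)) ≤ sn q e (A : Set (Fin n → F)) v * q ^ (n + 1) := by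
    calc 2 * q ^ (2 * (n - 2)) ≤ 2 * (sn q e (A : Set (Fin n → F)) v *
        (q * Nat.card (A ⊓ (perp q {e, v}).toAddSubgroup : AddSubgroup (Fin n → F)))) :=
          Nat.mul_le_mul_left _ h1
      _ = sn q e (A : Set (Fin n → F)) v *
        (q * (2 * Nat.card (A ⊓ (perp q {e, v}).toAddSubgroup :
          AddSubgroup (Fin n → F)))) := by ring
      _ ≤ sn q e (A : Set (Fin n → F)) v * (q * q ^ n) :=
          Nat.mul_le_mul_left _ (Nat.mul_le_mul_left _ (h2.trans hcard))
      _ = _ := by rw [pow_succ']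
  omega

/-! ### Distinct images -/

theorem card_distinct (hF : Fintype.card F = q ^ 2) {e w' y₀ w : Fin n → F}
    (hw' : hermForm n F q w' w' = 0) (hw'e : hermForm n F q w' e = 0)
    {A : AddSubgroup (Fin n → F)} (hy₀ : y₀ ∈ A) (hy₀w' : hermForm n F q y₀ w' = 0) (hw : w ∈ A)
    (hww' : hermForm n F q w w' = 1) (hA : ∀ t : F, t ≠ 0 → t • w' ∉ A) :
    q ≤ sn q e (A : Set (Fin n → F)) y₀ ∧
    ((∃ B ∈ Imgs q e (A : Set (Fin n → F)), y₀ ∈ B ∧ ∃ t : F, t ≠ 0 ∧ t • w' ∈ B) →
      q + 1 ≤ sn q e (A : Set (Fin n → F)) y₀) := by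
  classical
  let f : T0 hF → Set (Fin n → F) := fun c => act (tv hF w' hw' c.1 c.2) '' A
  have hfmem : ∀ c, f c ∈ (Imgs q e (A : Set (Fin n → F))).filter (fun B => y₀ ∈ B) := by
    intro c
    rw [Finset.mem_filter, mem_Imgs]
    refine ⟨⟨_, ?_, rfl⟩, ⟨y₀, hy₀, ?_⟩⟩
    · rw [act_tv, herm_eq_zero_swap hF hw'e, mul_zero, zero_smul, add_zero]
    · rw [act_tv, hy₀w', mul_zero, zero_smul, add_zero]
  have hinj : Function.Injective f := by
    intro c d hcd
    by_contra hne
    have hne' : c.1 - d.1 ≠ 0 := sub_ne_zero.2 (fun h => hne (Subtype.ext h))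
    have hcd' : act (tv hF w' hw' c.1 c.2) '' (A : Set (Fin n → F)) =
      act (tv hF w' hw' d.1 d.2) '' A := hcd
    have h1 : act (tv hF w' hw' c.1 c.2) w ∈ act (tv hF w' hw' d.1 d.2) '' (A : Set (Fin n → F)) := by
      rw [← hcd']
      exact ⟨w, hw, rfl⟩
    obtain ⟨y, hy, hyw⟩ := h1
    have h2 : y = w + (c.1 - d.1) • w' := by
      have h3 : act (tv hF w' hw' (-d.1) ((T0 hF).neg_mem d.2)) (act (tv hF w' hw' d.1 d.2) y) =
          act (tv hF w' hw' (-d.1) ((T0 hF).neg_mem d.2)) (act (tv hF w' hw' c.1 c.2) w) := by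
        rw [hyw]
      rw [← act_mul, ← act_mul, tv_mul, tv_mul, act_tv, act_tv, hww'] at h3
      rw [neg_add_cancel, zero_mul, zero_smul, add_zero] at h3
      rw [h3]
      congr 2
      ring
    apply hA _ hne'
    have h4 : (c.1 - d.1) • w' = y - w := by rw [h2]; abel
    rw [h4]
    exact A.sub_mem hy hw
  have hcard : (Finset.univ.image f).card = q := by
    rw [Finset.card_image_of_injective _ hinj, Finset.card_univ, ← Nat.card_eq_fintype_card,
      card_T0]
  have hsub : Finset.univ.image f ⊆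
      (Imgs q e (A : Set (Fin n → F))).filter (fun B => y₀ ∈ B) := by
    intro B hB
    rw [Finset.mem_image] at hB
    obtain ⟨c, -, rfl⟩ := hB
    exact hfmem c
  constructor
  · rw [sn_eq]
    exact hcard.symm.le.trans (Finset.card_le_card hsub)
  · rintro ⟨B, hB, hy₀B, t, ht, htB⟩
    have hnot : B ∉ Finset.univ.image f := by
      intro h
      rw [Finset.mem_image] at h
      obtain ⟨c, -, hc⟩ := h
      rw [← hc] at htB
      obtain ⟨y, hy, hyt⟩ := htB
      apply hA t ht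
      have h3 : act (tv hF w' hw' (-c.1) ((T0 hF).neg_mem c.2)) (act (tv hF w' hw' c.1 c.2) y) =
          act (tv hF w' hw' (-c.1) ((T0 hF).neg_mem c.2)) (t • w') := by
        rw [hyt]
      rw [← act_mul, tv_mul, act_tv, act_tv, neg_add_cancel, zero_mul, zero_smul, add_zero,
        herm_smul_left, hw', mul_zero, mul_zero, zero_smul, add_zero] at h3
      rw [← h3]
      exact hy
    have : (insert B (Finset.univ.image f)).card = q + 1 := by
      rw [Finset.card_insert_of_notMem hnot, hcard]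
    rw [sn_eq]
    refine this.symm.le.trans ?_
    apply Finset.card_le_card
    intro B' hB'
    rw [Finset.mem_insert] at hB'
    rcases hB' with rfl | h
    · rw [Finset.mem_filter]
      exact ⟨hB, hy₀B⟩
    · exact hsub h

end Cfsg.Agent.H77.Key2
end

-- part: H77/Key3
section
/-!
# The key lemma on images of an additive subgroup of `e^⊥`
-/

set_option autoImplicit false

namespace Cfsg.Agent.H77.Key3

open Cfsg Cfsg.Agent.LieClassical.HermBasic Cfsg.Agent.LieClassical.HermSiegel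
open Cfsg.Agent.H77.Geom Cfsg.Agent.H77.Heis Cfsg.Agent.H77.Iso Cfsg.Agent.H77.Key1
open Cfsg.Agent.H77.Key2

variable {F : Type*} [Field F] [Fintype F] {q n : ℕ}

theorem card_add_le (hF : Fintype.card F = q ^ 2) {e : Fin n → F} (he0 : e ≠ 0)
    {A : AddSubgroup (Fin n → F)} (hFe : ∀ a : F, a • e ∈ A) (s : Finset (Fin n → F))
    (hs : ∀ x ∈ s, x ∈ A ∧ x ∉ Submodule.span F {e}) : s.card + q ^ 2 ≤ Nat.card A := by
  classical
  rw [← card_span_one hF he0, Nat.card_eq_fintype_card, Nat.card_eq_fintype_card]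
  have h1 : Fintype.card (Submodule.span F {e}) =
      (Finset.univ.filter (fun x => x ∈ Submodule.span F {e})).card := Fintype.card_subtype _
  have h2 : Fintype.card A = (Finset.univ.filter (fun x => x ∈ A)).card := Fintype.card_subtype _
  rw [h1, h2, ← Finset.card_union_of_disjoint]
  · apply Finset.card_le_card
    intro x hx
    rw [Finset.mem_union] at hx
    rw [Finset.mem_filter]
    refine ⟨Finset.mem_univ _, ?_⟩
    rcases hx with hx | hx
    · exact (hs x hx).1
    · obtain ⟨a, rfl⟩ := Submodule.mem_span_singleton.1 (Finset.mem_filter.1 hx).2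
      exact hFe a
  · rw [Finset.disjoint_left]
    intro x hx hx'
    exact (hs x hx).2 (Finset.mem_filter.1 hx').2

theorem an_add_le (hF : Fintype.card F = q ^ 2) {e : Fin n → F} (he0 : e ≠ 0)
    {A : AddSubgroup (Fin n → F)} (hFe : ∀ a : F, a • e ∈ A) (c : F) :
    an q e (A : Set (Fin n → F)) c + q ^ 2 ≤ Nat.card A := by
  classical
  rw [an_eq]
  apply card_add_le hF he0 hFe
  intro x hx
  rw [Finset.mem_filter, mem_OC] at hx
  exact ⟨hx.2, hx.1.2.2⟩

theorem an_add_an_le (hF : Fintype.card F = q ^ 2) {e : Fin n → F} (he0 : e ≠ 0)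
    {A : AddSubgroup (Fin n → F)} (hFe : ∀ a : F, a • e ∈ A) {c d : F} (hcd : c ≠ d) :
    an q e (A : Set (Fin n → F)) c + an q e (A : Set (Fin n → F)) d + q ^ 2 ≤ Nat.card A := by
  classical
  rw [an_eq, an_eq, ← Finset.card_union_of_disjoint]
  · apply card_add_le hF he0 hFe
    intro x hx
    rw [Finset.mem_union, Finset.mem_filter, Finset.mem_filter, mem_OC, mem_OC] at hx
    rcases hx with hx | hx
    · exact ⟨hx.2, hx.1.2.2⟩
    · exact ⟨hx.2, hx.1.2.2⟩
  · rw [Finset.disjoint_left]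
    intro x hx hx'
    rw [Finset.mem_filter, mem_OC] at hx hx'
    exact hcd (hx.1.1.symm.trans hx'.1.1)

theorem an_zero_le (hF : Fintype.card F = q ^ 2) {e v : Fin n → F} (he0 : e ≠ 0)
    (hv : v ∉ Submodule.span F {e}) {A : AddSubgroup (Fin n → F)}
    (h : ∀ x ∈ A, hermForm n F q x x = 0 → x ∈ Submodule.span F {e, v}) :
    an q e (A : Set (Fin n → F)) 0 + q ^ 2 ≤ q ^ 4 := by
  classical
  rw [← card_span_two hF he0 hv, an_eq]
  apply card_add_le hF he0 (A := (Submodule.span F {e, v}).toAddSubgroup)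
  · intro a
    exact Submodule.smul_mem _ _ (Submodule.subset_span (by simp))
  · intro x hx
    rw [Finset.mem_filter, mem_OC] at hx
    exact ⟨h x hx.2 hx.1.1, hx.1.2.2⟩

theorem self_mem_Imgs (e : Fin n → F) (A : Set (Fin n → F)) : A ∈ Imgs q e A :=
  mem_Imgs.2 ⟨1, act_one e, image_one A⟩

theorem one_le_sn {e : Fin n → F} {A : Set (Fin n → F)} {x : Fin n → F} (hx : x ∈ A) :
    1 ≤ sn q e A x := by
  classical
  rw [sn_eq, Nat.one_le_iff_ne_zero, ← Nat.pos_iff_ne_zero, Finset.card_pos]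
  exact ⟨A, Finset.mem_filter.2 ⟨self_mem_Imgs e A, hx⟩⟩

/-- The configuration of two independent isotropic vectors is impossible in dimension five. -/
theorem five_iso (hF : Fintype.card F = q ^ 2) {e v v' : Fin 5 → F} (he0 : e ≠ 0)
    (he : hermForm 5 F q e e = 0) (hv : hermForm 5 F q v v = 0) (hve : hermForm 5 F q v e = 0)
    (hvs : v ∉ Submodule.span F {e}) (hv' : hermForm 5 F q v' v' = 0)
    (hve' : hermForm 5 F q v' e = 0) (hvs' : v' ∉ Submodule.span F {e, v})
    {A : AddSubgroup (Fin 5 → F)} (hFe : ∀ a : F, a • e ∈ A) (hvA : v ∈ A) (hvA' : v' ∈ A)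
    (hcard : Nat.card A ≤ q ^ 5) (hs : sn q e (A : Set (Fin 5 → F)) v ≤ q)
    (hs' : sn q e (A : Set (Fin 5 → F)) v' ≤ q) : False := by
  classical
  have h2 := two_le hF
  have hvs1 : v' ∉ Submodule.span F {e} := fun h =>
    hvs' (Submodule.span_mono (by simp) h)
  have hev := herm_eq_zero_swap hF hve
  have hev' := herm_eq_zero_swap hF hve'
  -- general independence
  have hind : ∀ z : Fin 5 → F, z ∉ Submodule.span F {e, v} →
      LinearIndependent F (Fin.cons z ![e, v] : Fin 3 → (Fin 5 → F)) := by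
    intro z hz
    rw [linearIndependent_finCons, range_pair]
    exact ⟨linInd_pair he0 hvs, hz⟩
  have hniso : ∀ z : Fin 5 → F, z ∉ Submodule.span F {e, v} → hermForm 5 F q z e = 0 →
      hermForm 5 F q z v = 0 → hermForm 5 F q z z ≠ 0 := by
    intro z hz hze hzv hzz
    have := two_mul_le_of_iso hF (hind z hz) (by
      intro i j
      fin_cases i <;> fin_cases j
      · exact hzz
      · exact hze
      · exact hzv
      · exact herm_eq_zero_swap hF hze
      · exact he
      · exact hev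
      · exact herm_eq_zero_swap hF hzv
      · exact hve
      · exact hv)
    omega
  set η := hermForm 5 F q v' v with hη
  have hη0 : η ≠ 0 := fun h => hniso v' hvs' hve' h hv'
  have hvv' : hermForm 5 F q v v' = η ^ q := herm_swap hF v' v
  have hN0 : η * η ^ q ≠ 0 := mul_ne_zero hη0 (pow_ne_zero _ hη0)
  -- `F_q v' ⊆ A`
  obtain ⟨τ, hτ, hτ0⟩ := exists_mem_T0 hF
  have hfv' : ∀ f : F, f ^ q = f → f • v' ∈ A := by
    intro f hf
    have h1 := smul_mem hF le_rfl he0 hv hve hvs hvA hs hvA' hτ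
    have hc : f * (η * η ^ q)⁻¹ * τ⁻¹ ∈ T0 hF := by
      apply smul_mem_T0 hF (inv_mem_T0 hF hτ)
      rw [mul_pow, hf, inv_pow, norm_pow_q hF]
    have h3 := smul_mem hF le_rfl he0 hv' hve' hvs1 hvA' hs' h1 hc
    rw [herm_smul_left, ← hη, hvv'] at h3
    have h4 : f * (η * η ^ q)⁻¹ * τ⁻¹ * (τ * η * η ^ q) = f := by
      field_simp
    rwa [h4] at h3
  -- an element of the stabiliser
  obtain ⟨x, hx, hxs⟩ : ∃ x ∈ KK hF v hv e (A : Set (Fin 5 → F)),
      x.w ∉ Submodule.span F {e, v} := by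
    by_contra hcon
    push Not at hcon
    have h1 := card_prj_ge hF le_rfl he0 hv hve hvs (A := (A : Set (Fin 5 → F))) hvA hs
    have hle : Nat.card (prj (KK hF v hv e (A : Set (Fin 5 → F)))) ≤ q ^ 4 := by
      rw [← card_span_two hF he0 hvs]
      refine Nat.card_le_card_of_injective (fun z => (⟨z.1, ?_⟩ : Submodule.span F {e, v})) ?_
      · obtain ⟨x, hx, hxz⟩ := z.2
        rw [← hxz]
        exact hcon x hx
      · intro a b hab
        exact Subtype.ext (Subtype.mk.inj hab)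
    have h3 : q ^ 6 ≤ q * q ^ 4 := h1.trans (Nat.mul_le_mul hs hle)
    rw [← pow_succ'] at h3
    exact absurd ((Nat.pow_le_pow_iff_right (by omega)).1 h3) (by norm_num)
  set z := x.w with hz
  have hxw := mem_perp_pair.1 (mem_KK.1 hx).1
  have hzz := hniso z hxs hxw.1 hxw.2
  have hy : act (rho hF v hv x) v' - v' ∈ A := A.sub_mem (SA_mem hx.2 hvA') hvA'
  have hyeq : act (rho hF v hv x) v' - v' = η • z + (x.m * η - hermForm 5 F q v' z) • v := by
    rw [act_rho]; abel
  rw [hyeq] at hy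
  set y := η • z + (x.m * η - hermForm 5 F q v' z) • v with hydef
  set θ := hermForm 5 F q y v' with hθ
  have hθeq : θ = η * hermForm 5 F q z v' - (η * hermForm 5 F q z v') ^ q +
      x.m * (η * η ^ q) := by
    rw [hθ, hydef, herm_add_left, herm_smul_left, herm_smul_left, hvv', herm_swap hF z v',
      mul_pow]
    ring
  have hθtr : θ + θ ^ q ≠ 0 := by
    have h1 : θ + θ ^ q = -(hermForm 5 F q z z) * (η * η ^ q) := by
      rw [hθeq, add_pow_q hF, sub_pow_q hF, pow_q_pow_q hF, mul_pow x.m, norm_pow_q hF]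
      linear_combination (η * η ^ q) * x.sg.tr
    rw [h1]
    exact mul_ne_zero (neg_ne_zero.2 hzz) hN0
  -- all multiples of `v'`
  have hall' : ∀ l : F, l • v' ∈ A := by
    intro l
    set c := (l - l ^ q) * (θ + θ ^ q)⁻¹ with hc
    have hcT : c ∈ T0 hF := by
      rw [mem_T0, hc, mul_pow, inv_pow, trace_pow_q hF, sub_pow_q hF, pow_q_pow_q hF]
      ring
    have h1 := smul_mem hF le_rfl he0 hv' hve' hvs1 hvA' hs' hy hcT
    rw [← hθ] at h1
    have hf : (l - c * θ) ^ q = l - c * θ := by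
      have h3 : c * (θ + θ ^ q) = l - l ^ q := by
        rw [hc, inv_mul_cancel_right₀ hθtr]
      rw [sub_pow_q hF, mul_pow, pow_q_of_mem_T0 hF hcT]
      linear_combination h3
    have h4 := A.add_mem (hfv' _ hf) h1
    rw [← add_smul, sub_add_cancel] at h4
    exact h4
  have hall : ∀ l : F, l • v ∈ A := by
    intro l
    have h1 := smul_mem hF le_rfl he0 hv hve hvs hvA hs (hall' (τ⁻¹ * l * η⁻¹)) hτ
    rw [herm_smul_left, ← hη] at h1
    have h4 : τ * (τ⁻¹ * l * η⁻¹ * η) = l := by field_simp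
    rwa [h4] at h1
  -- the span
  let S : Submodule F (Fin 5 → F) :=
    { carrier := {x | ∀ l : F, l • x ∈ A}
      add_mem' := fun {a b} ha hb l => by
        rw [smul_add]; exact A.add_mem (ha l) (hb l)
      zero_mem' := fun l => by rw [smul_zero]; exact A.zero_mem
      smul_mem' := fun c a ha l => by
        rw [smul_smul]; exact ha _ }
  have hle : Submodule.span F (Set.range (Fin.cons v' ![e, v] : Fin 3 → (Fin 5 → F))) ≤ S := by
    rw [Submodule.span_le]
    rintro _ ⟨i, rfl⟩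
    fin_cases i
    · exact hall'
    · exact hFe
    · exact hall
  have hc1 : Nat.card (Submodule.span F (Set.range (Fin.cons v' ![e, v] : Fin 3 → (Fin 5 → F)))) =
      q ^ 6 := by
    rw [card_submodule hF, finrank_span_eq_card (hind v' hvs'), Fintype.card_fin]
  have hc2 : q ^ 6 ≤ Nat.card A := by
    rw [← hc1]
    refine Nat.card_le_card_of_injective (fun z => (⟨z.1, ?_⟩ : A)) ?_
    · have := hle z.2 1
      rwa [one_smul] at this
    · intro a b hab
      exact Subtype.ext (Subtype.mk.inj hab)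
  have h3 := hc2.trans hcard
  exact absurd ((Nat.pow_le_pow_iff_right (by omega)).1 h3) (by norm_num)

end Cfsg.Agent.H77.Key3
end

-- part: H77/Arith2
section
/-!
# Numerical contradictions in the key lemma
-/

set_option autoImplicit false

namespace Cfsg.Agent.H77.Arith2

theorem step {k O m b In a R : ℤ} (h1 : O * m ≤ k * b) (hb : 0 < b) (hR : 0 ≤ R)
    (hlt : k * R < In * a) : O * m * R < b * (In * a) := by
  calc O * m * R ≤ k * b * R := mul_le_mul_of_nonneg_right h1 hR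
    _ = b * (k * R) := by ring
    _ < _ := mul_lt_mul_of_pos_left hlt hb

theorem X8 {Q X : ℤ} (hQ : 2 ≤ Q) (hX3 : Q ^ 3 ≤ X) : 8 ≤ X := by
  refine le_trans ?_ hX3
  have := pow_le_pow_left₀ (by norm_num : (0:ℤ) ≤ 2) hQ 3
  linarith

theorem In_pos {Q X ε : ℤ} (hQ : 2 ≤ Q) (hX3 : Q ^ 3 ≤ X) (hε : ε = 1 ∨ ε = -1) :
    0 < (Q ^ 2 * X - ε) * (Q * X + ε) := by
  have hX := X8 hQ hX3
  have h1 : 0 < Q ^ 2 * X - ε := by
    have : 1 * 8 ≤ Q ^ 2 * X := mul_le_mul (one_le_pow₀ (by linarith)) hX (by norm_num) (by positivity)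
    rcases hε with rfl | rfl <;> linarith
  have h2 : 0 < Q * X + ε := by
    have : 1 * 8 ≤ Q * X := mul_le_mul (by linarith) hX (by norm_num) (by linarith)
    rcases hε with rfl | rfl <;> linarith
  exact mul_pos h1 h2

theorem Q2_pos {Q : ℤ} (hQ : 2 ≤ Q) : 0 < Q ^ 2 - 1 := by nlinarith

theorem k0_contra {Q X ε a k O : ℤ} (hQ : 2 ≤ Q) (hX3 : Q ^ 3 ≤ X) (hε : ε = 1 ∨ ε = -1)
    (ha1 : Q ^ 2 < a) (ha2 : a ≤ Q ^ 4)
    (hlt : k * (Q ^ 3 * X ^ 2 * (Q ^ 2 - 1)) < (Q ^ 2 * X - ε) * (Q * X + ε) * a)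
    (hO : O * 1 ≤ k * (a - Q ^ 2))
    (hO' : O = Q * ((X - ε) * (X + ε * Q)) ∨ O = Q * (X * (X - ε))) : False := by
  have hIn := In_pos hQ hX3 hε
  have hQ2 := Q2_pos hQ
  have hQ0 : 0 < Q := by linarith
  have hX0 : 0 < X := by linarith [X8 hQ hX3]
  have h6 := step hO (by linarith) (by positivity) hlt
  have hb0 := Arith.b0 hQ hX3 hε
  have ha0 := Arith.a0 hQ hX3 hε
  generalize (Q ^ 2 * X - ε) * (Q * X + ε) = In at *
  have ha : 0 ≤ a := by
    have : 0 ≤ Q ^ 2 := by positivity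
    linarith
  have h7 : (a - Q ^ 2) * (In * a) ≤ (Q ^ 4 - Q ^ 2) * (In * Q ^ 4) := by
    apply mul_le_mul (by linarith) (mul_le_mul_of_nonneg_left ha2 hIn.le) (by positivity)
    have : Q ^ 4 - Q ^ 2 = Q ^ 2 * (Q ^ 2 - 1) := by ring
    rw [this]
    positivity
  have h8 : O * X ^ 2 < Q ^ 3 * In := by
    have h9 : (Q ^ 3 * (Q ^ 2 - 1)) * (O * X ^ 2) < (Q ^ 3 * (Q ^ 2 - 1)) * (Q ^ 3 * In) := by
      calc _ = O * 1 * (Q ^ 3 * X ^ 2 * (Q ^ 2 - 1)) := by ring
        _ < (Q ^ 4 - Q ^ 2) * (In * Q ^ 4) := lt_of_lt_of_le h6 h7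
        _ = _ := by ring
    exact lt_of_mul_lt_mul_left h9 (by positivity)
  rcases hO' with rfl | rfl
  · have h10 : Q * (In * Q ^ 2) ≤ Q * ((X - ε) * (X + ε * Q) * X ^ 2) :=
      mul_le_mul_of_nonneg_left hb0 hQ0.le
    linarith
  · have h10 : Q * (In * Q ^ 2) ≤ Q * (X ^ 3 * (X - ε)) :=
      mul_le_mul_of_nonneg_left ha0 hQ0.le
    linarith

theorem k2_contra {Q X ε a k : ℤ} (hQ : 2 ≤ Q) (hX3 : Q ^ 3 ≤ X) (hε : ε = 1 ∨ ε = -1)
    (ha1 : Q ^ 2 < a) (ha2 : a ≤ Q ^ 2 * X)
    (hlt : k * (Q ^ 3 * X ^ 2 * (Q ^ 2 - 1)) < (Q ^ 2 * X - ε) * (Q * X + ε) * a)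
    (hO : Q * ((X - ε) * (X + ε * Q)) * (Q + 1) ≤ k * (a - Q ^ 2)) : False := by
  have hIn := In_pos hQ hX3 hε
  have hQ2 := Q2_pos hQ
  have hQ0 : 0 < Q := by linarith
  have hX0 : 0 < X := by linarith [X8 hQ hX3]
  have h6 := step hO (by linarith) (by positivity) hlt
  have h10 := Arith.k2 hQ hX3 hε
  generalize (Q ^ 2 * X - ε) * (Q * X + ε) = In at *
  have ha : 0 ≤ a := by
    have : 0 ≤ Q ^ 2 := by positivity
    linarith
  have h7 : (a - Q ^ 2) * (In * a) ≤ (Q ^ 2 * X - Q ^ 2) * (In * (Q ^ 2 * X)) := by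
    apply mul_le_mul (by linarith) (mul_le_mul_of_nonneg_left ha2 hIn.le) (by positivity)
    have h8 : Q ^ 2 * X - Q ^ 2 = Q ^ 2 * (X - 1) := by ring
    have h9 : 0 < X - 1 := by linarith [X8 hQ hX3]
    rw [h8]
    positivity
  have h8 : (Q ^ 4 * X) * ((Q + 1) * (Q ^ 2 - 1) * (X - ε) * (X + ε * Q) * X) <
      (Q ^ 4 * X) * (In * (X - 1)) := by
    calc _ = Q * ((X - ε) * (X + ε * Q)) * (Q + 1) * (Q ^ 3 * X ^ 2 * (Q ^ 2 - 1)) := by ring
      _ < (Q ^ 2 * X - Q ^ 2) * (In * (Q ^ 2 * X)) := lt_of_lt_of_le h6 h7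
      _ = _ := by ring
  have h9 := lt_of_mul_lt_mul_left h8 (by positivity)
  linarith

theorem ka_contra {Q X ε a k : ℤ} (hQ : 2 ≤ Q) (hX4 : Q ^ 4 ≤ X) (hε : ε = 1 ∨ ε = -1)
    (ha2 : a ≤ Q ^ 2 * X)
    (hlt : k * (Q ^ 3 * X ^ 2 * (Q ^ 2 - 1)) < (Q ^ 2 * X - ε) * (Q * X + ε) * a)
    (hO : Q * ((X - ε) * (X + ε * Q)) * 1 ≤ k * (Q ^ 4 - Q ^ 2)) : False := by
  have hX3 : Q ^ 3 ≤ X := by
    refine le_trans ?_ hX4
    exact pow_le_pow_right₀ (by linarith) (by norm_num)
  have hIn := In_pos hQ hX3 hε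
  have hQ2 := Q2_pos hQ
  have hQ0 : 0 < Q := by linarith
  have hX0 : 0 < X := by linarith [X8 hQ hX3]
  have hb : 0 < Q ^ 4 - Q ^ 2 := by
    have : Q ^ 4 - Q ^ 2 = Q ^ 2 * (Q ^ 2 - 1) := by ring
    rw [this]
    positivity
  have h6 := step hO hb (by positivity) hlt
  have h10 := Arith.ka hQ hX4 hε
  generalize (Q ^ 2 * X - ε) * (Q * X + ε) = In at *
  have h7 : (Q ^ 4 - Q ^ 2) * (In * a) ≤ (Q ^ 4 - Q ^ 2) * (In * (Q ^ 2 * X)) :=
    mul_le_mul_of_nonneg_left (mul_le_mul_of_nonneg_left ha2 hIn.le) hb.le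
  have h8 : (Q ^ 4 * X * (Q ^ 2 - 1)) * ((X - ε) * (X + ε * Q) * X) <
      (Q ^ 4 * X * (Q ^ 2 - 1)) * In := by
    calc _ = Q * ((X - ε) * (X + ε * Q)) * 1 * (Q ^ 3 * X ^ 2 * (Q ^ 2 - 1)) := by ring
      _ < (Q ^ 4 - Q ^ 2) * (In * (Q ^ 2 * X)) := lt_of_lt_of_le h6 h7
      _ = _ := by ring
  have h9 := lt_of_mul_lt_mul_left h8 (by positivity)
  linarith

theorem k5 {Q a k : ℤ} (hQ : 2 ≤ Q) (ha : a ≤ Q ^ 2 * Q ^ 3)
    (hlt : k * (Q ^ 3 * (Q ^ 3) ^ 2 * (Q ^ 2 - 1)) < (Q ^ 2 * Q ^ 3 - -1) * (Q * Q ^ 3 + -1) * a) :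
    k ≤ Q ^ 3 + Q := by
  have hQ2 := Q2_pos hQ
  have hQ0 : 0 < Q := by linarith
  apply Arith.k5 hQ
  have hIn := In_pos (X := Q ^ 3) (ε := -1) hQ le_rfl (Or.inr rfl)
  have h3 : (Q ^ 5 * (Q ^ 2 - 1)) * (k * Q ^ 4) <
      (Q ^ 5 * (Q ^ 2 - 1)) * ((Q ^ 5 + 1) * (Q ^ 2 + 1)) := by
    calc _ = k * (Q ^ 3 * (Q ^ 3) ^ 2 * (Q ^ 2 - 1)) := by ring
      _ < (Q ^ 2 * Q ^ 3 - -1) * (Q * Q ^ 3 + -1) * a := hlt
      _ ≤ (Q ^ 2 * Q ^ 3 - -1) * (Q * Q ^ 3 + -1) * (Q ^ 2 * Q ^ 3) :=
        mul_le_mul_of_nonneg_left ha hIn.le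
      _ = _ := by ring
  exact lt_of_mul_lt_mul_left h3 (by positivity)

end Cfsg.Agent.H77.Arith2
end

-- part: H77/Key4
section
/-!
# The key lemma
-/

set_option autoImplicit false

namespace Cfsg.Agent.H77.Key4

open Cfsg Cfsg.Agent.LieClassical.HermBasic Cfsg.Agent.LieClassical.HermSiegel
open Cfsg.Agent.H77.Geom Cfsg.Agent.H77.Heis Cfsg.Agent.H77.Iso Cfsg.Agent.H77.Key1
open Cfsg.Agent.H77.Key2 Cfsg.Agent.H77.Key3

variable {F : Type*} [Field F] [Fintype F] {q n : ℕ}

/-- Dimension at least six: contradiction from an isotropic vector. -/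
theorem key_ge_six (hF : Fintype.card F = q ^ 2) (hn : 6 ≤ n) {e v : Fin n → F} (he0 : e ≠ 0)
    {A : AddSubgroup (Fin n → F)} (hAe : ∀ x ∈ A, hermForm n F q x e = 0)
    (hcard : Nat.card A ≤ q ^ n) (hvA : v ∈ A) (hv : hermForm n F q v v = 0)
    (hvs : v ∉ Submodule.span F {e})
    (hs : ∀ u ∈ A, hermForm n F q u u = 0 → u ∉ Submodule.span F {e} →
      sn q e (A : Set (Fin n → F)) u ≤ q) :
    ∀ w ∈ A, hermForm n F q w w = 0 → w ∈ Submodule.span F {e, v} := by
  have h2 := two_le hF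
  -- `A ⊆ u^⊥`
  have horth : ∀ u ∈ A, hermForm n F q u u = 0 → u ∉ Submodule.span F {e} →
      ∀ x ∈ A, hermForm n F q x u = 0 := by
    intro u hu huu hus x hx
    have hsu := hs u hu huu hus
    refine orth_of_sn hF (by omega) he0 huu (hAe u hu) hus hu hcard hsu ?_ hx
    calc sn q e (A : Set (Fin n → F)) u * q ^ (n + 1) ≤ q * q ^ (n + 1) :=
          Nat.mul_le_mul_right _ hsu
      _ = q ^ (n + 2) := by ring
      _ ≤ q ^ (2 * (n - 2)) := Nat.pow_le_pow_right (by omega) (by omega)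
      _ < 2 * q ^ (2 * (n - 2)) := by
        have : 0 < q ^ (2 * (n - 2)) := by positivity
        omega
  intro w hw hww
  by_contra hws
  have hwv := horth v hvA hv hvs w hw
  have hve := hAe v hvA
  have hwe := hAe w hw
  obtain ⟨w', hw'p, hw'w', hww'⟩ := exists_partner hF hww (mem_perp_pair.2 ⟨hwe, hwv⟩) hws
  obtain ⟨hw'e, hw'v⟩ := mem_perp_pair.1 hw'p
  have hw'w : hermForm n F q w' w = 1 := by rw [herm_swap hF w w', hww', one_pow]
  have hA : ∀ t : F, t ≠ 0 → t • w' ∉ A := by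
    intro t ht htA
    have hiso : hermForm n F q (t • w') (t • w') = 0 := by
      rw [herm_smul_left, herm_smul_right, hw'w', mul_zero, mul_zero]
    have h3 : hermForm n F q w (t • w') = t ^ q := by
      rw [herm_smul_right, hww', mul_one]
    have hns : t • w' ∉ Submodule.span F {e} := by
      intro h
      obtain ⟨b, hb⟩ := Submodule.mem_span_singleton.1 h
      rw [← hb, herm_smul_right, hwe, mul_zero] at h3
      exact pow_ne_zero q ht h3.symm
    have h4 := horth _ htA hiso hns w hw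
    rw [h3] at h4
    exact pow_ne_zero q ht h4
  have hvw' := herm_eq_zero_swap hF hw'v
  have hev := herm_eq_zero_swap hF hve
  have hew := herm_eq_zero_swap hF hwe
  have hew' := herm_eq_zero_swap hF hw'e
  have hvw := herm_eq_zero_swap hF hwv
  have h5 := (card_distinct hF hw'w' hw'e hvA hvw' hw hww' hA).2
  obtain ⟨c, hc, hc0⟩ := exists_mem_T0 hF
  have hc' : -c⁻¹ ∈ T0 hF := (T0 hF).neg_mem (inv_mem_T0 hF hc)
  have h6 : q + 1 ≤ sn q e (A : Set (Fin n → F)) v := by
    apply h5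
    refine ⟨act (tv hF w hww (-c⁻¹) hc' * tv hF w' hw'w' c hc) '' A, ?_, ⟨v, hvA, ?_⟩, c, hc0,
      ⟨w, hw, ?_⟩⟩
    · rw [mem_Imgs]
      refine ⟨_, ?_, rfl⟩
      rw [act_mul, act_tv, act_tv, hew', mul_zero, zero_smul, add_zero, hew, mul_zero, zero_smul,
        add_zero]
    · rw [act_mul, act_tv, act_tv, hvw', mul_zero, zero_smul, add_zero, hvw, mul_zero, zero_smul,
        add_zero]
    · rw [act_mul, act_tv, act_tv, hww', mul_one, herm_add_left, herm_smul_left, hww, hw'w,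
        zero_add, mul_one, neg_mul, inv_mul_cancel₀ hc0, neg_smul, one_smul]
      abel
  have h7 := hs v hvA hv hvs
  omega

/-- Dimension five: contradiction from an isotropic vector. -/
theorem key_five (hF : Fintype.card F = q ^ 2) {e v : Fin 5 → F} (he0 : e ≠ 0)
    (he : hermForm 5 F q e e = 0) {A : AddSubgroup (Fin 5 → F)}
    (hAe : ∀ x ∈ A, hermForm 5 F q x e = 0) (hFe : ∀ a : F, a • e ∈ A)
    (hcard : Nat.card A ≤ q ^ 5) (hcard' : q ^ 4 < Nat.card A) (hvA : v ∈ A)
    (hv : hermForm 5 F q v v = 0) (hvs : v ∉ Submodule.span F {e})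
    (hs : ∀ u ∈ A, hermForm 5 F q u u = 0 → u ∉ Submodule.span F {e} →
      sn q e (A : Set (Fin 5 → F)) u ≤ q)
    (hk : ((Imgs q e (A : Set (Fin 5 → F))).card : ℤ) ≤ (q : ℤ) ^ 3 + q) : False := by
  have h2 := two_le hF
  have hQ : (2 : ℤ) ≤ q := by exact_mod_cast h2
  have hiso : ∀ w ∈ A, hermForm 5 F q w w = 0 → w ∈ Submodule.span F {e, v} := by
    intro w hw hww
    by_contra hws
    have hws1 : w ∉ Submodule.span F {e} := fun h => hws (Submodule.span_mono (by simp) h)
    exact five_iso hF he0 he hv (hAe v hvA) hvs hww (hAe w hw) hws hFe hvA hw hcard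
      (hs v hvA hv hvs) (hs w hw hww hws1)
  have hve := hAe v hvA
  have ha0 := an_zero_le (q := q) hF he0 hvs hiso
  have hvO : v ∈ OC q e 0 := mem_OC.2 ⟨hv, hve, hvs⟩
  have hdc := double_count hF le_rfl he0 (A : Set (Fin 5 → F)) hvO
  have hO0 := card_OC_zero hF le_rfl he0 he
  norm_num at hO0
  set k := (Imgs q e (A : Set (Fin 5 → F))).card with hkdef
  set a0 := an q e (A : Set (Fin 5 → F)) 0 with ha0def
  have hdc' : (k : ℤ) * a0 = q ^ 2 * (q ^ 3 + 1) * (q ^ 2 - 1) *
      sn q e (A : Set (Fin 5 → F)) v := by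
    have : (k : ℤ) * a0 = ((OC q e 0).card : ℤ) * sn q e (A : Set (Fin 5 → F)) v := by
      exact_mod_cast hdc
    rw [this, hO0]; ring
  have ha0' : (a0 : ℤ) ≤ q ^ 2 * (q ^ 2 - 1) := by
    have : (a0 : ℤ) + q ^ 2 ≤ q ^ 4 := by exact_mod_cast ha0
    linarith
  have hk0 : (0 : ℤ) ≤ k := Int.natCast_nonneg _
  have hs1 := one_le_sn (q := q) (e := e) (A := (A : Set (Fin 5 → F))) hvA
  have hpos : (0 : ℤ) < q ^ 2 * (q ^ 2 - 1) := by
    have : (0 : ℤ) < q ^ 2 - 1 := by nlinarith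
    positivity
  have hsv : sn q e (A : Set (Fin 5 → F)) v = 1 := by
    by_contra hne
    have h3 : (2 : ℤ) ≤ (sn q e (A : Set (Fin 5 → F)) v : ℤ) := by
      have : 2 ≤ sn q e (A : Set (Fin 5 → F)) v := by omega
      exact_mod_cast this
    generalize (sn q e (A : Set (Fin 5 → F)) v : ℤ) = S at hdc' h3
    generalize (a0 : ℤ) = a0' at hdc' ha0'
    generalize (k : ℤ) = k' at hdc' hk0 hk
    generalize (q : ℤ) = Q at *
    have h4 : (Q ^ 2 * (Q ^ 3 + 1) * (Q ^ 2 - 1)) * 2 ≤ (Q ^ 3 + Q) * (Q ^ 2 * (Q ^ 2 - 1)) := by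
      calc (Q ^ 2 * (Q ^ 3 + 1) * (Q ^ 2 - 1)) * 2 ≤ Q ^ 2 * (Q ^ 3 + 1) * (Q ^ 2 - 1) * S := by
            apply mul_le_mul_of_nonneg_left h3
            have h8 : 0 ≤ Q ^ 3 + 1 := by positivity
            have h9 := mul_nonneg hpos.le h8
            linarith
        _ = k' * a0' := hdc'.symm
        _ ≤ k' * (Q ^ 2 * (Q ^ 2 - 1)) := mul_le_mul_of_nonneg_left ha0' hk0
        _ ≤ _ := mul_le_mul_of_nonneg_right hk hpos.le
    have h5 : (Q ^ 2 * (Q ^ 3 + 1) * (Q ^ 2 - 1)) * 2 =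
        (2 * (Q ^ 3 + 1)) * (Q ^ 2 * (Q ^ 2 - 1)) := by ring
    rw [h5] at h4
    have h6 := le_of_mul_le_mul_right h4 hpos
    have h7 : Q ≤ Q ^ 3 := by nlinarith [sq_nonneg (Q - 1)]
    linarith
  have horth : ∀ x ∈ A, hermForm 5 F q x v = 0 := by
    intro x hx
    refine orth_of_sn hF le_rfl he0 hv hve hvs hvA hcard (by omega) ?_ hx
    rw [hsv, one_mul]
    have : 0 < q ^ 6 := by positivity
    norm_num
    omega
  obtain ⟨w, hw, hws⟩ : ∃ w ∈ A, w ∉ Submodule.span F {e, v} := by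
    by_contra hcon
    push Not at hcon
    have : Nat.card A ≤ q ^ 4 := by
      rw [← card_span_two hF he0 hvs]
      refine Nat.card_le_card_of_injective (fun z => (⟨z.1, hcon z.1 z.2⟩ :
        Submodule.span F {e, v})) ?_
      intro a b hab
      exact Subtype.ext (Subtype.mk.inj hab)
    omega
  have hww : hermForm 5 F q w w ≠ 0 := fun h => hws (hiso w hw h)
  have hws1 : w ∉ Submodule.span F {e} := fun h => hws (Submodule.span_mono (by simp) h)
  have hwe := hAe w hw
  have hwv := horth w hw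
  have hvw := herm_eq_zero_swap hF hwv
  have hvn : v ∉ Submodule.span F {e, w} := by
    intro h
    obtain ⟨b, c, hbc⟩ := Submodule.mem_span_pair.1 h
    have h3 : hermForm 5 F q v w = c * hermForm 5 F q w w := by
      rw [← hbc, herm_add_left, herm_smul_left, herm_smul_left, herm_eq_zero_swap hF hwe,
        mul_zero, zero_add]
    rw [hvw] at h3
    rcases mul_eq_zero.1 h3.symm with h4 | h4
    · apply hvs
      rw [h4, zero_smul, add_zero] at hbc
      exact Submodule.mem_span_singleton.2 ⟨b, hbc⟩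
    · exact hww h4
  obtain ⟨v', hv'p, hv'v', hvv'⟩ := exists_partner hF hv (mem_perp_pair.2 ⟨hve, hvw⟩) hvn
  obtain ⟨hv'e, hv'w⟩ := mem_perp_pair.1 hv'p
  have hA : ∀ t : F, t ≠ 0 → t • v' ∉ A := by
    intro t ht htA
    have h3 := horth _ htA
    rw [herm_smul_left, herm_swap hF v v', hvv', one_pow, mul_one] at h3
    exact ht h3
  have h6 := (card_distinct hF hv'v' hv'e hw (herm_eq_zero_swap hF hv'w) hvA hvv' hA).1
  have hwO : w ∈ OC q e (hermForm 5 F q w w) := mem_OC.2 ⟨rfl, hwe, hws1⟩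
  have hdc2 := double_count hF le_rfl he0 (A : Set (Fin 5 → F)) hwO
  have hO1 := card_OC_ne hF le_rfl he0 he (herm_self_pow hF w) hww
  norm_num at hO1
  have h7 := an_add_an_le (q := q) hF he0 hFe (Ne.symm hww)
  apply Arith.last5 hQ hk0 hk (a0 := (a0 : ℤ))
    (ac := (an q e (A : Set (Fin 5 → F)) (hermForm 5 F q w w) : ℤ))
  · have : (a0 : ℤ) + an q e (A : Set (Fin 5 → F)) (hermForm 5 F q w w) + q ^ 2 ≤ q ^ 5 := by
      exact_mod_cast h7.trans hcard
    linarith
  · rw [hdc', hsv]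
    simp
  · have h8 : (k : ℤ) * an q e (A : Set (Fin 5 → F)) (hermForm 5 F q w w) =
        ((OC q e (hermForm 5 F q w w)).card : ℤ) * sn q e (A : Set (Fin 5 → F)) w := by
      exact_mod_cast hdc2
    have h9 : (q : ℤ) ≤ sn q e (A : Set (Fin 5 → F)) w := by exact_mod_cast h6
    rw [h8, hO1]
    calc (q : ℤ) * (q ^ 4 * (q ^ 3 + 1)) = (q * (q ^ 3 * (q ^ 3 + 1))) * q := by ring
      _ ≤ _ := mul_le_mul_of_nonneg_left h9 (by positivity)

/-- **Key lemma.** -/
theorem key (hF : Fintype.card F = q ^ 2) (hn : 5 ≤ n) {e : Fin n → F} (he0 : e ≠ 0)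
    (he : hermForm n F q e e = 0) {A : AddSubgroup (Fin n → F)}
    (hAe : ∀ x ∈ A, hermForm n F q x e = 0) (hFe : ∀ a : F, a • e ∈ A) {w0 : Fin n → F}
    (hw0 : w0 ∈ A) (hw0s : w0 ∉ Submodule.span F {e}) (hcard : Nat.card A ≤ q ^ n) :
    ((q : ℤ) ^ 2 * (q : ℤ) ^ (n - 2) - (-1) ^ n) * ((q : ℤ) * (q : ℤ) ^ (n - 2) + (-1) ^ n) *
      (Nat.card A : ℤ) ≤ ((Imgs q e (A : Set (Fin n → F))).card : ℤ) *
        ((q : ℤ) ^ 3 * ((q : ℤ) ^ (n - 2)) ^ 2 * ((q : ℤ) ^ 2 - 1)) := by
  have h2 := two_le hF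
  have hQ : (2 : ℤ) ≤ q := by exact_mod_cast h2
  have hε : ((-1 : ℤ) ^ n = 1) ∨ ((-1 : ℤ) ^ n = -1) := neg_one_pow_eq_or ℤ n
  have hX3 : (q : ℤ) ^ 3 ≤ (q : ℤ) ^ (n - 2) := pow_le_pow_right₀ (by linarith) (by omega)
  have hX8 : (8 : ℤ) ≤ (q : ℤ) ^ (n - 2) := by
    refine le_trans ?_ hX3
    nlinarith [pow_le_pow_left₀ (by norm_num : (0:ℤ) ≤ 2) hQ 3]
  have haX : (Nat.card A : ℤ) ≤ (q : ℤ) ^ 2 * (q : ℤ) ^ (n - 2) := by
    rw [← pow_add, show 2 + (n - 2) = n by omega]
    exact_mod_cast hcard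
  by_contra hlt
  push Not at hlt
  have hOz := card_OC_zero hF hn he0 he
  have hOn := fun (c : F) (hc : c ^ q = c) (hc0 : c ≠ 0) => card_OC_ne hF hn he0 he hc hc0
  obtain ⟨k, hk⟩ : ∃ k : ℤ, k = ((Imgs q e (A : Set (Fin n → F))).card : ℤ) := ⟨_, rfl⟩
  obtain ⟨a, ha⟩ : ∃ a : ℤ, a = (Nat.card A : ℤ) := ⟨_, rfl⟩
  rw [← hk, ← ha] at hlt
  rw [← ha] at haX
  have hk0 : 0 ≤ k := by rw [hk]; exact Int.natCast_nonneg _
  have hdc : ∀ (x : Fin n → F) (c : F), x ∈ OC q e c →
      k * (an q e (A : Set (Fin n → F)) c : ℤ) =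
        ((OC q e c).card : ℤ) * (sn q e (A : Set (Fin n → F)) x : ℤ) := by
    intro x c hx
    have := double_count hF hn he0 (A : Set (Fin n → F)) hx
    rw [hk]
    exact_mod_cast this
  have han : ∀ c : F, (an q e (A : Set (Fin n → F)) c : ℤ) ≤ a - (q : ℤ) ^ 2 := by
    intro c
    have := an_add_le (q := q) hF he0 hFe c
    have h3 : (an q e (A : Set (Fin n → F)) c : ℤ) + (q : ℤ) ^ 2 ≤ a := by
      rw [ha]
      exact_mod_cast this
    linarith
  have haQ : (q : ℤ) ^ 2 < a := by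
    have := card_add_le (q := q) hF he0 hFe {w0} (by
      intro x hx
      rw [Finset.mem_singleton] at hx
      rw [hx]
      exact ⟨hw0, hw0s⟩)
    rw [Finset.card_singleton] at this
    have h3 : (1 : ℤ) + (q : ℤ) ^ 2 ≤ a := by
      rw [ha]
      exact_mod_cast this
    linarith
  -- (K0)
  have hK0 : (q : ℤ) ^ 4 < a := by
    by_contra hcon
    push Not at hcon
    have hw0O : w0 ∈ OC q e (hermForm n F q w0 w0) := mem_OC.2 ⟨rfl, hAe _ hw0, hw0s⟩
    have h3 := hdc w0 _ hw0O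
    have h4 : (1 : ℤ) ≤ sn q e (A : Set (Fin n → F)) w0 := by
      exact_mod_cast one_le_sn (q := q) (e := e) (A := (A : Set (Fin n → F))) hw0
    have h5 : ((OC q e (hermForm n F q w0 w0)).card : ℤ) * 1 ≤ k * (a - (q : ℤ) ^ 2) := by
      calc _ ≤ ((OC q e (hermForm n F q w0 w0)).card : ℤ) *
            (sn q e (A : Set (Fin n → F)) w0 : ℤ) :=
            mul_le_mul_of_nonneg_left h4 (Int.natCast_nonneg _)
        _ = k * (an q e (A : Set (Fin n → F)) (hermForm n F q w0 w0) : ℤ) := h3.symm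
        _ ≤ _ := mul_le_mul_of_nonneg_left (han _) hk0
    apply Arith2.k0_contra hQ hX3 hε haQ hcon hlt h5
    by_cases hc0 : hermForm n F q w0 w0 = 0
    · left
      rw [hc0, hOz]
    · right
      rw [hOn _ (herm_self_pow hF w0) hc0]
  -- (K1)
  obtain ⟨v, hvA, hvs, hv⟩ := CW.exists_isotropic_not_mem hF A (Submodule.span F {e}).toAddSubgroup
    (by
      intro x hx
      obtain ⟨b, rfl⟩ := Submodule.mem_span_singleton.1 hx
      exact hFe b) (by
      have h3 : Nat.card (Submodule.span F {e}).toAddSubgroup = q ^ 2 := card_span_one hF he0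
      rw [h3]
      rw [ha] at hK0
      have h5 : q ^ 4 < Nat.card A := by exact_mod_cast hK0
      calc q ^ 2 * q ^ 2 = q ^ 4 := by ring
        _ < _ := h5)
  replace hvs : v ∉ Submodule.span F {e} := hvs
  -- (K2)
  have hs : ∀ u ∈ A, hermForm n F q u u = 0 → u ∉ Submodule.span F {e} →
      sn q e (A : Set (Fin n → F)) u ≤ q := by
    intro u hu huu hus
    by_contra hcon
    push Not at hcon
    have h3 := hdc u 0 (mem_OC.2 ⟨huu, hAe _ hu, hus⟩)
    have h4 : (q : ℤ) + 1 ≤ sn q e (A : Set (Fin n → F)) u := by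
      exact_mod_cast hcon
    have h5 : ((OC q e 0).card : ℤ) * ((q : ℤ) + 1) ≤ k * (a - (q : ℤ) ^ 2) := by
      calc _ ≤ ((OC q e 0).card : ℤ) * (sn q e (A : Set (Fin n → F)) u : ℤ) :=
            mul_le_mul_of_nonneg_left h4 (Int.natCast_nonneg _)
        _ = k * (an q e (A : Set (Fin n → F)) 0 : ℤ) := h3.symm
        _ ≤ _ := mul_le_mul_of_nonneg_left (han _) hk0
    rw [hOz] at h5
    exact Arith2.k2_contra hQ hX3 hε haQ haX hlt h5
  rcases Nat.eq_or_lt_of_le hn with h5 | h6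
  · -- dimension five
    subst h5
    have hk5 : k ≤ (q : ℤ) ^ 3 + q := by
      norm_num at hlt haX
      apply Arith2.k5 hQ haX
      norm_num
      exact hlt
    rw [hk] at hk5
    refine key_five hF he0 he hAe hFe hcard ?_ hvA hv hvs hs hk5
    rw [ha] at hK0
    exact_mod_cast hK0
  · -- dimension at least six
    have hX4 : (q : ℤ) ^ 4 ≤ (q : ℤ) ^ (n - 2) := pow_le_pow_right₀ (by linarith) (by omega)
    have hiso := key_ge_six hF h6 he0 hAe hcard hvA hv hvs hs
    have h3 := hdc v 0 (mem_OC.2 ⟨hv, hAe _ hvA, hvs⟩)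
    have h4 : (1 : ℤ) ≤ sn q e (A : Set (Fin n → F)) v := by
      exact_mod_cast one_le_sn (q := q) (e := e) (A := (A : Set (Fin n → F))) hvA
    have ha0 : (an q e (A : Set (Fin n → F)) 0 : ℤ) ≤ (q : ℤ) ^ 4 - (q : ℤ) ^ 2 := by
      have h5 := an_zero_le (q := q) hF he0 hvs hiso
      have h6 : (an q e (A : Set (Fin n → F)) 0 : ℤ) + (q : ℤ) ^ 2 ≤ (q : ℤ) ^ 4 := by
        exact_mod_cast h5
      linarith
    have h5 : ((OC q e 0).card : ℤ) * 1 ≤ k * ((q : ℤ) ^ 4 - (q : ℤ) ^ 2) := by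
      calc _ ≤ ((OC q e 0).card : ℤ) * (sn q e (A : Set (Fin n → F)) v : ℤ) :=
            mul_le_mul_of_nonneg_left h4 (Int.natCast_nonneg _)
        _ = k * (an q e (A : Set (Fin n → F)) 0 : ℤ) := h3.symm
        _ ≤ _ := mul_le_mul_of_nonneg_left ha0 hk0
    rw [hOz] at h5
    exact Arith2.ka_contra hQ hX4 hε haX hlt h5

end Cfsg.Agent.H77.Key4
end

-- part: H77/Act
section
/-!
# Unipotent stabilisers in a permutation representation of `SU n F q`
-/

set_option autoImplicit false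

namespace Cfsg.Agent.H77.Act

open Cfsg Cfsg.Agent.LieClassical.HermBasic Cfsg.Agent.LieClassical.HermSiegel
open Cfsg.Agent.H77.Geom Cfsg.Agent.H77.Heis Cfsg.Agent.H77.Iso Cfsg.Agent.H77.Key1

variable {F : Type*} [Field F] [Fintype F] {q n : ℕ}
variable {Ω : Type*} [MulAction (SU n F q) Ω]

/-- The Siegel transformation with parameters `v, w, μ` exists and fixes the point `ω`. -/
def Fx (hF : Fintype.card F = q ^ 2) (ω : Ω) (v w : Fin n → F) (μ : F) : Prop :=
  ∃ h : IsSiegel q v w μ, siegel hF v w μ h • ω = ω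

theorem Fx.conj {hF : Fintype.card F = q ^ 2} {ω : Ω} {v w : Fin n → F} {μ : F}
    (h : Fx hF ω v w μ) (g : SU n F q) : Fx hF (g • ω) (act g v) (act g w) μ := by
  obtain ⟨hs, hfix⟩ := h
  refine ⟨hs.map g, ?_⟩
  rw [← conj_siegel hF hs g, mul_smul, mul_smul, inv_smul_smul, hfix]

theorem Fx.smul {hF : Fintype.card F = q ^ 2} {ω : Ω} {v w : Fin n → F} {μ c : F}
    (hc : c ≠ 0) (h : Fx hF ω (c • v) w μ) : Fx hF ω v (c ^ q • w) (c * c ^ q * μ) := by
  obtain ⟨hs, hfix⟩ := h
  have hs' : IsSiegel q v w μ := by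
    have h1 := hs.smul (c := c⁻¹)
    rwa [smul_smul, inv_mul_cancel₀ hc, one_smul] at h1
  refine ⟨hs'.smul' hF, ?_⟩
  rw [← siegel_smul hF hs']
  exact hfix

theorem Fx.map {hF : Fintype.card F = q ^ 2} {ω : Ω} {v w : Fin n → F} {μ c : F}
    (h : Fx hF ω v w μ) {g : SU n F q} (hc : c ≠ 0) (hg : act g v = c • v) :
    Fx hF (g • ω) v (c ^ q • act g w) (c * c ^ q * μ) := by
  have h1 := h.conj g
  rw [hg] at h1
  exact h1.smul hc

/-- Stabiliser of a point in the group of pairs. -/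
def Kst (hF : Fintype.card F = q ^ 2) {v : Fin n → F} (hv : hermForm n F q v v = 0) (ω : Ω) :
    Subgroup (HP hF v hv) := (MulAction.stabilizer (SU n F q) ω).comap (rho hF v hv)

theorem mem_Kst {hF : Fintype.card F = q ^ 2} {v : Fin n → F} {hv : hermForm n F q v v = 0}
    {ω : Ω} {x : HP hF v hv} : x ∈ Kst hF hv ω ↔ rho hF v hv x • ω = ω := Iff.rfl

theorem mem_prj_Kst {hF : Fintype.card F = q ^ 2} {v : Fin n → F}
    {hv : hermForm n F q v v = 0} {ω : Ω} {w : Fin n → F} :
    w ∈ prj (Kst hF hv ω) ↔ ∃ μ, Fx hF ω v w μ := by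
  constructor
  · rintro ⟨x, hx, rfl⟩
    exact ⟨x.m, x.sg, hx⟩
  · rintro ⟨μ, h, hfix⟩
    exact ⟨HP.mk hF hv w μ h, hfix, rfl⟩

theorem mem_cen_Kst {hF : Fintype.card F = q ^ 2} {v : Fin n → F}
    {hv : hermForm n F q v v = 0} {ω : Ω} {c : F} :
    c ∈ cen (Kst hF hv ω) ↔ Fx hF ω v 0 c := by
  constructor
  · rintro ⟨x, hx, h0, rfl⟩
    obtain ⟨⟨w, μ⟩, hs⟩ := x
    change w = 0 at h0
    subst h0
    exact ⟨hs, hx⟩
  · rintro ⟨h, hfix⟩
    exact ⟨HP.mk hF hv 0 c h, hfix, rfl, rfl⟩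

omit [Fintype F] in
theorem act_inv_smul {v : Fin n → F} {g : SU n F q} {c : F} (hc : c ≠ 0)
    (hg : act g v = c • v) : act g⁻¹ v = c⁻¹ • v := by
  have h1 : act g⁻¹ (c • v) = v := by rw [← hg, act_inv_act]
  rw [act_smul] at h1
  calc act g⁻¹ v = c⁻¹ • (c • act g⁻¹ v) := by rw [smul_smul, inv_mul_cancel₀ hc, one_smul]
    _ = c⁻¹ • v := by rw [h1]

theorem prj_map {hF : Fintype.card F = q ^ 2} {v : Fin n → F} (hv : hermForm n F q v v = 0)
    (ω : Ω) {g : SU n F q} {c : F} (hc : c ≠ 0) (hg : act g v = c • v) (w : Fin n → F) :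
    c ^ q • act g w ∈ prj (Kst hF hv (g • ω)) ↔ w ∈ prj (Kst hF hv ω) := by
  rw [mem_prj_Kst, mem_prj_Kst]
  constructor
  · rintro ⟨μ, h⟩
    have h1 := h.map (inv_ne_zero hc) (act_inv_smul hc hg)
    rw [inv_smul_smul, act_smul, act_inv_act, smul_smul, inv_pow,
      inv_mul_cancel₀ (pow_ne_zero _ hc), one_smul] at h1
    exact ⟨_, h1⟩
  · rintro ⟨μ, h⟩
    exact ⟨_, h.map hc hg⟩

theorem cen_map {hF : Fintype.card F = q ^ 2} {v : Fin n → F} (hv : hermForm n F q v v = 0)
    (ω : Ω) {g : SU n F q} {c : F} (hc : c ≠ 0) (hg : act g v = c • v) (κ : F) :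
    c * c ^ q * κ ∈ cen (Kst hF hv (g • ω)) ↔ κ ∈ cen (Kst hF hv ω) := by
  rw [mem_cen_Kst, mem_cen_Kst]
  constructor
  · intro h
    have h1 := h.map (inv_ne_zero hc) (act_inv_smul hc hg)
    rw [inv_smul_smul, act_zero, smul_zero, inv_pow] at h1
    have h2 : c⁻¹ * (c ^ q)⁻¹ * (c * c ^ q * κ) = κ := by
      have : c ^ q ≠ 0 := pow_ne_zero _ hc
      field_simp
    rwa [h2] at h1
  · intro h
    have h1 := h.map hc hg
    rwa [act_zero, smul_zero] at h1

/-- The line of `v` is in the projection. -/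
theorem smul_mem_prj {hF : Fintype.card F = q ^ 2} {v : Fin n → F}
    {hv : hermForm n F q v v = 0} (ω : Ω) (a : F) : a • v ∈ prj (Kst hF hv ω) := by
  rw [mem_prj_Kst]
  have hs : IsSiegel q v (a • v) (a ^ q - a) := by
    refine ⟨hv, by rw [herm_smul_left, hv, mul_zero], ?_⟩
    rw [herm_smul_left, herm_smul_right, hv, sub_pow_q hF, pow_q_pow_q hF]
    ring
  refine ⟨a ^ q - a, hs, ?_⟩
  have : siegel hF v (a • v) (a ^ q - a) hs = 1 := by
    apply ext_act
    intro y
    rw [act_siegel, act_one, herm_smul_right, smul_smul, add_assoc, ← add_smul]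
    have h0 : hermForm n F q y v * a + ((a ^ q - a) * hermForm n F q y v -
      a ^ q * hermForm n F q y v) = 0 := by ring
    rw [h0, zero_smul, add_zero]
  rw [this, one_smul]

theorem prj_orth {hF : Fintype.card F = q ^ 2} {v : Fin n → F}
    {hv : hermForm n F q v v = 0} {K : Subgroup (HP hF v hv)} {w : Fin n → F}
    (hw : w ∈ prj K) : hermForm n F q w v = 0 := by
  obtain ⟨x, -, rfl⟩ := hw
  exact x.sg.orth

/-- The order of the group of pairs. -/
theorem card_HP {hF : Fintype.card F = q ^ 2} {v : Fin n → F}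
    (hv : hermForm n F q v v = 0) (hv0 : v ≠ 0) :
    Nat.card (HP hF v hv) = q ^ (2 * (n - 1)) * q := by
  have h1 := card_EX (hF := hF) (v := v) (hv := hv)
    (X := (perp q {v}).toAddSubgroup) (fun z hz => mem_perp_singleton.1 hz)
  have : (EX (perp q {v}).toAddSubgroup : Subgroup (HP hF v hv)) = ⊤ := by
    rw [eq_top_iff]
    intro x _
    exact mem_perp_singleton.2 x.sg.orth
  rw [this, Subgroup.card_top] at h1
  rw [h1, ← card_perp_one (q := q) hF hv0]
  rfl

/-- Size of an orbit, lower bound. -/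
theorem orbit_le [Finite Ω] {hF : Fintype.card F = q ^ 2} {v : Fin n → F}
    (hv : hermForm n F q v v = 0) (hv0 : v ≠ 0) (ω : Ω) {S : Set Ω}
    (hS : ∀ x : HP hF v hv, rho hF v hv x • ω ∈ S) :
    q ^ (2 * (n - 1)) * q ≤
      Nat.card (prj (Kst hF hv ω)) * Nat.card (cen (Kst hF hv ω)) * Nat.card S := by
  rw [← card_eq, ← card_HP (hF := hF) hv hv0, ← Subgroup.card_mul_index (Kst hF hv ω)]
  apply Nat.mul_le_mul_left
  apply index_le _ (fun x : HP hF v hv => (⟨rho hF v hv x • ω, hS x⟩ : S))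
  intro x y hxy
  have h1 : rho hF v hv x • ω = rho hF v hv y • ω := congrArg Subtype.val hxy
  rw [mem_Kst, map_mul, map_inv, mul_smul, ← h1, inv_smul_smul]

/-- Invariance of the projection under the unipotent group itself. -/
theorem prj_rho {hF : Fintype.card F = q ^ 2} {v : Fin n → F}
    {hv : hermForm n F q v v = 0} (ω : Ω) (x : HP hF v hv) :
    prj (Kst hF hv (rho hF v hv x • ω)) = prj (Kst hF hv ω) := by
  have hfix : act (rho hF v hv x) v = (1 : F) • v := by
    rw [one_smul]; exact act_siegel_self hF x.sg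
  ext w
  have h1 := prj_map (hF := hF) hv ω one_ne_zero hfix
  simp only [one_pow, one_smul] at h1
  constructor
  · intro hw
    have h2 : w + hermForm n F q w x.w • v ∈ prj (Kst hF hv (rho hF v hv x • ω)) :=
      (prj (Kst hF hv (rho hF v hv x • ω))).add_mem hw (smul_mem_prj _ _)
    have hwv := prj_orth hw
    have h3 : w + hermForm n F q w x.w • v ∈ prj (Kst hF hv ω) → w ∈ prj (Kst hF hv ω) := by
      intro h
      have h4 := (prj (Kst hF hv ω)).sub_mem h (smul_mem_prj ω (hermForm n F q w x.w))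
      rwa [add_sub_cancel_right] at h4
    apply h3
    rw [← h1]
    rw [act_rho, herm_add_left, herm_smul_left, hwv, hv, mul_zero, add_zero, zero_smul, add_zero,
      mul_zero, zero_sub, herm_add_left, herm_smul_left, herm_eq_zero_swap hF x.sg.orth, mul_zero,
      add_zero, neg_smul, add_neg_cancel_right]
    exact hw
  · intro hw
    have hwv := prj_orth hw
    have h2 := (h1 w).2 hw
    rw [act_rho, hwv, zero_smul, add_zero, mul_zero, zero_sub, neg_smul] at h2
    have h3 := (prj (Kst hF hv (rho hF v hv x • ω))).add_mem h2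
      (smul_mem_prj (rho hF v hv x • ω) (hermForm n F q w x.w))
    rwa [neg_add_cancel_right] at h3

theorem cen_rho {hF : Fintype.card F = q ^ 2} {v : Fin n → F}
    {hv : hermForm n F q v v = 0} (ω : Ω) {g : SU n F q} (hg : act g v = v) :
    cen (Kst hF hv (g • ω)) = cen (Kst hF hv ω) := by
  have hfix : act g v = (1 : F) • v := by rw [one_smul, hg]
  ext κ
  have h1 := cen_map (hF := hF) hv ω one_ne_zero hfix κ
  rwa [one_pow, one_mul, one_mul] at h1

end Cfsg.Agent.H77.Act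
end

-- part: H77/RLemma
section
/-!
# Multiples of a proper additive subgroup of the trace zero elements
-/

set_option autoImplicit false

namespace Cfsg.Agent.H77.RLemma

open Cfsg Cfsg.Agent.LieClassical.HermBasic
open Cfsg.Agent.H77.Heis

variable {F : Type*} [Field F] [Fintype F] {q : ℕ}

open Classical in
/-- nonzero elements of the fixed field -/
noncomputable def fixedF (F : Type*) [Field F] [Fintype F] (q : ℕ) : Finset F :=
  Finset.univ.filter (fun κ => κ ^ q = κ ∧ κ ≠ 0)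

theorem mem_fixedF {κ : F} : κ ∈ fixedF F q ↔ κ ^ q = κ ∧ κ ≠ 0 := by
  classical
  rw [fixedF, Finset.mem_filter]
  simp

theorem card_fixedF (hF : Fintype.card F = q ^ 2) : (fixedF F q).card + 1 = q := by
  classical
  have h1 := card_fixed hF
  rw [Nat.card_eq_fintype_card, Fintype.card_subtype] at h1
  have h2 : Finset.univ.filter (fun x : F => x ^ q = x) = insert 0 (fixedF F q) := by
    ext x
    rw [Finset.mem_insert, mem_fixedF, Finset.mem_filter]
    constructor
    · rintro ⟨-, hx⟩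
      by_cases h0 : x = 0
      · exact Or.inl h0
      · exact Or.inr ⟨hx, h0⟩
    · rintro (rfl | ⟨hx, -⟩)
      · exact ⟨Finset.mem_univ _, zero_pow_q hF⟩
      · exact ⟨Finset.mem_univ _, hx⟩
  rw [h2, Finset.card_insert_of_notMem] at h1
  · exact h1
  · rw [mem_fixedF]
    simp

open Classical in
/-- The multiples of `C`. -/
noncomputable def Rset (q : ℕ) (C : Set F) : Finset (Set F) :=
  (fixedF F q).image (fun κ => (fun c => κ * c) '' C)

theorem mem_Rset {C B : Set F} :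
    B ∈ Rset q C ↔ ∃ κ, (κ ^ q = κ ∧ κ ≠ 0) ∧ (fun c => κ * c) '' C = B := by
  classical
  rw [Rset, Finset.mem_image]
  simp only [mem_fixedF]

theorem fibre_bound (hF : Fintype.card F = q ^ 2) {C : AddSubgroup F} (hC : C ≤ T0 hF)
    (hne : C ≠ T0 hF) {κ₀ : F} (hκ₀ : κ₀ ^ q = κ₀) (hκ₀0 : κ₀ ≠ 0)
    [DecidablePred fun κ : F => (fun c => κ * c) '' (C : Set F) = (fun c => κ₀ * c) '' C] :
    (((fixedF F q).filter (fun κ => (fun c => κ * c) '' (C : Set F) =
      (fun c => κ₀ * c) '' C)).card + 1) * Nat.card C ≤ q := by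
  classical
  obtain ⟨τ, hτ, hτC⟩ : ∃ τ ∈ T0 hF, τ ∉ C := by
    by_contra hcon
    push Not at hcon
    exact hne (le_antisymm hC hcon)
  set fib := (fixedF F q).filter (fun κ => (fun c => κ * c) '' (C : Set F) =
      (fun c => κ₀ * c) '' C) with hfib
  have h0 : (0 : F) ∉ fib := by
    rw [hfib, Finset.mem_filter, mem_fixedF]
    simp
  have hcC : Nat.card C = (Finset.univ.filter (fun x : F => x ∈ C)).card := by
    rw [Nat.card_eq_fintype_card, Fintype.card_subtype]
  have hcT : q = (Finset.univ.filter (fun x : F => x ∈ T0 hF)).card := by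
    have h := card_T0 hF
    rw [Nat.card_eq_fintype_card, Fintype.card_subtype] at h
    exact h.symm
  have hfibmem : ∀ κ ∈ insert 0 fib, κ ^ q = κ ∧ ∀ c ∈ C, ∃ c' ∈ C, κ * c = κ₀ * c' := by
    intro κ hκ
    rw [Finset.mem_insert] at hκ
    rcases hκ with rfl | hκ
    · exact ⟨zero_pow_q hF, fun c _ => ⟨0, C.zero_mem, by ring⟩⟩
    · rw [hfib, Finset.mem_filter, mem_fixedF] at hκ
      refine ⟨hκ.1.1, fun c hc => ?_⟩
      have : κ * c ∈ (fun c => κ₀ * c) '' (C : Set F) := by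
        rw [← hκ.2]
        exact ⟨c, hc, rfl⟩
      obtain ⟨c', hc', h⟩ := this
      exact ⟨c', hc', h.symm⟩
  have h1 : ((insert 0 fib) ×ˢ (Finset.univ.filter (fun x : F => x ∈ C))).card ≤
      (Finset.univ.filter (fun x : F => x ∈ T0 hF)).card := by
    apply Finset.card_le_card_of_injOn (fun x : F × F => x.1 * τ + κ₀ * x.2)
    · intro x hx
      rw [Finset.mem_coe, Finset.mem_product, Finset.mem_filter] at hx
      rw [Finset.mem_coe, Finset.mem_filter]
      exact ⟨Finset.mem_univ _, (T0 hF).add_mem (smul_mem_T0 hF hτ (hfibmem _ hx.1).1)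
        (smul_mem_T0 hF (hC hx.2.2) hκ₀)⟩
    · rintro ⟨κ, c⟩ hx ⟨κ', c'⟩ hx' hxx
      rw [Finset.mem_coe, Finset.mem_product, Finset.mem_filter] at hx hx'
      simp only at hx hx' hxx
      by_cases hκ : κ = κ'
      · subst hκ
        have h3 := add_left_cancel hxx
        rw [mul_right_injective₀ hκ₀0 h3]
      · exfalso
        apply hτC
        have hδ : κ - κ' ≠ 0 := sub_ne_zero.2 hκ
        -- the map `c ↦ κ₀⁻¹ (κ - κ') c` is a bijection of `C`
        have hmap : ∀ d ∈ C, κ₀⁻¹ * (κ - κ') * d ∈ C := by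
          intro d hd
          obtain ⟨d1, hd1, h4⟩ := (hfibmem _ hx.1).2 d hd
          obtain ⟨d2, hd2, h5⟩ := (hfibmem _ hx'.1).2 d hd
          have h6 : κ₀⁻¹ * (κ - κ') * d = d1 - d2 := by
            have : (κ - κ') * d = κ₀ * (d1 - d2) := by linear_combination h4 - h5
            rw [mul_assoc, this, inv_mul_cancel_left₀ hκ₀0]
          rw [h6]
          exact C.sub_mem hd1 hd2
        let f : C → C := fun d => ⟨κ₀⁻¹ * (κ - κ') * d.1, hmap d.1 d.2⟩
        have hinj : Function.Injective f := by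
          intro a b hab
          have h7 : κ₀⁻¹ * (κ - κ') * a.1 = κ₀⁻¹ * (κ - κ') * b.1 := congrArg Subtype.val hab
          exact Subtype.ext (mul_left_cancel₀ (mul_ne_zero (inv_ne_zero hκ₀0) hδ) h7)
        obtain ⟨d, hd⟩ := (Finite.surjective_of_injective hinj) ⟨c' - c, C.sub_mem hx'.2.2 hx.2.2⟩
        have hd' : κ₀⁻¹ * (κ - κ') * d.1 = c' - c := congrArg Subtype.val hd
        have h8 : (κ - κ') * τ = (κ - κ') * d.1 := by
          have h9 : (κ - κ') * d.1 = κ₀ * (c' - c) := by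
            rw [← hd', mul_assoc, mul_inv_cancel_left₀ hκ₀0]
          rw [h9]
          linear_combination hxx
        rw [mul_left_cancel₀ hδ h8]
        exact d.2
  rw [Finset.card_product, Finset.card_insert_of_notMem h0, ← hcC, ← hcT] at h1
  exact h1

/-- The number of multiples of `C` is at least `|C|`, and larger if `|C| ≥ 2`. -/
theorem r_lemma (hF : Fintype.card F = q ^ 2) {C : AddSubgroup F} (hC : C ≤ T0 hF)
    (hne : C ≠ T0 hF) : Nat.card C ≤ (Rset q (C : Set F)).card ∧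
      (2 ≤ Nat.card C → Nat.card C + 1 ≤ (Rset q (C : Set F)).card) := by
  classical
  obtain ⟨b, hb⟩ := AddSubgroup.card_dvd_of_le hC
  rw [card_T0] at hb
  have h2 := two_le hF
  have hc0 : 0 < Nat.card C := Nat.card_pos
  have h1 : (fixedF F q).card ≤ (b - 1) * (Rset q (C : Set F)).card := by
    rw [Rset]
    apply Finset.card_le_mul_card_image
    intro B hB
    rw [Finset.mem_image] at hB
    obtain ⟨κ₀, hκ₀, rfl⟩ := hB
    rw [mem_fixedF] at hκ₀
    have h3 := fibre_bound hF hC hne hκ₀.1 hκ₀.2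
    have h4 : (((fixedF F q).filter (fun κ => (fun c => κ * c) '' (C : Set F) =
      (fun c => κ₀ * c) '' C)).card + 1) ≤ b := by
      by_contra hcon
      push Not at hcon
      have h5 := Nat.mul_le_mul_right (Nat.card C) hcon
      have h6 : b.succ * Nat.card C = q + Nat.card C := by
        rw [Nat.succ_mul, mul_comm b, ← hb]
      omega
    omega
  have h3 := card_fixedF hF
  have hb2 : 2 ≤ b := by
    by_contra hcon
    have : b = 0 ∨ b = 1 := by omega
    rcases this with rfl | rfl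
    · omega
    · apply hne
      apply AddSubgroup.eq_of_le_of_card_ge hC
      rw [card_T0]
      omega
  generalize (Rset q (C : Set F)).card = r at *
  generalize Nat.card C = c at *
  generalize (fixedF F q).card = m at *
  obtain ⟨b', rfl⟩ : ∃ b', b = b' + 2 := ⟨b - 2, by omega⟩
  have h4 : b' + 2 - 1 = b' + 1 := rfl
  rw [h4] at h1
  have h5 : c * (b' + 2) ≤ (b' + 1) * r + 1 := by
    rw [← hb]
    omega
  constructor
  · by_contra hcon
    push Not at hcon
    have h6 : (b' + 1) * (r + 1) ≤ (b' + 1) * c := Nat.mul_le_mul_left _ hcon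
    nlinarith
  · intro hc2
    by_contra hcon
    push Not at hcon
    have h6 : (b' + 1) * r ≤ (b' + 1) * c := Nat.mul_le_mul_left _ (by omega)
    nlinarith

end Cfsg.Agent.H77.RLemma
end

-- part: H77/Step1
section
/-!
# The orbit of a point under the stabiliser of an isotropic point
-/

set_option autoImplicit false

namespace Cfsg.Agent.H77.Step1

open Cfsg Cfsg.Agent.LieClassical.HermBasic Cfsg.Agent.LieClassical.HermSiegel
open Cfsg.Agent.H77.Geom Cfsg.Agent.H77.Heis Cfsg.Agent.H77.Iso Cfsg.Agent.H77.Key1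
open Cfsg.Agent.H77.Act Cfsg.Agent.H77.RLemma

variable {F : Type*} [Field F] [Fintype F] {q n : ℕ}
variable {Ω : Type*} [MulAction (SU n F q) Ω]

theorem fibre_count {α β : Type*} [Fintype α] [DecidableEq β] (f : α → β) (T : Finset β)
    {L m : ℕ} (h : ∀ t ∈ T, L ≤ m * (Finset.univ.filter (fun a => f a = t)).card) :
    T.card * L ≤ m * Fintype.card α := by
  calc T.card * L = ∑ _t ∈ T, L := by rw [Finset.sum_const, smul_eq_mul]
    _ ≤ ∑ t ∈ T, m * (Finset.univ.filter (fun a => f a = t)).card := Finset.sum_le_sum h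
    _ = m * ∑ t ∈ T, (Finset.univ.filter (fun a => f a = t)).card := by rw [Finset.mul_sum]
    _ = m * (Finset.univ.filter (fun a => f a ∈ T)).card := by
      rw [Finset.sum_card_fiberwise_eq_card_filter]
    _ ≤ m * Fintype.card α := Nat.mul_le_mul_left _ (Finset.card_filter_le _ _)

theorem count [Finite Ω] (hF : Fintype.card F = q ^ 2) (hn : 5 ≤ n) {v : Fin n → F}
    (hv0 : v ≠ 0) (hv : hermForm n F q v v = 0) (ω : Ω) :
    (Rset q (cen (Kst hF hv ω) : Set F)).card *
      (Imgs q v (prj (Kst hF hv ω) : Set (Fin n → F))).card * (q ^ (2 * (n - 1)) * q) ≤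
      Nat.card (prj (Kst hF hv ω)) * Nat.card (cen (Kst hF hv ω)) * Nat.card Ω := by
  classical
  have : Fintype Ω := Fintype.ofFinite Ω
  set C : Set F := (cen (Kst hF hv ω) : Set F) with hC
  set A : Set (Fin n → F) := (prj (Kst hF hv ω) : Set (Fin n → F)) with hA
  have hch : ∀ C1 : Set F, C1 ∈ Rset q C → ∃ (l : F) (g : SU n F q), l ≠ 0 ∧ act g v = l • v ∧
      (fun c => l * l ^ q * c) '' C = C1 := by
    intro C1 hC1
    obtain ⟨κ, ⟨hκ, hκ0⟩, rfl⟩ := mem_Rset.1 hC1
    obtain ⟨l, hl0, hl⟩ := exists_norm_eq_ne hF hκ hκ0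
    obtain ⟨g, hg⟩ := exists_map (q := q) hF (by omega) hv0 hv (e' := l • v)
      (smul_ne_zero hl0 hv0) (by rw [herm_smul_left, herm_smul_right, hv, mul_zero, mul_zero])
    exact ⟨l, g, hl0, hg, by rw [hl]⟩
  choose! l g hl0 hlg hlC using hch
  set Θ : Set F × Set (Fin n → F) → Set F × Set (Fin n → F) :=
    fun p => (p.1, (fun w => (l p.1) ^ q • act (g p.1) w) '' p.2) with hΘ
  set T := (Rset q C ×ˢ Imgs q v A).image Θ with hT
  have hTcard : T.card = (Rset q C).card * (Imgs q v A).card := by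
    rw [hT, Finset.card_image_of_injOn, Finset.card_product]
    rintro ⟨C1, B1⟩ h1 ⟨C2, B2⟩ h2 h12
    rw [Finset.mem_coe, Finset.mem_product] at h1 h2
    have e1 : C1 = C2 := congrArg Prod.fst h12
    subst e1
    have e2 : (fun w => (l C1) ^ q • act (g C1) w) '' B1 =
        (fun w => (l C1) ^ q • act (g C1) w) '' B2 := congrArg Prod.snd h12
    have hinj : Function.Injective (fun w => (l C1) ^ q • act (g C1) w) := by
      intro x y hxy
      exact act_injective _ (smul_right_injective _ (pow_ne_zero _ (hl0 C1 h1.1)) hxy)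
    rw [(Set.image_injective.2 hinj) e2]
  set Ψ : Ω → Set F × Set (Fin n → F) :=
    fun ω' => ((cen (Kst hF hv ω') : Set F), (prj (Kst hF hv ω') : Set (Fin n → F))) with hΨ
  rw [← hTcard, Nat.card_eq_fintype_card (α := Ω)]
  apply fibre_count Ψ T
  intro t ht
  rw [hT, Finset.mem_image] at ht
  obtain ⟨⟨C1, B⟩, hp, rfl⟩ := ht
  rw [Finset.mem_product] at hp
  obtain ⟨hC1, hB⟩ := hp
  simp only at hC1 hB
  obtain ⟨h, hh, rfl⟩ := mem_Imgs.1 hB
  have hl := hl0 C1 hC1
  have hg := hlg C1 hC1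
  -- the point
  set ω₁ : Ω := h • ω with hω₁
  set ω₂ : Ω := g C1 • ω₁ with hω₂
  have hfix : act h v = (1 : F) • v := by rw [one_smul, hh]
  have hc1 : cen (Kst hF hv ω₁) = cen (Kst hF hv ω) := cen_rho ω hh
  have hp1 : (prj (Kst hF hv ω₁) : Set (Fin n → F)) = act h '' A := by
    ext w
    constructor
    · intro hw
      refine ⟨act h⁻¹ w, ?_, act_act_inv h w⟩
      have := (prj_map (hF := hF) hv ω one_ne_zero hfix (act h⁻¹ w)).1
      rw [one_pow, one_smul, act_act_inv] at this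
      exact this hw
    · rintro ⟨w, hw, rfl⟩
      have := (prj_map (hF := hF) hv ω one_ne_zero hfix w).2 hw
      rwa [one_pow, one_smul] at this
  have hc2 : (cen (Kst hF hv ω₂) : Set F) = C1 := by
    rw [← hlC C1 hC1]
    ext κ
    have hN : l C1 * l C1 ^ q ≠ 0 := mul_ne_zero hl (pow_ne_zero _ hl)
    constructor
    · intro hκ
      refine ⟨(l C1 * l C1 ^ q)⁻¹ * κ, ?_, mul_inv_cancel_left₀ hN κ⟩
      have := (cen_map (hF := hF) hv ω₁ hl hg ((l C1 * l C1 ^ q)⁻¹ * κ)).1
      rw [mul_inv_cancel_left₀ hN κ, hc1] at this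
      exact this hκ
    · rintro ⟨c, hc, rfl⟩
      have hc' : c ∈ cen (Kst hF hv ω₁) := by rw [hc1]; exact hc
      exact (cen_map (hF := hF) hv ω₁ hl hg c).2 hc'
  have hp2 : (prj (Kst hF hv ω₂) : Set (Fin n → F)) =
      (fun w => (l C1) ^ q • act (g C1) w) '' (act h '' A) := by
    rw [← hp1]
    ext w
    have hlq : l C1 ^ q ≠ 0 := pow_ne_zero _ hl
    constructor
    · intro hw
      have h3 : l C1 ^ q • act (g C1) (act (g C1)⁻¹ ((l C1 ^ q)⁻¹ • w)) = w := by
        rw [act_act_inv, smul_smul, mul_inv_cancel₀ hlq, one_smul]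
      refine ⟨act (g C1)⁻¹ ((l C1 ^ q)⁻¹ • w), ?_, h3⟩
      have := (prj_map (hF := hF) hv ω₁ hl hg (act (g C1)⁻¹ ((l C1 ^ q)⁻¹ • w))).1
      rw [h3] at this
      exact this hw
    · rintro ⟨w, hw, rfl⟩
      exact (prj_map (hF := hF) hv ω₁ hl hg w).2 hw
  have hcard1 : Nat.card (cen (Kst hF hv ω₂)) = Nat.card (cen (Kst hF hv ω)) := by
    have h3 : Nat.card (cen (Kst hF hv ω₂)) = Nat.card C1 := by
      rw [← hc2]; rfl
    rw [h3, ← hlC C1 hC1]
    rw [Nat.card_image_of_injective (mul_right_injective₀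
      (mul_ne_zero hl (pow_ne_zero _ hl)))]
    rfl
  have hcard2 : Nat.card (prj (Kst hF hv ω₂)) = Nat.card (prj (Kst hF hv ω)) := by
    have h3 : Nat.card (prj (Kst hF hv ω₂)) =
        Nat.card ((fun w => (l C1) ^ q • act (g C1) w) '' (act h '' A)) := by
      rw [← hp2]; rfl
    rw [h3, Nat.card_image_of_injective, Nat.card_image_of_injective (act_injective h)]
    · rfl
    · intro x y hxy
      exact act_injective _ (smul_right_injective _ (pow_ne_zero _ hl) hxy)
  have h4 := orbit_le (hF := hF) hv hv0 ω₂ (S := {ω' | Ψ ω' = Θ (C1, act h '' A)}) (by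
    intro x
    change Ψ (rho hF v hv x • ω₂) = _
    rw [hΨ, hΘ]
    simp only
    rw [prj_rho, cen_rho ω₂ (g := rho hF v hv x) (act_siegel_self hF x.sg), hc2, hp2])
  rw [hcard1, hcard2] at h4
  refine h4.trans (le_of_eq ?_)
  congr 1
  rw [Nat.card_eq_fintype_card, Fintype.card_subtype]
  rfl

/-- The number of nonzero isotropic vectors, as an integer. -/
def In (q n : ℕ) : ℤ :=
  ((q : ℤ) ^ 2 * (q : ℤ) ^ (n - 2) - (-1) ^ n) * ((q : ℤ) * (q : ℤ) ^ (n - 2) + (-1) ^ n)

theorem c_contra {Q X ε c N : ℤ} (hQ : 2 ≤ Q) (hX3 : Q ^ 3 ≤ X) (hε : ε = 1 ∨ ε = -1)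
    (hc2 : 2 ≤ c) (hcQ : 2 * c ≤ Q) (h1 : (c + 1) * (Q * X ^ 2) ≤ c * N)
    (hN : N * (Q ^ 2 - 1) < (Q ^ 2 * X - ε) * (Q * X + ε)) : False := by
  have hX := Arith2.X8 hQ hX3
  have hQ2 := Arith2.Q2_pos hQ
  have h2 : (c + 1) * (Q * X ^ 2) * (Q ^ 2 - 1) < c * ((Q ^ 2 * X - ε) * (Q * X + ε)) := by
    calc _ ≤ c * N * (Q ^ 2 - 1) := mul_le_mul_of_nonneg_right h1 hQ2.le
      _ = c * (N * (Q ^ 2 - 1)) := by ring
      _ < _ := mul_lt_mul_of_pos_left hN (by linarith)
  have h3 : (Q ^ 2 * X - ε) * (Q * X + ε) = Q ^ 3 * X ^ 2 + ε * (Q ^ 2 - Q) * X - 1 := by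
    have : ε * ε = 1 := by rcases hε with rfl | rfl <;> norm_num
    linear_combination -this
  rw [h3] at h2
  have h4 : ε * (Q ^ 2 - Q) * X ≤ (Q ^ 2 - Q) * X := by
    have : 0 ≤ (Q ^ 2 - Q) * X := by
      have : 0 ≤ Q ^ 2 - Q := by nlinarith
      positivity
    rcases hε with rfl | rfl <;> linarith
  have h5 : c * (Q ^ 3 * X ^ 2 + ε * (Q ^ 2 - Q) * X - 1) ≤
      c * (Q ^ 3 * X ^ 2 + (Q ^ 2 - Q) * X - 1) :=
    mul_le_mul_of_nonneg_left (by linarith) (by linarith)
  have h6 : X * (X * (Q * (Q ^ 2 - 1 - c))) < X * (c * (Q ^ 2 - Q)) := by nlinarith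
  have h7 := lt_of_mul_lt_mul_left h6 (by linarith)
  have h8 : Q ^ 2 - Q ≤ Q ^ 2 - 1 - c := by linarith
  have h9 : 0 < Q ^ 2 - Q := by nlinarith
  have h10 : X * (Q * (Q ^ 2 - Q)) ≤ X * (Q * (Q ^ 2 - 1 - c)) :=
    mul_le_mul_of_nonneg_left (mul_le_mul_of_nonneg_left h8 (by linarith)) (by linarith)
  have h11 : (Q ^ 2 - Q) * (X * Q) < (Q ^ 2 - Q) * c := by linarith
  have h12 := lt_of_mul_lt_mul_left h11 h9.le
  nlinarith

/-- **Step 1.** -/
theorem step1 [Finite Ω] (hF : Fintype.card F = q ^ 2) (hn : 5 ≤ n)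
    (hN : (Nat.card Ω : ℤ) * ((q : ℤ) ^ 2 - 1) < In q n) {v : Fin n → F}
    (hv0 : v ≠ 0) (hv : hermForm n F q v v = 0) (ω : Ω) (hC : cen (Kst hF hv ω) ≠ T0 hF) :
    (∀ w ∈ prj (Kst hF hv ω), w ∈ Submodule.span F {v}) ∧ ∀ c ∈ cen (Kst hF hv ω), c = 0 := by
  classical
  have h2 := two_le hF
  have hQ : (2 : ℤ) ≤ q := by exact_mod_cast h2
  have hX3 : (q : ℤ) ^ 3 ≤ (q : ℤ) ^ (n - 2) := pow_le_pow_right₀ (by linarith) (by omega)
  have hε : ((-1 : ℤ) ^ n = 1) ∨ ((-1 : ℤ) ^ n = -1) := neg_one_pow_eq_or ℤ n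
  have hcount := count hF hn hv0 hv ω
  have hr := r_lemma hF (cen_le (Kst hF hv ω)) hC
  have hiso := card_prj_sq_le (Kst hF hv ω) (perp q {v})
    (fun w hw => mem_perp_singleton.2 (prj_orth hw)) hC
  have hrad : Nat.card (perp q {v} ⊓ perp q ((perp q {v} : Submodule F (Fin n → F)) :
      Set (Fin n → F)) : Submodule F (Fin n → F)) ≤ q ^ 2 := by
    rw [← card_span_one hF hv0]
    have hle : (perp q {v} ⊓ perp q ((perp q {v} : Submodule F (Fin n → F)) :
        Set (Fin n → F)) : Submodule F (Fin n → F)) ≤ Submodule.span F {v} := by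
      intro x hx
      by_contra hxs
      obtain ⟨y, hy, hyx⟩ := exists_perp_ne (q := q) hF hxs
      exact hyx (herm_eq_zero_swap hF (hx.2 y hy))
    exact Nat.card_le_card_of_injective (Submodule.inclusion hle)
      (Submodule.inclusion_injective hle)
  have ha : Nat.card (prj (Kst hF hv ω)) ≤ q ^ n := by
    rw [card_perp_one hF hv0] at hiso
    have h4 := hiso.trans (Nat.mul_le_mul_left _ hrad)
    rw [← pow_add, show 2 * (n - 1) + 2 = n * 2 by omega, pow_mul] at h4
    exact (Nat.pow_le_pow_iff_left two_ne_zero).1 h4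
  have hc0 : 0 < Nat.card (cen (Kst hF hv ω)) := Nat.card_pos
  have ha0 : 0 < Nat.card (prj (Kst hF hv ω)) := Nat.card_pos
  have hqX : (q : ℤ) ^ (2 * (n - 1)) * q = q ^ 3 * ((q : ℤ) ^ (n - 2)) ^ 2 := by
    rw [← pow_mul, ← pow_add, ← pow_succ]
    congr 1
    omega
  -- `prj` is the line of `v`
  have hline : ∀ w ∈ prj (Kst hF hv ω), w ∈ Submodule.span F {v} := by
    by_contra hcon
    push Not at hcon
    obtain ⟨w0, hw0, hw0s⟩ := hcon
    have hkey := Key4.key hF hn hv0 hv (A := prj (Kst hF hv ω)) (fun x hx => prj_orth hx)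
      (fun a => smul_mem_prj ω a) hw0 hw0s ha
    have h3 : Nat.card (cen (Kst hF hv ω)) *
        ((Imgs q v (prj (Kst hF hv ω) : Set (Fin n → F))).card * (q ^ (2 * (n - 1)) * q)) ≤
        Nat.card (cen (Kst hF hv ω)) * (Nat.card (prj (Kst hF hv ω)) * Nat.card Ω) := by
      calc _ ≤ (Rset q (cen (Kst hF hv ω) : Set F)).card *
            ((Imgs q v (prj (Kst hF hv ω) : Set (Fin n → F))).card * (q ^ (2 * (n - 1)) * q)) :=
            Nat.mul_le_mul_right _ hr.1
        _ = _ := by rw [mul_assoc]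
        _ ≤ _ := hcount
        _ = _ := by ring
    have h4 := Nat.le_of_mul_le_mul_left h3 hc0
    have h5 : ((Imgs q v (prj (Kst hF hv ω) : Set (Fin n → F))).card : ℤ) *
        (q ^ 3 * ((q : ℤ) ^ (n - 2)) ^ 2) ≤ (Nat.card (prj (Kst hF hv ω)) : ℤ) * Nat.card Ω := by
      rw [← hqX]
      exact_mod_cast h4
    have hQ2 := Arith2.Q2_pos hQ
    have ha0' : (0 : ℤ) < Nat.card (prj (Kst hF hv ω)) := by exact_mod_cast ha0
    unfold In at hN
    generalize (Nat.card (prj (Kst hF hv ω)) : ℤ) = a at *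
    generalize ((Imgs q v (prj (Kst hF hv ω) : Set (Fin n → F))).card : ℤ) = k at *
    generalize ((q : ℤ) ^ 2 * (q : ℤ) ^ (n - 2) - (-1) ^ n) *
      ((q : ℤ) * (q : ℤ) ^ (n - 2) + (-1) ^ n) = I at *
    generalize (Nat.card Ω : ℤ) = N at *
    have h6 := mul_le_mul_of_nonneg_right h5 hQ2.le
    have h7 : a * I ≤ a * (N * ((q : ℤ) ^ 2 - 1)) := by linarith
    have h8 := le_of_mul_le_mul_left h7 ha0'
    linarith
  refine ⟨hline, ?_⟩
  have haq : Nat.card (prj (Kst hF hv ω)) ≤ q ^ 2 := by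
    rw [← card_span_one hF hv0]
    refine Nat.card_le_card_of_injective (fun z => (⟨z.1, hline z.1 z.2⟩ :
      Submodule.span F {v})) ?_
    intro a b hab
    exact Subtype.ext (Subtype.mk.inj hab)
  by_contra hcon
  have hcne : cen (Kst hF hv ω) ≠ ⊥ := by
    intro h
    apply hcon
    intro c hc
    rw [h] at hc
    exact hc
  have hc2 : 2 ≤ Nat.card (cen (Kst hF hv ω)) := by
    by_contra hlt
    have h1 : Nat.card (cen (Kst hF hv ω)) = 1 := by omega
    exact hcne (AddSubgroup.eq_bot_of_card_eq _ h1)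
  have hcQ : 2 * Nat.card (cen (Kst hF hv ω)) ≤ q := by
    obtain ⟨m, hm⟩ := AddSubgroup.card_dvd_of_le (cen_le (Kst hF hv ω))
    rw [card_T0] at hm
    have hm1 : m ≠ 1 := by
      rintro rfl
      apply hC
      apply AddSubgroup.eq_of_le_of_card_ge (cen_le _)
      rw [card_T0]
      omega
    have hm0 : m ≠ 0 := by
      rintro rfl
      omega
    have hm2 : 2 ≤ m := by omega
    calc 2 * Nat.card (cen (Kst hF hv ω)) ≤ m * Nat.card (cen (Kst hF hv ω)) :=
          Nat.mul_le_mul_right _ hm2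
      _ = q := by rw [mul_comm, ← hm]
  have hk1 : 1 ≤ (Imgs q v (prj (Kst hF hv ω) : Set (Fin n → F))).card :=
    Finset.card_pos.2 ⟨_, Key3.self_mem_Imgs _ _⟩
  have h3 : (Nat.card (cen (Kst hF hv ω)) + 1) * (q ^ (2 * (n - 1)) * q) ≤
      q ^ 2 * (Nat.card (cen (Kst hF hv ω)) * Nat.card Ω) := by
    calc _ ≤ (Rset q (cen (Kst hF hv ω) : Set F)).card *
          (Imgs q v (prj (Kst hF hv ω) : Set (Fin n → F))).card * (q ^ (2 * (n - 1)) * q) := by
          apply Nat.mul_le_mul_right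
          calc _ = (Nat.card (cen (Kst hF hv ω)) + 1) * 1 := (mul_one _).symm
            _ ≤ _ := Nat.mul_le_mul (hr.2 hc2) hk1
      _ ≤ _ := hcount
      _ = Nat.card (prj (Kst hF hv ω)) * (Nat.card (cen (Kst hF hv ω)) * Nat.card Ω) := by ring
      _ ≤ _ := Nat.mul_le_mul_right _ haq
  have h4 : (q : ℤ) ^ 2 * (((Nat.card (cen (Kst hF hv ω)) : ℤ) + 1) *
      (q * ((q : ℤ) ^ (n - 2)) ^ 2)) ≤ (q : ℤ) ^ 2 *
        ((Nat.card (cen (Kst hF hv ω)) : ℤ) * Nat.card Ω) := by
    have h5 : (q : ℤ) ^ 2 * (((Nat.card (cen (Kst hF hv ω)) : ℤ) + 1) *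
        (q * ((q : ℤ) ^ (n - 2)) ^ 2)) =
        ((Nat.card (cen (Kst hF hv ω)) : ℤ) + 1) * ((q : ℤ) ^ (2 * (n - 1)) * q) := by
      rw [hqX]; ring
    rw [h5]
    exact_mod_cast h3
  have h5 := le_of_mul_le_mul_left h4 (by positivity)
  exact c_contra hQ hX3 hε (by exact_mod_cast hc2) (by exact_mod_cast hcQ) h5 hN

end Cfsg.Agent.H77.Step1
end

-- part: H77/Step2
section
/-!
# Regular orbits of the unipotent groups
-/

set_option autoImplicit false

namespace Cfsg.Agent.H77.Step2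

open Cfsg Cfsg.Agent.LieClassical.HermBasic Cfsg.Agent.LieClassical.HermSiegel
open Cfsg.Agent.H77.Geom Cfsg.Agent.H77.Heis Cfsg.Agent.H77.Iso Cfsg.Agent.H77.Key1
open Cfsg.Agent.H77.Act Cfsg.Agent.H77.Step1

variable {F : Type*} [Field F] [Fintype F] {q n : ℕ}
variable {Ω : Type*} [MulAction (SU n F q) Ω]

/-- The transvection group of `v` fixes `ω`. -/
def Fixed (hF : Fintype.card F = q ^ 2) (v : Fin n → F) (ω : Ω) : Prop :=
  ∀ c, c ∈ T0 hF → Fx hF ω v 0 c

theorem fixed_iff {hF : Fintype.card F = q ^ 2} {v : Fin n → F} (hv : hermForm n F q v v = 0)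
    {ω : Ω} : Fixed hF v ω ↔ cen (Kst hF hv ω) = T0 hF := by
  constructor
  · intro h
    exact le_antisymm (cen_le _) fun c hc => mem_cen_Kst.2 (h c hc)
  · intro h c hc
    rw [← h] at hc
    exact mem_cen_Kst.1 hc

theorem Fixed.gmap {hF : Fintype.card F = q ^ 2} {v : Fin n → F} {ω : Ω} (h : Fixed hF v ω)
    (g : SU n F q) : Fixed hF (act g v) (g • ω) := by
  intro c hc
  have := (h c hc).conj g
  rwa [act_zero] at this

theorem fixed_act_iff {hF : Fintype.card F = q ^ 2} {v : Fin n → F} {ω : Ω} (g : SU n F q) :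
    Fixed hF (act g v) (g • ω) ↔ Fixed hF v ω := by
  constructor
  · intro h
    have := h.gmap g⁻¹
    rwa [act_inv_act, inv_smul_smul] at this
  · exact fun h => h.gmap g

theorem Fixed.of_smul {hF : Fintype.card F = q ^ 2} {v : Fin n → F} {ω : Ω} {c : F} (hc : c ≠ 0)
    (h : Fixed hF (c • v) ω) : Fixed hF v ω := by
  intro d hd
  have hN : c * c ^ q ≠ 0 := mul_ne_zero hc (pow_ne_zero _ hc)
  have h1 : (c * c ^ q)⁻¹ * d ∈ T0 hF := smul_mem_T0 hF hd (by
    rw [inv_pow, norm_pow_q hF])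
  have h2 := (h _ h1).smul hc
  rwa [smul_zero, mul_inv_cancel_left₀ hN] at h2

theorem Fixed.smul {hF : Fintype.card F = q ^ 2} {v : Fin n → F} {ω : Ω} {c : F} (hc : c ≠ 0)
    (h : Fixed hF v ω) : Fixed hF (c • v) ω := by
  apply Fixed.of_smul (inv_ne_zero hc)
  rwa [smul_smul, inv_mul_cancel₀ hc, one_smul]

/-- The pair `(a v, a ^ q - a)` acts trivially. -/
theorem rho_line {hF : Fintype.card F = q ^ 2} {v : Fin n → F} (hv : hermForm n F q v v = 0)
    (a : F) : ∃ x : HP hF v hv, x.w = a • v ∧ rho hF v hv x = 1 := by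
  have hs : IsSiegel q v (a • v) (a ^ q - a) := by
    refine ⟨hv, by rw [herm_smul_left, hv, mul_zero], ?_⟩
    rw [herm_smul_left, herm_smul_right, hv, sub_pow_q hF, pow_q_pow_q hF]
    ring
  refine ⟨HP.mk hF hv _ _ hs, rfl, ?_⟩
  apply ext_act
  intro y
  rw [act_rho, act_one, HP.mk_w, HP.mk_m, herm_smul_right, smul_smul, add_assoc, ← add_smul]
  have h0 : hermForm n F q y v * a + ((a ^ q - a) * hermForm n F q y v -
    a ^ q * hermForm n F q y v) = 0 := by ring
  rw [h0, zero_smul, add_zero]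

section Main

variable [Finite Ω]

theorem triv_of_not_fixed (hF : Fintype.card F = q ^ 2) (hn : 5 ≤ n)
    (hN : (Nat.card Ω : ℤ) * ((q : ℤ) ^ 2 - 1) < In q n) {v : Fin n → F} (hv0 : v ≠ 0)
    (hv : hermForm n F q v v = 0) {ω : Ω} (hfix : ¬ Fixed hF v ω) {x : HP hF v hv}
    (hx : rho hF v hv x • ω = ω) : x.w ∈ Submodule.span F {v} ∧ rho hF v hv x = 1 := by
  rw [fixed_iff hv] at hfix
  obtain ⟨h1, h2⟩ := step1 hF hn hN hv0 hv ω hfix
  have hxw : x.w ∈ prj (Kst hF hv ω) := ⟨x, hx, rfl⟩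
  have hxs := h1 _ hxw
  refine ⟨hxs, ?_⟩
  obtain ⟨a, ha⟩ := Submodule.mem_span_singleton.1 hxs
  obtain ⟨y, hyw, hy1⟩ := rho_line (hF := hF) hv a
  have h3 : x * y⁻¹ ∈ Kst hF hv ω := by
    rw [mem_Kst, map_mul, map_inv, hy1, inv_one, mul_one, hx]
  have h4 : (x * y⁻¹).w = 0 := by
    rw [mul_w, inv_w, hyw, ha, add_neg_cancel]
  have h5 : (x * y⁻¹).m = 0 := h2 _ ⟨_, h3, h4, rfl⟩
  have h6 : x * y⁻¹ = 1 := HP.ext h4 h5
  have h7 : x = y := mul_inv_eq_one.1 h6
  rw [h7, hy1]

/-- The stabiliser of a point not fixed by `Z_v`. -/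
theorem card_Kst (hF : Fintype.card F = q ^ 2) (hn : 5 ≤ n)
    (hN : (Nat.card Ω : ℤ) * ((q : ℤ) ^ 2 - 1) < In q n) {v : Fin n → F} (hv0 : v ≠ 0)
    (hv : hermForm n F q v v = 0) {ω : Ω} (hfix : ¬ Fixed hF v ω) :
    Nat.card (Kst hF hv ω) = q ^ 2 := by
  rw [fixed_iff hv] at hfix
  obtain ⟨h1, h2⟩ := step1 hF hn hN hv0 hv ω hfix
  rw [card_eq]
  have h3 : cen (Kst hF hv ω) = ⊥ := by
    rw [eq_bot_iff]
    exact fun c hc => h2 c hc
  have h4 : prj (Kst hF hv ω) = (Submodule.span F {v}).toAddSubgroup := by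
    ext w
    constructor
    · exact fun hw => h1 w hw
    · intro hw
      obtain ⟨a, rfl⟩ := Submodule.mem_span_singleton.1 hw
      exact smul_mem_prj ω a
  rw [h3, h4, AddSubgroup.card_bot, mul_one]
  exact card_span_one hF hv0

/-- The orbit of a point under the unipotent group of `v`. -/
def orb (hF : Fintype.card F = q ^ 2) {v : Fin n → F} (hv : hermForm n F q v v = 0) (ω : Ω) :
    Set Ω := {ω' | ∃ x : HP hF v hv, ω' = rho hF v hv x • ω}

theorem card_orb (hF : Fintype.card F = q ^ 2) (hn : 5 ≤ n)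
    (hN : (Nat.card Ω : ℤ) * ((q : ℤ) ^ 2 - 1) < In q n) {v : Fin n → F} (hv0 : v ≠ 0)
    (hv : hermForm n F q v v = 0) {ω : Ω} (hfix : ¬ Fixed hF v ω) :
    Nat.card (orb hF hv ω) = q ^ (2 * n - 3) := by
  classical
  have h2 := two_le hF
  have h1 := Subgroup.card_mul_index (Kst hF hv ω)
  rw [card_Kst hF hn hN hv0 hv hfix, card_HP hv hv0] at h1
  have h3 : (Kst hF hv ω).index = Nat.card (orb hF hv ω) := by
    rw [Subgroup.index]
    apply Nat.card_congr
    refine Equiv.ofBijective (Quotient.lift (s := QuotientGroup.leftRel (Kst hF hv ω))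
      (fun x => (⟨rho hF v hv x • ω, x, rfl⟩ : orb hF hv ω)) ?_) ⟨?_, ?_⟩
    · intro a b hab
      apply Subtype.ext
      change rho hF v hv a • ω = rho hF v hv b • ω
      have h4 : a⁻¹ * b ∈ Kst hF hv ω := QuotientGroup.leftRel_apply.1 hab
      rw [mem_Kst, map_mul, map_inv, mul_smul] at h4
      rw [inv_smul_eq_iff] at h4
      exact h4.symm
    · intro a b
      induction a using QuotientGroup.induction_on with
      | H a =>
        induction b using QuotientGroup.induction_on with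
        | H b =>
          intro hab
          have h4 : rho hF v hv a • ω = rho hF v hv b • ω := congrArg Subtype.val hab
          rw [QuotientGroup.eq, mem_Kst, map_mul, map_inv, mul_smul, ← h4, inv_smul_smul]
    · rintro ⟨_, x, rfl⟩
      exact ⟨QuotientGroup.mk x, rfl⟩
  have h5 : q ^ (2 * (n - 1)) * q = q ^ 2 * q ^ (2 * n - 3) := by
    rw [← pow_succ, ← pow_add]
    congr 1
    omega
  rw [h3, h5] at h1
  have h4 : q ^ 2 * Nat.card (orb hF hv ω) = q ^ 2 * q ^ (2 * n - 3) := h1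
  exact Nat.eq_of_mul_eq_mul_left (by positivity) h4

theorem two_orb_contra {Q X ε : ℤ} (hQ : 2 ≤ Q) (hX3 : Q ^ 3 ≤ X) (hε : ε = 1 ∨ ε = -1) {N : ℤ}
    (h1 : 2 * (Q * X ^ 2) ≤ N)
    (hN : N * (Q ^ 2 - 1) < (Q ^ 2 * X - ε) * (Q * X + ε)) : False := by
  have hQ2 := Arith2.Q2_pos hQ
  have h2 : 2 * (Q * X ^ 2) * (Q ^ 2 - 1) < (Q ^ 2 * X - ε) * (Q * X + ε) :=
    lt_of_le_of_lt (mul_le_mul_of_nonneg_right h1 hQ2.le) hN
  have h3 : (Q ^ 2 * X - ε) * (Q * X + ε) ≤ 2 * (Q * X ^ 2) * (Q ^ 2 - 1) := by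
    rcases hε with rfl | rfl
    · refine Arith.sub_pos (P := fun Q X => (Q ^ 2 * X - 1) * (Q * X + 1) ≤
        2 * (Q * X ^ 2) * (Q ^ 2 - 1)) 3 ?_ hQ hX3
      intro s t
      rw [← sub_nonneg]
      ring_nf
      positivity
    · refine Arith.sub_pos (P := fun Q X => (Q ^ 2 * X - -1) * (Q * X + -1) ≤
        2 * (Q * X ^ 2) * (Q ^ 2 - 1)) 3 ?_ hQ hX3
      intro s t
      rw [← sub_nonneg]
      ring_nf
      positivity
  linarith

theorem pow_cast_eq (hn : 5 ≤ n) (Q : ℤ) : Q ^ (2 * n - 3) = Q * (Q ^ (n - 2)) ^ 2 := by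
  rw [← pow_mul, ← pow_succ']
  congr 1
  omega

/-- The points not fixed by `Z_v` form one orbit. -/
theorem same_orb (hF : Fintype.card F = q ^ 2) (hn : 5 ≤ n)
    (hN : (Nat.card Ω : ℤ) * ((q : ℤ) ^ 2 - 1) < In q n) {v : Fin n → F} (hv0 : v ≠ 0)
    (hv : hermForm n F q v v = 0) {ω ω' : Ω} (hfix : ¬ Fixed hF v ω) (hfix' : ¬ Fixed hF v ω') :
    ∃ x : HP hF v hv, ω' = rho hF v hv x • ω := by
  classical
  by_contra hcon
  have : Fintype Ω := Fintype.ofFinite Ω
  have h2 := two_le hF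
  have hQ : (2 : ℤ) ≤ q := by exact_mod_cast h2
  have hX3 : (q : ℤ) ^ 3 ≤ (q : ℤ) ^ (n - 2) := pow_le_pow_right₀ (by linarith) (by omega)
  have hε : ((-1 : ℤ) ^ n = 1) ∨ ((-1 : ℤ) ^ n = -1) := neg_one_pow_eq_or ℤ n
  have h1 := card_orb hF hn hN hv0 hv hfix
  have h1' := card_orb hF hn hN hv0 hv hfix'
  have hdisj : Disjoint (orb hF hv ω) (orb hF hv ω') := by
    rw [Set.disjoint_left]
    rintro _ ⟨x, rfl⟩ ⟨y, hy⟩
    apply hcon
    refine ⟨y⁻¹ * x, ?_⟩
    rw [map_mul, map_inv, mul_smul, hy, inv_smul_smul]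
  have h3 : 2 * q ^ (2 * n - 3) ≤ Nat.card Ω := by
    calc 2 * q ^ (2 * n - 3) = (orb hF hv ω).ncard + (orb hF hv ω').ncard := by
          rw [← Nat.card_coe_set_eq, ← Nat.card_coe_set_eq, h1, h1', two_mul]
      _ = (orb hF hv ω ∪ orb hF hv ω').ncard := (Set.ncard_union_eq hdisj).symm
      _ ≤ _ := Set.ncard_le_card _
  refine two_orb_contra hQ hX3 hε (N := (Nat.card Ω : ℤ)) ?_ hN
  rw [← pow_cast_eq hn]
  exact_mod_cast h3

/-- Number of points not fixed by `Z_v`. -/
theorem card_not_fixed (hF : Fintype.card F = q ^ 2) (hn : 5 ≤ n)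
    (hN : (Nat.card Ω : ℤ) * ((q : ℤ) ^ 2 - 1) < In q n) {v : Fin n → F} (hv0 : v ≠ 0)
    (hv : hermForm n F q v v = 0) {ω : Ω} (hfix : ¬ Fixed hF v ω) :
    Nat.card {ω' : Ω // ¬ Fixed hF v ω'} = q ^ (2 * n - 3) := by
  rw [← card_orb hF hn hN hv0 hv hfix]
  have : {ω' : Ω | ¬ Fixed hF v ω'} = orb hF hv ω := by
    ext ω'
    constructor
    · intro h
      exact same_orb hF hn hN hv0 hv hfix h
    · rintro ⟨x, rfl⟩ h
      apply hfix
      have h1 := h.gmap (rho hF v hv x)⁻¹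
      rw [inv_smul_smul] at h1
      have h2 : act (rho hF v hv x)⁻¹ v = v :=
        act_inv_fix (act_siegel_self hF x.sg)
      rwa [h2] at h1
  rw [← this]
  rfl

end Main

end Cfsg.Agent.H77.Step2
end

-- part: H77/GeomD
section
/-!
# Totally singular invariant additive subgroups
-/

set_option autoImplicit false

namespace Cfsg.Agent.H77.GeomD

open Cfsg Cfsg.Agent.LieClassical.HermBasic Cfsg.Agent.LieClassical.HermSiegel
open Cfsg.Agent.H77.Geom Cfsg.Agent.H77.Heis Cfsg.Agent.H77.Key1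

variable {F : Type*} [Field F] [Fintype F] {q n : ℕ}

/-- All multiples of `b` are in `D`. -/
theorem smul_mem_of_orth (hF : Fintype.card F = q ^ 2) {e : Fin n → F}
    {D : AddSubgroup (Fin n → F)} (hDe : ∀ x ∈ D, hermForm n F q x e = 0)
    (hiso : ∀ x ∈ D, hermForm n F q x x = 0)
    (hinv : ∀ b ∈ D, b ∉ Submodule.span F {e} → ∀ g : SU n F q, act g e = e → act g b = b →
      ∀ y ∈ D, act g y ∈ D) {b y : Fin n → F} (hb : b ∈ D) (hbs : b ∉ Submodule.span F {e})
    (hy : y ∈ D) (hys : y ∉ Submodule.span F {e, b}) (hyb : hermForm n F q y b = 0) (a : F) :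
    a • b ∈ D := by
  obtain ⟨z, hz, hzy⟩ := exists_perp_ne (q := q) hF hys
  obtain ⟨hze, hzb⟩ := mem_perp_pair.1 hz
  have hyz : hermForm n F q y z ≠ 0 := by
    rw [herm_swap hF z y]; exact pow_ne_zero _ hzy
  set κ := (-(a * (hermForm n F q y z)⁻¹)) ^ q with hκ
  have hκz : hermForm n F q (κ • z) b = 0 := by rw [herm_smul_left, hzb, mul_zero]
  obtain ⟨μ, hμ⟩ := exists_mu hF (hiso b hb) hκz
  have hbe := hDe b hb
  have heb := herm_eq_zero_swap hF hbe
  have hez := herm_eq_zero_swap hF hze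
  have h1 : act (siegel hF b (κ • z) μ hμ) e = e := by
    rw [act_siegel, heb, herm_smul_right, hez]; simp
  have h2 := hinv b hb hbs _ h1 (act_siegel_self hF hμ) y hy
  have h3 := D.sub_mem h2 hy
  rw [act_siegel, hyb, zero_smul, add_zero, mul_zero, zero_sub, herm_smul_right,
    add_sub_cancel_left, hκ, pow_q_pow_q hF, neg_mul, neg_neg, inv_mul_cancel_right₀ hyz] at h3
  exact h3

theorem le_span (hF : Fintype.card F = q ^ 2) (hn : 5 ≤ n) {e : Fin n → F} (he0 : e ≠ 0)
    {D : AddSubgroup (Fin n → F)} (hDe : ∀ x ∈ D, hermForm n F q x e = 0)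
    (hiso : ∀ x ∈ D, hermForm n F q x x = 0)
    (hinv : ∀ b ∈ D, b ∉ Submodule.span F {e} → ∀ g : SU n F q, act g e = e → act g b = b →
      ∀ y ∈ D, act g y ∈ D) {b : Fin n → F} (hb : b ∈ D) (hbs : b ∉ Submodule.span F {e}) :
    ∀ y ∈ D, y ∈ Submodule.span F {e, b} := by
  intro y hy
  by_contra hys
  have hbe := hDe b hb
  have heb := herm_eq_zero_swap hF hbe
  have hye := hDe y hy
  have hbb := hiso b hb
  by_cases hyb : hermForm n F q y b = 0
  · have hall := smul_mem_of_orth hF hDe hiso hinv hb hbs hy hys hyb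
    have hys1 : y ∉ Submodule.span F {e} := fun h => hys (Submodule.span_mono (by simp) h)
    have hbs1 : b ∉ Submodule.span F {e, y} := by
      intro h
      obtain ⟨α, β, hαβ⟩ := Submodule.mem_span_pair.1 h
      by_cases hβ : β = 0
      · apply hbs
        rw [hβ, zero_smul, add_zero] at hαβ
        exact Submodule.mem_span_singleton.2 ⟨α, hαβ⟩
      · apply hys
        rw [Submodule.mem_span_pair]
        refine ⟨-(β⁻¹ * α), β⁻¹, ?_⟩
        rw [← hαβ, smul_add, smul_smul, smul_smul, inv_mul_cancel₀ hβ, one_smul, neg_smul]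
        abel
    have hall' := smul_mem_of_orth hF hDe hiso hinv hy hys1 hb hbs1
      (herm_eq_zero_swap hF hyb)
    obtain ⟨x, hx, hxx, hyx⟩ := exists_partner hF (hiso y hy) (mem_perp_pair.2 ⟨hye, hyb⟩) hys
    obtain ⟨hxe, hxb⟩ := mem_perp_pair.1 hx
    obtain ⟨c, hc, hc0⟩ := exists_mem_T0 hF
    have h1 : act (tv hF x hxx c hc) e = e := by
      rw [act_tv, herm_eq_zero_swap hF hxe, mul_zero, zero_smul, add_zero]
    have h2 : act (tv hF x hxx c hc) b = b := by
      rw [act_tv, herm_eq_zero_swap hF hxb, mul_zero, zero_smul, add_zero]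
    have h3 := D.sub_mem (hinv b hb hbs _ h1 h2 y hy) hy
    rw [act_tv, hyx, mul_one, add_sub_cancel_left] at h3
    have h4 : c ^ q = 0 := by
      apply eq_zero_of_forall_trace hF
      intro l
      have h5 := hiso _ (D.add_mem (hall' l) h3)
      have hxy : hermForm n F q x y = 1 := by rw [herm_swap hF y x, hyx, one_pow]
      simp only [herm_add_left, herm_add_right hF, herm_smul_left, herm_smul_right, hiso y hy,
        hxx, hyx, hxy] at h5
      rw [mul_pow, pow_q_pow_q hF]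
      linear_combination h5
    exact pow_ne_zero q hc0 h4
  · obtain ⟨z, hz, hzz⟩ := exists_nonisotropic (q := q) hF (linInd_pair he0 hbs) (by omega)
    rw [range_pair] at hz
    obtain ⟨hze, hzb⟩ := mem_perp_pair.1 hz
    obtain ⟨μ, hμ⟩ := exists_mu hF hbb hzb
    have h1 : act (siegel hF b z μ hμ) e = e := by
      rw [act_siegel, heb, herm_eq_zero_swap hF hze]; simp
    have h2 := D.sub_mem (hinv b hb hbs _ h1 (act_siegel_self hF hμ) y hy) hy
    have h3 : act (siegel hF b z μ hμ) y - y = hermForm n F q y b • z +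
        (μ * hermForm n F q y b - hermForm n F q y z) • b := by
      rw [act_siegel]; abel
    rw [h3] at h2
    have h4 := hiso _ h2
    simp only [herm_add_left, herm_add_right hF, herm_smul_left, herm_smul_right, hbb, hzb,
      herm_eq_zero_swap hF hzb, mul_zero, add_zero] at h4
    have h5 : hermForm n F q y b * (hermForm n F q y b ^ q * hermForm n F q z z) ≠ 0 :=
      mul_ne_zero hyb (mul_ne_zero (pow_ne_zero _ hyb) hzz)
    apply h5
    linear_combination h4

end Cfsg.Agent.H77.GeomD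
end
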