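import Cfsg.Agent.H378.TwRows
import Cfsg.Agent.H77.E4Num
import Cfsg.Agent.H493.EigFast
import Cfsg.Agent.H77.E4Poly_m3
import Cfsg.Agent.H169.TorPair
import Cfsg.Agent.H403.TLSmall
import Cfsg.Agent.H65.UnivE
import Cfsg.Agent.S1077
import Cfsg.Agent.S1054
import Cfsg.Agent.S1064
import Cfsg.Agent.Lib.Involves
import Cfsg.Agent.ChevalleyStructure.StEmbed
import Cfsg.Agent.H720.TwFr
import Cfsg.Agent.Prune
set_option linter.all false

section
prune_inst 0x7f00000000000000000000000000000000000000000000000000000000000000000000000000000000000000000000000000000000000000000000000000000000000000000000000000000000000000003fffffffffffffffffffffffffffbeffbdffffffff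

-- part: H77/E4Tor
section
set_option linter.all false
open scoped Cfsg.Agent.FastGrp

-- part: H77/E4Cert
section
/-!
# Cyclic subgroups of the maximal tori of the exceptional groups: certificates (helper77)

Weyl group elements `w` (as products of simple reflections with the partial products) with an eigenvector for a divisor
of the characteristic polynomial.
-/

set_option autoImplicit false

namespace Cfsg.Agent.H77.E4Cert

open Cfsg.Agent.H129.WData Cfsg.Agent.H378.AdjTab Cfsg.Agent.H493.PGTorus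

/-! ### `E₆` : `(x⁴ - 1) (x² - x + 1)` -/

/-- the partial products -/
def LE6 : List (Fin 6 × Mat 6) := [
    (4, ![![1, 1, 1, 2, 1, 0],
        ![0, 0, 0, 0, -1, 0],
        ![0, -1, -1, -2, -1, 0],
        ![0, 0, 1, 1, 1, 0],
        ![0, 1, 0, 1, 1, 1],
        ![0, 0, 0, -1, -1, -1]]),
    (3, ![![1, 1, 1, 2, 1, 0],
        ![0, 0, 0, 0, 1, 0],
        ![0, -1, -1, -2, -1, 0],
        ![0, 0, 1, 1, 0, 0],
        ![0, 1, 0, 1, 1, 1],
        ![0, 0, 0, -1, -1, -1]]),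
    (1, ![![1, 1, 1, 1, 1, 0],
        ![0, 0, 0, 1, 1, 0],
        ![0, -1, -1, -1, -1, 0],
        ![0, 0, 1, 0, 0, 0],
        ![0, 1, 0, 1, 1, 1],
        ![0, 0, 0, 0, -1, -1]]),
    (4, ![![1, 0, 1, 1, 1, 0],
        ![0, 1, 0, 1, 1, 0],
        ![0, 0, -1, -1, -1, 0],
        ![0, 0, 1, 0, 0, 0],
        ![0, 0, 0, 1, 1, 1],
        ![0, 0, 0, 0, -1, -1]]),
    (5, ![![1, 0, 1, 1, 0, 0],
        ![0, 1, 0, 1, 0, 0],
        ![0, 0, -1, -1, 0, 0],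
        ![0, 0, 1, 0, 0, 0],
        ![0, 0, 0, 1, 1, 1],
        ![0, 0, 0, 0, 0, -1]]),
    (3, ![![1, 0, 1, 1, 0, 0],
        ![0, 1, 0, 1, 0, 0],
        ![0, 0, -1, -1, 0, 0],
        ![0, 0, 1, 0, 0, 0],
        ![0, 0, 0, 1, 1, 0],
        ![0, 0, 0, 0, 0, 1]]),
    (2, ![![1, 0, 1, 0, 0, 0],
        ![0, 1, 0, 0, 0, 0],
        ![0, 0, -1, 0, 0, 0],
        ![0, 0, 1, 1, 0, 0],
        ![0, 0, 0, 0, 1, 0],
        ![0, 0, 0, 0, 0, 1]])]

/-- the coefficients -/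
def cE6 : Fin (5 + 1) → ℤ := ![-1, 1, -1, 0, 1, -1]

/-- the eigenvector -/
def VE6 : Fin (5 + 1) → Fin 6 → ℤ := ![![-1, -1, -2, -2, -2, -1],
      ![0, 0, 0, -1, 0, 0],
      ![-1, -1, -1, -1, -1, 0],
      ![-1, 0, -1, -1, -1, -1],
      ![0, 0, 0, 0, 1, 1],
      ![-1, -1, -1, -1, -1, -1]]

/-- the functional -/
def UE6 : Fin 6 → ℤ := ![1, 0, -1, 0, 0, 0]

theorem chainE6 : ChainOK H378.AdjE6.Am LE6 :=
  H129.ChainF.ok H129.ChainF.i6 H129.ChainF.m6 (H129.ChainF.c6 <| H129.ChainF.c6 <| H129.ChainF.c6 <| H129.ChainF.c6 <| H129.ChainF.c6 <| H129.ChainF.c6 <| H129.ChainF.c6 <| H129.ChainF.nil) (by decide +kernel)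

theorem eigE6 : EigOK (hd LE6) cE6 VE6 UE6 :=
  H493.EigF.ok (H493.EigF.hT H493.EigF.t6) H493.EigF.r6 (H493.EigF.mc H493.EigF.r6 <| H493.EigF.mc H493.EigF.r6 <| H493.EigF.mc H493.EigF.r6 <| H493.EigF.mc H493.EigF.r6 <| H493.EigF.mc H493.EigF.r6 <| H493.EigF.mc H493.EigF.r6 <| H493.EigF.m0) H493.EigF.r6 (by decide +kernel)

/-! ### `E₈` : `x⁸ - 1` -/

/-- the partial products -/
def LE8 : List (Fin 8 × Mat 8) := [
    (0, ![![0, 0, 1, 0, 0, 0, 0, 0],
        ![1, 1, 1, 1, 0, 0, 0, 0],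
        ![0, 0, 0, 1, 0, 0, 0, 0],
        ![0, 0, 0, 0, 1, 1, 0, 0],
        ![-1, 0, -1, -1, -1, -1, 0, 0],
        ![1, 0, 1, 1, 1, 1, 1, 0],
        ![0, 0, 0, 0, 0, 0, 0, 1],
        ![0, 0, 0, 0, 0, -1, -1, -1]]),
    (5, ![![1, 0, 1, 0, 0, 0, 0, 0],
        ![0, 1, 1, 1, 0, 0, 0, 0],
        ![0, 0, 0, 1, 0, 0, 0, 0],
        ![0, 0, 0, 0, 1, 1, 0, 0],
        ![0, 0, -1, -1, -1, -1, 0, 0],
        ![0, 0, 1, 1, 1, 1, 1, 0],
        ![0, 0, 0, 0, 0, 0, 0, 1],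
        ![0, 0, 0, 0, 0, -1, -1, -1]]),
    (2, ![![1, 0, 1, 0, 0, 0, 0, 0],
        ![0, 1, 1, 1, 0, 0, 0, 0],
        ![0, 0, 0, 1, 0, 0, 0, 0],
        ![0, 0, 0, 0, 1, 0, 0, 0],
        ![0, 0, -1, -1, -1, 0, 0, 0],
        ![0, 0, 1, 1, 1, 1, 1, 0],
        ![0, 0, 0, 0, 0, 0, 0, 1],
        ![0, 0, 0, 0, 0, 0, -1, -1]]),
    (6, ![![1, 0, 0, 0, 0, 0, 0, 0],
        ![0, 1, 0, 1, 0, 0, 0, 0],
        ![0, 0, 1, 1, 0, 0, 0, 0],
        ![0, 0, 0, 0, 1, 0, 0, 0],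
        ![0, 0, 0, -1, -1, 0, 0, 0],
        ![0, 0, 0, 1, 1, 1, 1, 0],
        ![0, 0, 0, 0, 0, 0, 0, 1],
        ![0, 0, 0, 0, 0, 0, -1, -1]]),
    (7, ![![1, 0, 0, 0, 0, 0, 0, 0],
        ![0, 1, 0, 1, 0, 0, 0, 0],
        ![0, 0, 1, 1, 0, 0, 0, 0],
        ![0, 0, 0, 0, 1, 0, 0, 0],
        ![0, 0, 0, -1, -1, 0, 0, 0],
        ![0, 0, 0, 1, 1, 1, 0, 0],
        ![0, 0, 0, 0, 0, 0, 1, 1],
        ![0, 0, 0, 0, 0, 0, 0, -1]]),
    (3, ![![1, 0, 0, 0, 0, 0, 0, 0],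
        ![0, 1, 0, 1, 0, 0, 0, 0],
        ![0, 0, 1, 1, 0, 0, 0, 0],
        ![0, 0, 0, 0, 1, 0, 0, 0],
        ![0, 0, 0, -1, -1, 0, 0, 0],
        ![0, 0, 0, 1, 1, 1, 0, 0],
        ![0, 0, 0, 0, 0, 0, 1, 0],
        ![0, 0, 0, 0, 0, 0, 0, 1]]),
    (4, ![![1, 0, 0, 0, 0, 0, 0, 0],
        ![0, 1, 0, 0, 0, 0, 0, 0],
        ![0, 0, 1, 0, 0, 0, 0, 0],
        ![0, 0, 0, 1, 1, 0, 0, 0],
        ![0, 0, 0, 0, -1, 0, 0, 0],
        ![0, 0, 0, 0, 1, 1, 0, 0],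
        ![0, 0, 0, 0, 0, 0, 1, 0],
        ![0, 0, 0, 0, 0, 0, 0, 1]])]

/-- the coefficients -/
def cE8 : Fin (7 + 1) → ℤ := ![-1, 0, 0, 0, 0, 0, 0, 0]

/-- the eigenvector -/
def VE8 : Fin (7 + 1) → Fin 8 → ℤ := ![![0, -1, 0, 0, 0, 0, 0, 0],
      ![0, -1, 0, -1, -1, 0, 0, 0],
      ![0, -1, -1, -2, -2, -1, -1, -1],
      ![-1, -1, -2, -3, -3, -2, -2, -1],
      ![-1, -1, -2, -3, -3, -3, -2, -1],
      ![-1, -1, -2, -3, -2, -2, -1, 0],
      ![-1, -1, -2, -2, -1, -1, 0, 0],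
      ![-1, -1, -1, -1, 0, 0, 0, 0]]

/-- the functional -/
def UE8 : Fin 8 → ℤ := ![1, -1, -1, 1, 0, 0, -1, 1]

theorem chainE8 : ChainOK H378.AdjE8.Am LE8 :=
  H129.ChainF.ok H129.ChainF.i8 H129.ChainF.m8 (H129.ChainF.c8 <| H129.ChainF.c8 <| H129.ChainF.c8 <| H129.ChainF.c8 <| H129.ChainF.c8 <| H129.ChainF.c8 <| H129.ChainF.c8 <| H129.ChainF.nil) (by decide +kernel)

theorem eigE8 : EigOK (hd LE8) cE8 VE8 UE8 :=
  H493.EigF.ok (H493.EigF.hT H493.EigF.t8) H493.EigF.r8 (H493.EigF.mc H493.EigF.r8 <| H493.EigF.mc H493.EigF.r8 <| H493.EigF.mc H493.EigF.r8 <| H493.EigF.mc H493.EigF.r8 <| H493.EigF.mc H493.EigF.r8 <| H493.EigF.mc H493.EigF.r8 <| H493.EigF.mc H493.EigF.r8 <| H493.EigF.mc H493.EigF.r8 <| H493.EigF.m0) H493.EigF.r8 (by decide +kernel)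

/-! ### `G₂` : `x² - 1` -/

/-- the partial products -/
def LG2 : List (Fin 2 × Mat 2) := [
    (1, ![![1, 1],
        ![0, -1]])]

/-- the coefficients -/
def cG2 : Fin (1 + 1) → ℤ := ![-1, 0]

/-- the eigenvector -/
def VG2 : Fin (1 + 1) → Fin 2 → ℤ := ![![-1, 0],
      ![-1, -1]]

/-- the functional -/
def UG2 : Fin 2 → ℤ := ![-1, 1]

theorem chainG2 : ChainOK H378.AdjG2.Am LG2 := by decide +kernel

theorem eigG2 : EigOK (hd LG2) cG2 VG2 UG2 := by decide +kernel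

/-! ### `F₄` : `x² - 1` and `x² + 1` -/

/-- the partial products -/
def LF4 : List (Fin 4 × Mat 4) := [
    (2, ![![1, 2, 1, 0],
        ![-1, -1, 0, 0],
        ![0, 0, -1, 0],
        ![2, 2, 2, 1]]),
    (0, ![![1, 2, 1, 0],
        ![-1, -1, -1, 0],
        ![0, 0, 1, 0],
        ![2, 2, 1, 1]]),
    (1, ![![1, 2, 1, 0],
        ![0, -1, -1, 0],
        ![0, 0, 1, 0],
        ![0, 2, 1, 1]]),
    (2, ![![1, 1, 1, 0],
        ![0, -1, -1, 0],
        ![0, 2, 1, 0],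
        ![0, 0, 1, 1]]),
    (1, ![![1, 1, 0, 0],
        ![0, -1, 0, 0],
        ![0, 2, 1, 0],
        ![0, 0, 0, 1]])]

/-- the coefficients -/
def cF4 : Fin (1 + 1) → ℤ := ![-1, 0]

/-- the coefficients -/
def cF4' : Fin (1 + 1) → ℤ := ![1, 0]

/-- the eigenvector -/
def VF4 : Fin (1 + 1) → Fin 4 → ℤ := ![![-1, -2, -2, -1],
      ![-1, -2, -1, -1]]

/-- the functional -/
def UF4 : Fin 4 → ℤ := ![1, 0, -1, 0]

/-- the eigenvector -/
def VF4' : Fin (1 + 1) → Fin 4 → ℤ := ![![1, 0, 0, 0],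
      ![-1, -2, -1, 0]]

/-- the functional -/
def UF4' : Fin 4 → ℤ := ![1, 0, -1, 0]

theorem chainF4 : ChainOK H378.AdjF4.Am LF4 :=
  H129.ChainF.ok H129.ChainF.i4 H129.ChainF.m4 (H129.ChainF.c4 <| H129.ChainF.c4 <| H129.ChainF.c4 <| H129.ChainF.c4 <| H129.ChainF.c4 <| H129.ChainF.nil) (by decide +kernel)

theorem eigF4 : EigOK (hd LF4) cF4 VF4 UF4 :=
  H493.EigF.ok (H493.EigF.hT H493.EigF.t4) H493.EigF.r2 (H493.EigF.mc H493.EigF.r4 <| H493.EigF.mc H493.EigF.r4 <| H493.EigF.m0) H493.EigF.r4 (by decide +kernel)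

theorem eigF4' : EigOK (hd LF4) cF4' VF4' UF4' :=
  H493.EigF.ok (H493.EigF.hT H493.EigF.t4) H493.EigF.r2 (H493.EigF.mc H493.EigF.r4 <| H493.EigF.mc H493.EigF.r4 <| H493.EigF.m0) H493.EigF.r4 (by decide +kernel)

/-! ### `²E₆` : `(x⁴ - 1) (x² + x + 1)` -/

/-- the partial products -/
def LT6 : List (Fin 6 × Mat 6) := [
    (3, ![![1, 0, 0, 0, 0, 0],
        ![0, -1, 0, -1, 0, 0],
        ![0, 0, 1, 1, 0, 0],
        ![0, 1, 0, 0, 0, 0],
        ![0, 0, 0, 1, 1, 1],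
        ![0, 0, 0, 0, 0, -1]]),
    (5, ![![1, 0, 0, 0, 0, 0],
        ![0, -1, 0, 0, 0, 0],
        ![0, 0, 1, 0, 0, 0],
        ![0, 1, 0, 1, 0, 0],
        ![0, 0, 0, 0, 1, 1],
        ![0, 0, 0, 0, 0, -1]]),
    (1, ![![1, 0, 0, 0, 0, 0],
        ![0, -1, 0, 0, 0, 0],
        ![0, 0, 1, 0, 0, 0],
        ![0, 1, 0, 1, 0, 0],
        ![0, 0, 0, 0, 1, 0],
        ![0, 0, 0, 0, 0, 1]])]

/-- the coefficients -/
def cT6 : Fin (5 + 1) → ℤ := ![-1, -1, -1, 0, 1, 1]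

/-- the eigenvector -/
def VT6 : Fin (5 + 1) → Fin 6 → ℤ := ![![0, 1, 0, 0, -1, 1],
      ![1, 1, 0, -1, 0, 1],
      ![1, 0, 0, 0, 0, 0],
      ![0, 0, 0, 0, 1, -1],
      ![-1, -1, 1, 0, 1, -1],
      ![-1, -1, 0, 1, 0, 0]]

/-- the functional -/
def UT6 : Fin 6 → ℤ := ![0, 1, 1, 1, 0, 0]

/-- the twisted matrix -/
def ThT6 : Mat 6 := ![![0, 0, 0, 0, 0, -1],
      ![0, -1, 0, -1, 0, 0],
      ![0, 0, 0, 1, 1, 1],
      ![0, 1, 0, 0, 0, 0],
      ![0, 0, 1, 1, 0, 0],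
      ![1, 0, 0, 0, 0, 0]]

theorem chainT6 : ChainOK H493.PGE6T.Am LT6 :=
  H129.ChainF.ok H129.ChainF.i6 H129.ChainF.m6 (H129.ChainF.c6 <| H129.ChainF.c6 <| H129.ChainF.c6 <| H129.ChainF.nil) (by decide +kernel)

theorem thT6 : ∀ j, hd LT6 (H493.TwE6Alg.pi j) = ThT6 j := by decide +kernel

theorem eigT6 : EigOK (fun i j => ThT6 j i) cT6 VT6 UT6 :=
  H493.EigF.ok (H493.EigF.tt ThT6 H129.ChainF.m6) H493.EigF.r6 (H493.EigF.mc H493.EigF.r6 <| H493.EigF.mc H493.EigF.r6 <| H493.EigF.mc H493.EigF.r6 <| H493.EigF.mc H493.EigF.r6 <| H493.EigF.mc H493.EigF.r6 <| H493.EigF.mc H493.EigF.r6 <| H493.EigF.m0) H493.EigF.r6 (by decide +kernel)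

end Cfsg.Agent.H77.E4Cert
end

-- part: H77/E4Tor
section
/-!
# Large cyclic subgroups of the exceptional groups (helper77)

* `exists_t'`, `order_of_eig` : elements of composite order in twisted groups;
* `tor_E8`, `tor_E6`, `tor_G2`, `tor_F4`, `tor_2E6` : elements of large order.
-/

set_option autoImplicit false
set_option linter.unusedSectionVars false

namespace Cfsg.Agent.H77.E4Tor

open CoxeterSystem Cfsg Cfsg.Lie Cfsg.Lie.ChevalleyDatum
open Cfsg.Agent.ChevalleyStructure Cfsg.Agent.ChevalleyStructure.Elts Cfsg.Agent.ChevalleyStructure.CoxeterGeom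
  Cfsg.Agent.ChevalleyStructure.CoxeterGeomTypes Cfsg.Agent.ChevalleyStructure.NPerm
open Cfsg.Agent.Tits.Roots Cfsg.Agent.Tits.Core Cfsg.Agent.Nodes Cfsg.Agent.Nodes.Reps Cfsg.Agent.Nodes.BNOf
  Cfsg.Agent.Nodes.RGDChev Cfsg.Agent.Nodes.Bruhat Cfsg.Agent.Nodes.SubComb Cfsg.Agent.Nodes.Coroot
open Cfsg.Agent.KFacts.RgdField Cfsg.Agent.KFacts.RgdChevCoord Cfsg.Agent.BpExc.TorCent Cfsg.Agent.BpExc.TorChev
open Cfsg.Agent.GpExc.Field Cfsg.Agent.BpExc.Tow Cfsg.Agent.BpExc.TowChev Cfsg.Agent.BpExc.Fr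
  Cfsg.Agent.BpExc.LangFr Cfsg.Agent.LangThm Cfsg.Agent.BpExc Cfsg.Agent.H129.TorusChar Cfsg.Agent.H129.TorusCent
  Cfsg.Agent.H129.TorusTw Cfsg.Agent.H129.TorusMain Cfsg.Agent.H493.PGTorus Cfsg.Agent.H493.PGTwist
  Cfsg.Agent.H129.WData

universe u

section Alg

variable {D : ChevalleyDatum} {l : ℕ} {M : CoxeterMatrix (Fin l)} (hp : IsType D l M) {k : Type u} [Field k]
  [IsAlgClosed k] {W : Type*} [Group W] (cs : CoxeterSystem M W) {p e : ℕ} [Fact p.Prime] [CharP k p]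
  {σ : MulAut ↥(D.group k)} {g : (Fin l → ℤ) ≃+ (Fin l → ℤ)}

/-- **Torus elements of order `m` prime to the characteristic.** -/
theorem exists_t' (hσ : IsFrob p e σ) (F : Fr cs hp.isCartan (TT D k) (XX D l k) σ g) {d' : ℕ}
    {B' : Fin l → Fin l → ℤ} (hB : InvC D l d' B') (hd' : d' ≠ 0) {L : (Fin l → ℤ) →+ ℤ} {r : ℕ} (hr : 0 < r)
    (hrp : ¬ p ∣ r) (hL : ∀ x, (r : ℤ) ∣ L (g x) - ((p ^ e : ℕ) : ℤ) * L x) {x₀ : Fin l → ℤ} (hx₀ : L x₀ = 1) :
    ∃ t ∈ TT D k, σ t = t ∧ orderOf t = r := by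
  have hrk : (r : k) ≠ 0 := by
    rw [Ne, CharP.cast_eq_zero_iff k p]
    exact hrp
  have : NeZero (r : k) := ⟨hrk⟩
  have : NeZero r := ⟨hr.ne'⟩
  obtain ⟨u, hu⟩ := HasEnoughRootsOfUnity.exists_primitiveRoot k r
  have hu0 : u ≠ 0 := hu.ne_zero hr.ne'
  have hMC : IsMC (fun x : Fin l → ℤ => u ^ L x) :=
    ⟨by rw [map_zero, zpow_zero], fun x y => by rw [map_add, zpow_add₀ hu0]⟩
  obtain ⟨t, ht, hcX⟩ := exists_cX hp hB hd' hMC fun i =>
    IsAlgClosed.exists_pow_nat_eq _ (Nat.pos_of_ne_zero hd')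
  have hone : ∀ z : ℤ, u ^ z = 1 ↔ (r : ℤ) ∣ z := fun z => hu.zpow_eq_one_iff_dvd z
  have hσt : σ t ∈ TT D k := (F.tor t).2 ht
  refine ⟨t, ht, ?_, ?_⟩
  · refine cX_inj hp hσt ht fun i => ?_
    have h1 : sr i = g (g.symm (sr i)) := (g.apply_symm_apply _).symm
    rw [h1, cX_sigma hp cs hσ F ht, hcX, hcX, ← zpow_natCast, ← zpow_mul]
    obtain ⟨N, hN⟩ := hL (g.symm (sr i))
    have h2 : L (g (g.symm (sr i))) = L (g.symm (sr i)) * ((p ^ e : ℕ) : ℤ) + (r : ℤ) * N := by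
      rw [← hN]; ring
    rw [h2, zpow_add₀ hu0, (hone ((r : ℤ) * N)).2 (dvd_mul_right _ _), mul_one]
  · have key : ∀ j : ℕ, t ^ j = 1 ↔ r ∣ j := by
      intro j
      constructor
      · intro h
        have h1 : cX hp (t ^ j) x₀ = 1 := by rw [h, cX_one]
        rw [cX_pow hp ht, hcX, hx₀, zpow_one, hu.pow_eq_one_iff_dvd] at h1
        exact h1
      · rintro ⟨i, rfl⟩
        refine cX_inj hp (pow_mem ht _) (one_mem _) fun i' => ?_
        rw [cX_pow hp ht, cX_one, hcX, ← zpow_natCast, ← zpow_mul, hone]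
        push_cast
        exact ⟨L (sr i') * i, by ring⟩
    refine (orderOf_eq_iff hr).2 ⟨(key r).2 dvd_rfl, fun j hj hj0 hj1 => ?_⟩
    exact absurd (Nat.le_of_dvd hj0 ((key j).1 hj1)) (not_le.2 hj)

variable [Finite W] {G0 : Type*} [Group G0] {e0 : G0 →* ↥(D.group k)}

/-- **Elements of composite order in a twisted group.** -/
theorem order_of_eig (hk : LocFin k) (he : 0 < e) (hσ : IsFrob p e σ)
    (F : Fr cs hp.isCartan (TT D k) (XX D l k) σ g) {d' : ℕ} {B' : Fin l → Fin l → ℤ} (hB : InvC D l d' B')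
    (hd' : d' ≠ 0) {d : ℕ} (hd : ∀ y, σ y = y → y ^ d ∈ e0.range)
    {w : W} {Th : Fin l → Fin l → ℤ} (hw : ∀ j, rep cs hp.isCartan w (g (sr j)) = Th j)
    {f : ℕ} {c : Fin (f + 1) → ℤ} {V : Fin (f + 1) → Fin l → ℤ} {U : Fin l → ℤ}
    (h : EigOK (fun i j => Th j i) c V U) (hc : c 0 = 1 ∨ c 0 = -1) {r : ℕ} (hr : 0 < r)
    (h1 : (r : ℤ) ∣ pv c ((p ^ e : ℕ) : ℤ)) : ∃ x : G0, r ∣ orderOf x * d := by
  obtain ⟨n, z, hz, hσ', F'⟩ := exists_z hp cs hk he hσ F w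
  have hrp : ¬ p ∣ r := fun hd1 =>
    ne_char hc Fact.out he ((Int.natCast_dvd_natCast.2 hd1).trans h1) rfl
  obtain ⟨t, ht, h3, h4⟩ := exists_t' hp cs hσ' F' hB hd' hr hrp (hL_of_eig hp cs hw h h1)
    (x₀ := U) (by rw [lam_unit h])
  have ho : ∀ y : ↥(D.group k), orderOf (z * y * z⁻¹) = orderOf y := fun y =>
    orderOf_injective (MulAut.conj z).toMonoidHom (MulAut.conj z).injective y
  obtain ⟨x, hx⟩ := hd _ (fix_conj hz h3)
  refine ⟨x, ?_⟩
  rw [← h4, ← ho t]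
  apply orderOf_dvd_of_pow_eq_one
  rw [mul_comm (orderOf x) d, pow_mul, ← hx, ← map_pow, pow_orderOf_eq_one, map_one]

end Alg

section Untw

variable {D : ChevalleyDatum} {l : ℕ} {M : CoxeterMatrix (Fin l)} (hp : IsType D l M)
  {W : Type*} [Group W] [Finite W] (cs : CoxeterSystem M W)

include hp cs in
theorem exists_row {d : ℕ} {B : Fin l → Fin l → ℤ} (hB : InvC D l d B) (hd0 : d ≠ 0) {A : Mat l}
    (hA : ∀ i j, A i j = cartanOf D l i j) {L : List (Fin l × Mat l)} (hL : ChainOK A L)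
    {f : ℕ} {c : Fin (f + 1) → ℤ} {V : Fin (f + 1) → Fin l → ℤ} {U : Fin l → ℤ} (h : EigOK (hd L) c V U)
    {F : Type u} [Field F] [Finite F] {m : ℕ} (hm : 0 < m) (hdv : (m : ℤ) ∣ pv c (Nat.card F : ℕ)) :
    ∃ x : ↥(D.group F), m ∣ orderOf x * Nat.gcd d (Nat.card F - 1) := by
  obtain ⟨x, -, -, h1, -⟩ := H378.AdjTab.exists_comm_torus hp cs hB hd0 hA hL h h hm hm hdv hdv
  exact ⟨x, h1⟩

end Untw

open Cfsg.Agent.BpExc.RowsUntw Cfsg.Agent.BpExc.FamInst Cfsg.Agent.BpExc.FamExt Cfsg.Agent.H77.E4Cert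

theorem tor_E8 (F : Type u) [Field F] [Finite F] : ∃ x : ↥(chevE8.group F), Nat.card F ^ 8 - 1 ∣ orderOf x := by
  let cs : CoxeterSystem CoxeterMatrix.E₈ CoxeterMatrix.E₈.Group := CoxeterMatrix.E₈.toCoxeterSystem
  have := finite_W e8T cs
  have hq : 2 ≤ Nat.card F := Finite.one_lt_card
  have h8 : 2 ^ 8 ≤ Nat.card F ^ 8 := Nat.pow_le_pow_left hq 8
  obtain ⟨x, hx⟩ := exists_row e8T cs inv_E8 one_ne_zero H378.AdjE8.hA chainE8 eigE8 (F := F)
    (m := Nat.card F ^ 8 - 1) (by omega) (by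
      rw [Nat.cast_sub (by omega)]
      simp [pv, cE8, Fin.sum_univ_succ]
      exact dvd_of_eq (by ring))
  rw [Nat.gcd_one_left, mul_one] at hx
  exact ⟨x, hx⟩

theorem tor_E6 (F : Type u) [Field F] [Finite F] : ∃ x : ↥(chevE6.group F),
    (Nat.card F ^ 4 - 1) * (Nat.card F ^ 2 - Nat.card F + 1) ∣ orderOf x * 3 := by
  let cs : CoxeterSystem CoxeterMatrix.E₆ CoxeterMatrix.E₆.Group := CoxeterMatrix.E₆.toCoxeterSystem
  have := finite_W e6T cs
  have hq : 2 ≤ Nat.card F := Finite.one_lt_card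
  have h4 : 2 ^ 4 ≤ Nat.card F ^ 4 := Nat.pow_le_pow_left hq 4
  have h2 : Nat.card F ≤ Nat.card F ^ 2 := Nat.le_self_pow (by norm_num) _
  obtain ⟨x, hx⟩ := exists_row e6T cs inv_E6 three_ne_zero H378.AdjE6.hA chainE6 eigE6 (F := F)
    (m := (Nat.card F ^ 4 - 1) * (Nat.card F ^ 2 - Nat.card F + 1)) (Nat.mul_pos (by omega) (by omega)) (by
      rw [Nat.cast_mul, Nat.cast_sub (by omega), Nat.cast_add, Nat.cast_sub h2]
      simp [pv, cE6, Fin.sum_univ_succ]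
      exact dvd_of_eq (by ring))
  exact ⟨x, hx.trans (Nat.mul_dvd_mul_left _ (Nat.gcd_dvd_left _ _))⟩

theorem tor_G2 (F : Type u) [Field F] [Finite F] : ∃ x : ↥(chevG2.group F), Nat.card F ^ 2 - 1 ∣ orderOf x := by
  let cs : CoxeterSystem CoxeterMatrix.G₂ CoxeterMatrix.G₂.Group := CoxeterMatrix.G₂.toCoxeterSystem
  have := finite_W g2T cs
  have hq : 2 ≤ Nat.card F := Finite.one_lt_card
  have h8 : 2 ^ 2 ≤ Nat.card F ^ 2 := Nat.pow_le_pow_left hq 2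
  obtain ⟨x, hx⟩ := exists_row g2T cs inv_G2 one_ne_zero H378.AdjG2.hA chainG2 eigG2 (F := F)
    (m := Nat.card F ^ 2 - 1) (by omega) (by
      rw [Nat.cast_sub (by omega)]
      simp [pv, cG2, Fin.sum_univ_succ]
      exact dvd_of_eq (by ring))
  rw [Nat.gcd_one_left, mul_one] at hx
  exact ⟨x, hx⟩

theorem tor_F4 (F : Type u) [Field F] [Finite F] : ∃ x : ↥(chevF4.group F), Nat.card F ^ 2 - 1 ∣ orderOf x ∧
    Nat.card F ^ 2 + 1 ∣ orderOf x := by
  let cs : CoxeterSystem CoxeterMatrix.F₄ CoxeterMatrix.F₄.Group := CoxeterMatrix.F₄.toCoxeterSystem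
  have := finite_W f4T cs
  have hq : 2 ≤ Nat.card F := Finite.one_lt_card
  have h8 : 2 ^ 2 ≤ Nat.card F ^ 2 := Nat.pow_le_pow_left hq 2
  obtain ⟨x, y, hc, hx, hy⟩ := H378.AdjTab.exists_comm_torus f4T cs inv_F4 one_ne_zero H378.AdjF4.hA chainF4 eigF4
    eigF4' (F := F) (m := Nat.card F ^ 2 - 1) (m' := Nat.card F ^ 2 + 1) (by omega) (by omega) (by
      rw [Nat.cast_sub (by omega)]
      simp [pv, cF4, Fin.sum_univ_succ]
      exact dvd_of_eq (by ring)) (by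
      simp [pv, cF4', Fin.sum_univ_succ])
  rw [Nat.gcd_one_left, mul_one] at hx hy
  refine ⟨x ^ (orderOf x / (orderOf x).factorizationLCMLeft (orderOf y)) *
    y ^ (orderOf y / (orderOf x).factorizationLCMRight (orderOf y)), ?_⟩
  rw [hc.orderOf_mul_pow_eq_lcm (orderOf_pos x).ne' (orderOf_pos y).ne']
  exact ⟨hx.trans (Nat.dvd_lcm_left _ _), hy.trans (Nat.dvd_lcm_right _ _)⟩

theorem tor_2E6 {K : Type u} [Field K] [Fintype K] {q : ℕ} (hq : IsPrimePow q) (hK : Fintype.card K = q ^ 2) :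
    ∃ x : ↥(twistedE6 K q), (q ^ 4 - 1) * (q ^ 2 + q + 1) ∣ orderOf x * 3 := by
  have := H493.PGE6.finW
  have hq2 : 2 ≤ q := hq.two_le
  have h4 : 2 ^ 4 ≤ q ^ 4 := Nat.pow_le_pow_left hq2 4
  obtain ⟨p, e, hpF, hpk, he, hqe, hk⟩ := H493.PGE6T.setup hq hK
  have hqe' : (q : ℤ) = ((p ^ e : ℕ) : ℤ) := by rw [hqe]
  have h1 : (((q ^ 4 - 1) * (q ^ 2 + q + 1) : ℕ) : ℤ) ∣ pv cT6 (q : ℤ) := by
    rw [Nat.cast_mul, Nat.cast_sub (by omega)]
    simp [pv, cT6, Fin.sum_univ_succ]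
    exact dvd_of_eq (by ring)
  rw [hqe'] at h1
  obtain ⟨x, hx⟩ := order_of_eig RGDTwE6.hp CoxeterMatrix.E₆.toCoxeterSystem hk he H493.TwE6Alg.isFrob_tau
    (H493.TwE6Alg.fr_tau _) Cfsg.Agent.H129.TorusChar.invC_E6 (by norm_num)
    (e0 := H493.TwE6Alg.embT (algebraMap K (AlgebraicClosure K)) q) (d := Nat.gcd 3 (q + 1))
    (fun y hy => H493.TwE6Alg.tau_pow _ hqe hq hK hy) (H493.PGE6T.lin _ chainT6 thT6) eigT6
    (by right; rfl) (Nat.mul_pos (by omega) (by positivity)) h1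
  exact ⟨x, hx.trans (Nat.mul_dvd_mul_left _ (Nat.gcd_dvd_left _ _))⟩

end Cfsg.Agent.H77.E4Tor
end

private theorem dce_9100160ee5c6 : _root_.True := by
  try have : _root_.True := by simp only [_root_.Cfsg.Agent.H77.E4Cert.cE8.eq_1]
  try have : _root_.True := by simp only [_root_.Cfsg.Agent.H77.E4Cert.cE6.eq_1]
  try have : _root_.True := by simp only [_root_.Cfsg.Agent.H77.E4Cert.cG2.eq_1]
  try have : _root_.True := by simp only [_root_.Cfsg.Agent.H77.E4Cert.cF4'.eq_1]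
  try have : _root_.True := by simp only [_root_.Cfsg.Agent.H77.E4Cert.cF4.eq_1]
  try have : _root_.True := by simp only [_root_.Cfsg.Agent.H77.E4Cert.cT6.eq_1]
  exact _root_.True.intro
end

-- part: H77/E4Cls
section
set_option linter.all false
open scoped Cfsg.Agent.FastGrp

/-!
# The exceptional groups over fields of odd order: element orders with primes not adjacent to 2 (helper77)

`ExS S N g u I` : an element of order divisible by `N / g`, and the element orders all of whose primes are not adjacent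
to 2 divide one of the values `Pn m u`, `m ∈ I`.
-/

set_option autoImplicit false
set_option linter.unusedSectionVars false

namespace Cfsg.Agent.H77.E4Cls

open Cfsg Cfsg.Lie Cfsg.Lie.ChevalleyDatum
open Cfsg.Agent.ChevalleyStructure.CoxeterGeomTypes Cfsg.Agent.Nodes.RGDChev
open Cfsg.Agent.BpExc.RowsUntw Cfsg.Agent.BpExc.FamInst Cfsg.Agent.BpExc.FamExt
open Cfsg.Agent.H77.E4Poly Cfsg.Agent.H77.E4Tor Cfsg.Agent.H378.ExcAdj Cfsg.Agent.H378.ExcNear

universe u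

structure ExS (S : Type*) [Group S] (N g q : ℕ) (I : List ℕ) : Prop where
  three : 3 ≤ q
  odd : Odd q
  pp : IsPrimePow q
  big : ∃ x : S, N ∣ orderOf x * g
  cls : ∀ x : S, 1 < orderOf x → (∀ r : ℕ, r.Prime → r ∣ orderOf x → r ≠ 2 ∧ ¬ H94.PG.Adj S r 2) →
    ∃ m ∈ I, orderOf x ∣ Pn m q

theorem ExS.congr {S T : Type*} [Group S] [Group T] (e : S ≃* T) {N g q : ℕ} {I : List ℕ} (h : ExS T N g q I) :
    ExS S N g q I := by
  obtain ⟨h1, h2, h3, ⟨x, hx⟩, h5⟩ := h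
  refine ⟨h1, h2, h3, ⟨e.symm x, by rw [MulEquiv.orderOf_eq]; exact hx⟩, fun y hy hr => ?_⟩
  rw [← MulEquiv.orderOf_eq e] at hy hr ⊢
  refine h5 _ hy fun r hrp hrd => ⟨(hr r hrp hrd).1, fun ⟨a, b, c, s, t, hs, ht, hst⟩ => (hr r hrp hrd).2 ?_⟩
  refine ⟨a, b, c, e.symm s, e.symm t, by rw [MulEquiv.orderOf_eq, hs], by rw [MulEquiv.orderOf_eq, ht], ?_⟩
  exact hst.map e.symm.toMonoidHom

theorem strip {q B m : ℕ} (h : AllOd q B m) (hm : m ≠ 0) (N : ℕ) (ds : List ℕ) (hds : ∀ d ∈ ds, ¬ m ∣ d) {X : ℤ}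
    (hd : (B : ℤ) ∣ (q : ℤ) ^ N * (ds.map (fun d => (q : ℤ) ^ d - 1)).prod * X) : (B : ℤ) ∣ X := by
  refine IsCoprime.dvd_of_dvd_mul_left ((h.cop_u hm N).mul_right ?_) hd
  clear hd
  induction ds with
  | nil => exact isCoprime_one_right
  | cons d ds ih =>
    rw [List.map_cons, List.prod_cons]
    exact (h.cop_minus hm (hds d (by simp))).mul_right (ih fun e he => hds e (by simp [he]))

/-- the pairs `(m, k)` used -/
def KOk (m k : ℕ) : Prop := (m = 3 ∧ k = 6) ∨ (m = 6 ∧ k = 6) ∨ (m = 7 ∧ k = 14) ∨ (m = 8 ∧ k = 8) ∨ (m = 9 ∧ k = 18) ∨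
  (m = 9 ∧ k = 9) ∨ (m = 12 ∧ k = 12) ∨ (m = 14 ∧ k = 14) ∨ (m = 15 ∧ k = 30) ∨ (m = 18 ∧ k = 18) ∨ (m = 20 ∧ k = 20) ∨
  (m = 24 ∧ k = 24) ∨ (m = 30 ∧ k = 30)

instance decKOk (m k : ℕ) : Decidable (KOk m k) := by unfold KOk; infer_instance

theorem fin_dvd {q B m : ℕ} (h : AllOd q B m) (k N : ℕ) (ds : List ℕ) (hm : m ≠ 0) (hk : KOk m k) (hq : 2 ≤ q)
    (hds : ∀ d ∈ ds, ¬ m ∣ d) {C : ℤ} (hB : (B : ℤ) ∣ C)
    (hC : C = (q : ℤ) ^ N * (ds.map (fun d => (q : ℤ) ^ d - 1)).prod * ((q : ℤ) ^ k - 1)) : B ∣ Pn m q :=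
  h.dvd_of hq hk (strip h hm N ds hds (hC ▸ hB))

theorem cast_pred {q : ℕ} (hq : 1 ≤ q) (n : ℕ) : ((q ^ n - 1 : ℕ) : ℤ) = (q : ℤ) ^ n - 1 := by
  rw [Nat.cast_sub (Nat.one_le_pow _ _ hq)]
  push_cast
  rfl

/-- two primes dividing an element order -/
theorem exists_mul {G : Type*} [Group G] [Finite G] {x : G} {r s : ℕ} (hr : r.Prime) (hs : s.Prime) (hrs : r ≠ s)
    (h1 : r ∣ orderOf x) (h2 : s ∣ orderOf x) : ∃ y : G, orderOf y = r * s := by
  have h3 : r * s ∣ orderOf x := ((Nat.coprime_primes hr hs).2 hrs).mul_dvd_of_dvd_of_dvd h1 h2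
  obtain ⟨k, hk⟩ := h3
  refine ⟨x ^ k, ?_⟩
  have h4 : 0 < orderOf x := orderOf_pos x
  have h5 : k ≠ 0 := by rintro rfl; omega
  rw [orderOf_pow_of_dvd h5 ⟨r * s, by rw [hk]; ring⟩, hk]
  exact Nat.mul_div_cancel _ (Nat.pos_of_ne_zero h5)

/-- one class for all the primes -/
theorem allOd {G : Type*} [Group G] [Finite G] {q : ℕ} {x : G} (hx : 1 < orderOf x) {P : ℕ → Prop}
    (hP : ∀ r : ℕ, r.Prime → r ∣ orderOf x → P (orderOf (q : ZMod r)))
    (hno : ∀ r s : ℕ, r.Prime → s.Prime → r ∣ orderOf x → s ∣ orderOf x → P (orderOf (q : ZMod r)) →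
      P (orderOf (q : ZMod s)) →
      orderOf (q : ZMod r) ≠ orderOf (q : ZMod s) → (∃ y : G, orderOf y = r * s) → False) :
    ∃ m, P m ∧ AllOd q (orderOf x) m := by
  obtain ⟨r, hr, hrd⟩ := Nat.exists_prime_and_dvd hx.ne'
  refine ⟨_, hP r hr hrd, fun s hs hsd => ?_⟩
  by_contra hne
  refine hno r s hr hs hrd hsd (hP r hr hrd) (hP s hs hsd) (fun h => hne h.symm) (exists_mul hr hs ?_ hrd hsd)
  rintro rfl
  exact hne rfl

/-- primes of large class are large -/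
theorem lt_of_od {q r m : ℕ} (hr : r.Prime) (h : orderOf (q : ZMod r) = m) (hm : 0 < m) : m + 1 ≤ r ∧ ¬ r ∣ q := by
  have h1 := mod_of_od (q := q) hr h hm
  have h2 := hr.two_le
  have h3 := Nat.le_of_dvd (by omega) h1
  exact ⟨by omega, H378.RegFin.not_dvd_q hr h hm⟩

/-- untwisted groups: one class -/
theorem allOd_untw {D : ChevalleyDatum} {l : ℕ} {M : CoxeterMatrix (Fin l)} (hp : IsType D l M) {F : Type u} [Field F]
    [Finite F] [Finite ↥(D.group F)] {x : ↥(D.group F)} (hx : 1 < orderOf x) (I : List ℕ)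
    (hI : ∀ m ∈ I, 0 < m ∧ l + 1 < m + 1 ∧ ∀ m' ∈ I, m ≠ m' → l < m.totient + m'.totient)
    (hP : ∀ r : ℕ, r.Prime → r ∣ orderOf x → orderOf ((Nat.card F : ℕ) : ZMod r) ∈ I) :
    ∃ m ∈ I, AllOd (Nat.card F) (orderOf x) m := by
  have : Fintype F := Fintype.ofFinite F
  refine allOd (P := fun m => m ∈ I) hx hP ?_
  rintro r s hr hs - - hmr hms hne ⟨y, hy⟩
  obtain ⟨h1, h2, h3⟩ := hI _ hmr
  obtain ⟨h1', h2', -⟩ := hI _ hms
  obtain ⟨h4, h5⟩ := lt_of_od hr rfl h1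
  obtain ⟨h6, h7⟩ := lt_of_od hs rfl h1'
  exact H169.TorPair.untw_no_pair hp (Nat.card_eq_fintype_card.symm) hr hs h5 h7 (by omega) (by omega) hne
    (h3 _ hms hne) y hy

theorem card_ge {F : Type u} [Field F] [Finite F] (ho : Odd (Nat.card F)) : 3 ≤ Nat.card F := by
  have h1 : 1 < Nat.card F := Finite.one_lt_card
  obtain ⟨k, hk⟩ := ho
  omega

theorem pp_card (F : Type u) [Field F] [Finite F] : IsPrimePow (Nat.card F) := by
  have : Fintype F := Fintype.ofFinite F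
  rw [Nat.card_eq_fintype_card]
  obtain ⟨p, hp⟩ := CharP.exists F
  obtain ⟨n, h1, h2⟩ := FiniteField.card F p
  exact ⟨p, n, h1.prime, n.pos, h2.symm⟩


/-! ### untwisted groups -/

/-- the common step -/
theorem cls_untw {D : ChevalleyDatum} {l : ℕ} {M : CoxeterMatrix (Fin l)} (hp : IsType D l M) {F : Type u} [Field F]
    [Finite F] [Finite ↥(D.group F)] (I : List ℕ)
    (hI : ∀ m ∈ I, 0 < m ∧ l + 1 < m + 1 ∧ ∀ m' ∈ I, m ≠ m' → l < m.totient + m'.totient)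
    (hadj : ∀ r : ℕ, r.Prime → r ∣ Nat.card ↥(D.group F) → r = 2 ∨ H94.PG.Adj ↥(D.group F) r 2 ∨ od (Nat.card F) r ∈ I)
    (hcard : ∀ m ∈ I, ∀ B : ℕ, AllOd (Nat.card F) B m → B ∣ Nat.card ↥(D.group F) → B ∣ Pn m (Nat.card F))
    (x : ↥(D.group F)) (hx : 1 < orderOf x)
    (h2 : ∀ r : ℕ, r.Prime → r ∣ orderOf x → r ≠ 2 ∧ ¬ H94.PG.Adj ↥(D.group F) r 2) :
    ∃ m ∈ I, orderOf x ∣ Pn m (Nat.card F) := by
  obtain ⟨m, hm, hall⟩ := allOd_untw hp hx I hI fun r hr hrd => by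
    obtain ⟨h3, h4⟩ := h2 r hr hrd
    exact ((hadj r hr (hrd.trans (orderOf_dvd_natCard x))).resolve_left h3).resolve_left h4
  exact ⟨m, hm, hcard m hm _ hall (orderOf_dvd_natCard x)⟩

theorem exs_G2 (F : Type u) [Field F] [Finite F] (ho : Odd (Nat.card F)) :
    ExS ↥(chevG2.group F) (Nat.card F ^ 2 - 1) 1 (Nat.card F) [3, 6] := by
  have : Fintype F := Fintype.ofFinite F
  have hc := Cfsg.Agent.S1059.result (F := F) rfl
  rw [← Nat.card_eq_fintype_card] at hc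
  have h3 := card_ge ho
  obtain ⟨x, hx⟩ := tor_G2 F
  refine ⟨h3, ho, pp_card F, ⟨x, by rwa [mul_one]⟩, cls_untw g2T [3, 6] (by decide) (fun r hr hrd => ?_)
    fun m hm B hall hB => ?_⟩
  · have := adj_G2 F hr hrd
    simpa using this
  · rw [hc] at hB
    have hB' := Int.natCast_dvd_natCast.2 hB
    simp only [Nat.cast_mul, Nat.cast_pow, cast_pred (show 1 ≤ Nat.card F by omega)] at hB'
    simp only [List.mem_cons, List.not_mem_nil, or_false] at hm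
    rcases hm with rfl | rfl
    · exact fin_dvd hall 6 6 [2] (by decide) (by decide) (by omega) (by decide) hB'
        (by simp only [List.map_cons, List.map_nil, List.prod_cons, List.prod_nil]; ring)
    · exact fin_dvd hall 6 6 [2] (by decide) (by decide) (by omega) (by decide) hB'
        (by simp only [List.map_cons, List.map_nil, List.prod_cons, List.prod_nil]; ring)

theorem exs_E6 (F : Type u) [Field F] [Finite F] (ho : Odd (Nat.card F)) :
    ExS ↥(chevE6.group F) ((Nat.card F ^ 4 - 1) * (Nat.card F ^ 2 - Nat.card F + 1)) 3 (Nat.card F) [8, 9, 12] := by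
  have : Fintype F := Fintype.ofFinite F
  have hc := Cfsg.Agent.S1063.result (F := F) rfl
  rw [← Nat.card_eq_fintype_card] at hc
  have h3 := card_ge ho
  refine ⟨h3, ho, pp_card F, tor_E6 F, cls_untw e6T [8, 9, 12] (by decide) (fun r hr hrd => ?_)
    fun m hm B hall hB => ?_⟩
  · have := adj_E6 F hr hrd
    simpa using this
  · have hB := hB.mul_left (Nat.gcd 3 (Nat.card F - 1))
    rw [hc] at hB
    have hB' := Int.natCast_dvd_natCast.2 hB
    simp only [Nat.cast_mul, Nat.cast_pow, cast_pred (show 1 ≤ Nat.card F by omega)] at hB'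
    simp only [List.mem_cons, List.not_mem_nil, or_false] at hm
    rcases hm with rfl | rfl | rfl
    · exact fin_dvd hall 8 36 [2, 5, 6, 9, 12] (by decide) (by decide) (by omega) (by decide) hB'
        (by simp only [List.map_cons, List.map_nil, List.prod_cons, List.prod_nil]; ring)
    · exact fin_dvd hall 9 36 [2, 5, 6, 8, 12] (by decide) (by decide) (by omega) (by decide) hB'
        (by simp only [List.map_cons, List.map_nil, List.prod_cons, List.prod_nil]; ring)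
    · exact fin_dvd hall 12 36 [2, 5, 6, 8, 9] (by decide) (by decide) (by omega) (by decide) hB'
        (by simp only [List.map_cons, List.map_nil, List.prod_cons, List.prod_nil]; ring)

theorem exs_E8 (F : Type u) [Field F] [Finite F] (ho : Odd (Nat.card F)) :
    ExS ↥(chevE8.group F) (Nat.card F ^ 8 - 1) 1 (Nat.card F) [15, 20, 24, 30] := by
  have : Fintype F := Fintype.ofFinite F
  have hc := Cfsg.Agent.S1065.result (F := F) rfl
  rw [← Nat.card_eq_fintype_card] at hc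
  have h3 := card_ge ho
  obtain ⟨x, hx⟩ := tor_E8 F
  refine ⟨h3, ho, pp_card F, ⟨x, by rwa [mul_one]⟩, cls_untw e8T [15, 20, 24, 30] (by decide) (fun r hr hrd => ?_)
    fun m hm B hall hB => ?_⟩
  · have := adj_E8 F hr hrd
    simpa using this
  · rw [hc] at hB
    have hB' := Int.natCast_dvd_natCast.2 hB
    simp only [Nat.cast_mul, Nat.cast_pow, cast_pred (show 1 ≤ Nat.card F by omega)] at hB'
    simp only [List.mem_cons, List.not_mem_nil, or_false] at hm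
    rcases hm with rfl | rfl | rfl | rfl
    · exact fin_dvd hall 30 120 [2, 8, 12, 14, 18, 20, 24] (by decide) (by decide) (by omega) (by decide) hB'
        (by simp only [List.map_cons, List.map_nil, List.prod_cons, List.prod_nil]; ring)
    · exact fin_dvd hall 20 120 [2, 8, 12, 14, 18, 24, 30] (by decide) (by decide) (by omega) (by decide) hB'
        (by simp only [List.map_cons, List.map_nil, List.prod_cons, List.prod_nil]; ring)
    · exact fin_dvd hall 24 120 [2, 8, 12, 14, 18, 20, 30] (by decide) (by decide) (by omega) (by decide) hB'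
        (by simp only [List.map_cons, List.map_nil, List.prod_cons, List.prod_nil]; ring)
    · exact fin_dvd hall 30 120 [2, 8, 12, 14, 18, 20, 24] (by decide) (by decide) (by omega) (by decide) hB'
        (by simp only [List.map_cons, List.map_nil, List.prod_cons, List.prod_nil]; ring)

end Cfsg.Agent.H77.E4Cls
end

-- part: H77/E4ClsB
section
set_option linter.all false
open scoped Cfsg.Agent.FastGrp

-- part: H77/E4Cert2
section
/-!
# Cyclic subgroups of the maximal tori of the exceptional groups: more certificates (helper77)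
-/

set_option autoImplicit false

namespace Cfsg.Agent.H77.E4Cert2

open Cfsg.Agent.H129.WData Cfsg.Agent.H378.AdjTab Cfsg.Agent.H493.PGTorus

/-! ### `F₄` : `x⁴ + 1` -/

/-- the partial products -/
def LF8 : List (Fin 4 × Mat 4) := [
    (2, ![![0, 1, 1, 1],
        ![-1, -2, -2, -1],
        ![2, 2, 2, 1],
        ![0, 2, 1, 0]]),
    (1, ![![0, 1, 1, 1],
        ![-1, -2, -1, -1],
        ![2, 2, 1, 1],
        ![0, 2, 1, 0]]),
    (3, ![![0, 1, 1, 1],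
        ![-1, -1, -1, -1],
        ![2, 2, 1, 1],
        ![0, 0, 1, 0]]),
    (0, ![![0, 1, 1, 0],
        ![-1, -1, -1, 0],
        ![2, 2, 1, 0],
        ![0, 0, 1, 1]]),
    (2, ![![1, 1, 1, 0],
        ![0, -1, -1, 0],
        ![0, 2, 1, 0],
        ![0, 0, 1, 1]]),
    (1, ![![1, 1, 0, 0],
        ![0, -1, 0, 0],
        ![0, 2, 1, 0],
        ![0, 0, 0, 1]])]

/-- the coefficients -/
def cF8 : Fin (3 + 1) → ℤ := ![1, 0, 0, 0]

/-- the eigenvector -/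
def VF8 : Fin (3 + 1) → Fin 4 → ℤ := ![![0, 1, 1, 0],
      ![-1, -2, -1, 0],
      ![0, -1, -1, -1],
      ![-1, 0, 0, 0]]

/-- the functional -/
def UF8 : Fin 4 → ℤ := ![0, -1, 2, -1]

theorem chainF8 : ChainOK H378.AdjF4.Am LF8 := by decide +kernel

theorem eigF8 : EigOK (hd LF8) cF8 VF8 UF8 := by decide +kernel

/-! ### `²E₆` : `x⁵ + 1` -/

/-- the partial products -/
def LT10 : List (Fin 6 × Mat 6) := [
    (0, ![![0, 0, 1, 1, 0, 0],
        ![0, 1, 0, 1, 0, 0],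
        ![-1, 0, -1, -1, 0, 0],
        ![1, 0, 1, 0, 0, 0],
        ![0, 0, 0, 1, 1, 0],
        ![0, 0, 0, 0, 0, 1]]),
    (3, ![![1, 0, 1, 1, 0, 0],
        ![0, 1, 0, 1, 0, 0],
        ![0, 0, -1, -1, 0, 0],
        ![0, 0, 1, 0, 0, 0],
        ![0, 0, 0, 1, 1, 0],
        ![0, 0, 0, 0, 0, 1]]),
    (2, ![![1, 0, 1, 0, 0, 0],
        ![0, 1, 0, 0, 0, 0],
        ![0, 0, -1, 0, 0, 0],
        ![0, 0, 1, 1, 0, 0],
        ![0, 0, 0, 0, 1, 0],
        ![0, 0, 0, 0, 0, 1]])]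

/-- the coefficients -/
def cT10 : Fin (4 + 1) → ℤ := ![1, 0, 0, 0, 0]

/-- the eigenvector -/
def VT10 : Fin (4 + 1) → Fin 6 → ℤ := ![![1, 0, -1, 1, -1, 0],
      ![1, 0, 0, 0, -1, 1],
      ![0, -1, 0, 1, -1, 1],
      ![0, -1, 1, 0, 0, 0],
      ![0, -1, 0, 0, 1, 0]]

/-- the functional -/
def UT10 : Fin 6 → ℤ := ![1, 1, 1, 2, 1, 0]

/-- the twisted matrix -/
def ThT10 : Mat 6 := ![![0, 0, 0, 0, 0, 1],
      ![0, 1, 0, 1, 0, 0],
      ![0, 0, 0, 1, 1, 0],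
      ![1, 0, 1, 0, 0, 0],
      ![-1, 0, -1, -1, 0, 0],
      ![0, 0, 1, 1, 0, 0]]

theorem chainT10 : ChainOK H493.PGE6T.Am LT10 := by decide +kernel

theorem thT10 : ∀ j, hd LT10 (H493.TwE6Alg.pi j) = ThT10 j := by decide +kernel

theorem eigT10 : EigOK (fun i j => ThT10 j i) cT10 VT10 UT10 := by decide +kernel

end Cfsg.Agent.H77.E4Cert2
end

-- part: H77/E4ClsB
section
/-!
# `F₄` and `³D₄` over fields of odd order (helper77)
-/

set_option autoImplicit false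
set_option linter.unusedSectionVars false

namespace Cfsg.Agent.H77.E4ClsB

open Cfsg Cfsg.Lie Cfsg.Lie.ChevalleyDatum
open Cfsg.Agent.ChevalleyStructure.CoxeterGeomTypes Cfsg.Agent.Nodes.RGDChev
open Cfsg.Agent.BpExc.RowsUntw Cfsg.Agent.BpExc.FamInst Cfsg.Agent.BpExc.FamExt
open Cfsg.Agent.H493.PGTorus
open Cfsg.Agent.H77.E4Poly Cfsg.Agent.H77.E4Tor Cfsg.Agent.H378.ExcAdj Cfsg.Agent.H378.ExcNear Cfsg.Agent.H77.E4Cls
  Cfsg.Agent.H77.E4Cert2

universe u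

/-- adjacency to 2 from a large element order -/
theorem adj_of_order {G : Type*} [Group G] [Finite G] {x : G} {r g N : ℕ} (hr : r.Prime) (hr2 : r ≠ 2)
    (hg : Nat.Coprime (r * 2) g) (hN : N ∣ orderOf x * g) (h1 : r ∣ N) (h2 : 2 ∣ N) : H94.PG.Adj G r 2 := by
  have h3 : r * 2 ∣ N := ((Nat.coprime_primes hr Nat.prime_two).2 hr2).mul_dvd_of_dvd_of_dvd h1 h2
  have h4 : r * 2 ∣ orderOf x := hg.dvd_of_dvd_mul_right (h3.trans hN)
  exact H94.PG.adj_of_dvd hr Nat.prime_two hr2 (Commute.refl x) ((dvd_mul_right _ _).trans h4)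
    ((dvd_mul_left _ _).trans h4) (orderOf_pos x).ne' (orderOf_pos x).ne'

theorem tor_F8 (F : Type u) [Field F] [Finite F] : ∃ x : ↥(chevF4.group F), Nat.card F ^ 4 + 1 ∣ orderOf x := by
  let cs : CoxeterSystem CoxeterMatrix.F₄ CoxeterMatrix.F₄.Group := CoxeterMatrix.F₄.toCoxeterSystem
  have := finite_W f4T cs
  obtain ⟨x, hx⟩ := exists_row f4T cs inv_F4 one_ne_zero H378.AdjF4.hA chainF8 eigF8 (F := F)
    (m := Nat.card F ^ 4 + 1) (by positivity) (by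
      simp [pv, cF8, Fin.sum_univ_succ])
  rw [Nat.gcd_one_left, mul_one] at hx
  exact ⟨x, hx⟩

theorem four_sub {q : ℕ} (ho : Odd q) : (q ^ 4 - 1) / 2 = (q ^ 2 - 1) * ((q ^ 2 + 1) / 2) ∧
    Nat.Coprime (q ^ 2 - 1) ((q ^ 2 + 1) / 2) ∧ (q ^ 2 + 1) / 2 ∣ q ^ 2 + 1 := by
  obtain ⟨k, hk⟩ := ho
  obtain ⟨t, ht⟩ : ∃ t, k * (k + 1) = 2 * t := by
    obtain ⟨t, ht⟩ := Nat.even_mul_succ_self k
    exact ⟨t, by omega⟩
  have h17 : q ^ 2 = 8 * t + 1 := by
    have : q ^ 2 = 4 * (k * (k + 1)) + 1 := by rw [hk]; ring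
    omega
  have h1 : (q ^ 2 + 1) / 2 = 4 * t + 1 := by omega
  have h2 : q ^ 4 - 1 = (q ^ 2 + 1) * (q ^ 2 - 1) := H403.four_eq q
  have h3 : q ^ 2 + 1 = 2 * (4 * t + 1) := by omega
  have h4 : q ^ 2 - 1 = 8 * t := by omega
  refine ⟨?_, ?_, ?_⟩
  · rw [h2, h1, h3, h4]
    have : 2 * (4 * t + 1) * (8 * t) = 2 * (8 * t * (4 * t + 1)) := by ring
    rw [this, Nat.mul_div_cancel_left _ (by norm_num)]
  · rw [h1, h4]
    have h5 : Nat.Coprime t (4 * t + 1) := by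
      rw [mul_comm 4 t, Nat.coprime_mul_left_add_right]
      exact Nat.coprime_one_right t
    have h6 : Nat.Coprime 8 (4 * t + 1) := by
      have : Nat.Coprime (2 ^ 3) (4 * t + 1) := Nat.Coprime.pow_left 3 (Nat.coprime_two_left.2 ⟨2 * t, by ring⟩)
      simpa using this
    exact Nat.Coprime.mul_left h6 h5
  · rw [h1, h3]
    exact dvd_mul_left _ _

theorem exs_F4 (F : Type u) [Field F] [Finite F] (ho : Odd (Nat.card F)) :
    ExS ↥(chevF4.group F) ((Nat.card F ^ 4 - 1) / 2) 1 (Nat.card F) [12] := by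
  have : Fintype F := Fintype.ofFinite F
  have hc := Cfsg.Agent.S1062.result (F := F) rfl
  rw [← Nat.card_eq_fintype_card] at hc
  have h3 := card_ge ho
  obtain ⟨x, hx1, hx2⟩ := tor_F4 F
  refine ⟨h3, ho, pp_card F, ⟨x, ?_⟩, cls_untw f4T [12] (by decide) (fun r hr hrd => ?_)
    fun m hm B hall hB => ?_⟩
  · obtain ⟨h4, h5, h6⟩ := four_sub ho
    rw [mul_one, h4]
    exact h5.mul_dvd_of_dvd_of_dvd hx1 (h6.trans hx2)
  · rcases adj_F4 F hr hrd with h | h | h | h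
    · exact Or.inl h
    · exact Or.inr (Or.inl h)
    · right; left
      obtain ⟨y, hy⟩ := tor_F8 F
      refine adj_of_order (g := 1) (x := y) (N := Nat.card F ^ 4 + 1) hr ?_ (Nat.coprime_one_right _)
        (by rwa [mul_one]) ?_ ?_
      · rintro rfl
        have := mod_of_od (q := Nat.card F) hr h (by norm_num)
        revert this; norm_num
      · have h4 := H378.CycTab.dvd8 hr h
        rw [H378.CycTab.pv8] at h4
        exact_mod_cast h4
      · have h5 := (ho.pow (n := 4)).add_one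
        exact even_iff_two_dvd.1 h5
    · exact Or.inr (Or.inr (by rw [h]; exact List.mem_singleton.2 rfl))
  · rw [hc] at hB
    have hB' := Int.natCast_dvd_natCast.2 hB
    simp only [Nat.cast_mul, Nat.cast_pow, cast_pred (show 1 ≤ Nat.card F by omega)] at hB'
    simp only [List.mem_cons, List.not_mem_nil, or_false] at hm
    subst hm
    exact fin_dvd hall 12 24 [2, 6, 8] (by decide) (by decide) (by omega) (by decide) hB'
        (by simp only [List.map_cons, List.map_nil, List.prod_cons, List.prod_nil]; ring)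

end Cfsg.Agent.H77.E4ClsB
end

private theorem dce_4a83602f4f58 : _root_.True := by
  try have : _root_.True := by simp only [_root_.Cfsg.Agent.H77.E4Cert2.cF8.eq_1]
  exact _root_.True.intro
end

-- part: H77/E4Seven
section
set_option linter.all false
open scoped Cfsg.Agent.FastGrp

/-!
# `E₇` over fields of odd order (helper77)

`E₆(q)` is a section of `E₇(q)` (the proof is a copy of `H720.RowSeven.involves67`, for a small import closure).
-/

set_option autoImplicit false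
set_option linter.unusedSectionVars false

namespace Cfsg.Agent.H77.E4Seven

open Cfsg Cfsg.Lie Cfsg.Lie.ChevalleyDatum
open Cfsg.Agent.ChevalleyStructure Cfsg.Agent.ChevalleyStructure.Elts Cfsg.Agent.ChevalleyStructure.StEmbed
open Cfsg.Agent.ChevalleyStructure.CoxeterGeomTypes Cfsg.Agent.Nodes.RGDChev
open Cfsg.Agent.BpExc.RowsUntw Cfsg.Agent.BpExc.FamInst Cfsg.Agent.BpExc.FamExt
open Cfsg.Agent.H77.E4Poly Cfsg.Agent.H77.E4Tor Cfsg.Agent.H378.ExcAdj Cfsg.Agent.H378.ExcNear Cfsg.Agent.H77.E4Cls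

universe u

theorem involves67 (F : Type u) [Field F] :
    Cfsg.Agent.Lib.Involves.Involves ↥(chevE7.group F) ↥(chevE6.group F) := by
  obtain ⟨θ6, hs6, hk6, he6⟩ := Cfsg.Agent.S1077.result (K := F) chevE6 (by simp)
  obtain ⟨θ7, hs7, hk7, he7⟩ := Cfsg.Agent.S1077.result (K := F) chevE7 (by simp)
  have hsimp := (Cfsg.Agent.S1054.result (F := F) chevE6 (by simp)).1
  have hperf := Cfsg.Agent.H65.UnivE.Typ.perfect Cfsg.Agent.H65.UnivE.typE6 F
  set f : chevE6.SteinbergGroup F →* ↥(chevE7.group F) := θ7.comp (hom emb67 F) with hf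
  refine Cfsg.Agent.Lib.Involves.of_ker_le f θ6 hs6 ?_
  have hn : (f.ker.map θ6).Normal := Subgroup.Normal.map inferInstance θ6 hs6
  rcases hn.eq_bot_or_eq_top with h | h
  · intro x hx
    have h1 : θ6 x ∈ f.ker.map θ6 := ⟨x, hx, rfl⟩
    rw [h] at h1
    exact h1
  · exfalso
    have hc : ∀ x y : chevE6.SteinbergGroup F, f x * f y = f y * f x := by
      intro x y
      have h1 : θ6 x ∈ f.ker.map θ6 := by rw [h]; exact Subgroup.mem_top _
      obtain ⟨n, hn, e⟩ := h1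
      have h2 : n⁻¹ * x ∈ θ6.ker := by rw [MonoidHom.mem_ker, map_mul, map_inv, e, inv_mul_cancel]
      rw [hk6, Subgroup.mem_center_iff] at h2
      have h3 := congrArg f (h2 y)
      have h4 : f n = 1 := hn
      simp only [map_mul, map_inv, h4, inv_one, one_mul] at h3
      exact h3.symm
    have h1 : commutator (chevE6.SteinbergGroup F) ≤ f.ker := by
      rw [commutator_def, Subgroup.commutator_le]
      intro x _ y _
      rw [MonoidHom.mem_ker, map_commutatorElement, commutatorElement_eq_one_iff_mul_comm]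
      exact hc x y
    rw [hperf] at h1
    have h0 : (0 : ℕ) < chevE6.nroots := by decide +kernel
    have h7 : ι67 0 < chevE7.nroots := by decide +kernel
    have h2 : f (chevE6.stGen F 0 1) = 1 := h1 (Subgroup.mem_top _)
    rw [hf, MonoidHom.comp_apply, hom_stGen emb67 h0] at h2
    have h3 := he7 (ι67 0) 1 h7
    rw [h2] at h3
    have hD : InList chevE7 := by simp
    have h4 : xG (F := F) hD (ι67 0) 1 = 1 := Units.ext h3.symm
    exact one_ne_zero ((xG_eq_one_iff hD h7 _).1 h4)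

theorem tor_E7 (F : Type u) [Field F] [Finite F] : ∃ x : ↥(chevE7.group F),
    (Nat.card F ^ 4 - 1) * (Nat.card F ^ 2 - Nat.card F + 1) ∣ orderOf x * 3 := by
  obtain ⟨y, hy⟩ := tor_E6 F
  obtain ⟨H, f, hf⟩ := (Cfsg.Agent.Lib.Involves.involves_def).1 (involves67 F)
  obtain ⟨h, rfl⟩ := hf y
  refine ⟨h.1, hy.trans (Nat.mul_dvd_mul_right ?_ _)⟩
  rw [Subgroup.orderOf_coe]
  exact orderOf_map_dvd f h

theorem exs_E7 (F : Type u) [Field F] [Finite F] (ho : Odd (Nat.card F)) :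
    ExS ↥(chevE7.group F) ((Nat.card F ^ 4 - 1) * (Nat.card F ^ 2 - Nat.card F + 1)) 3 (Nat.card F)
      [7, 9, 12, 14, 18] := by
  have : Fintype F := Fintype.ofFinite F
  have hc := Cfsg.Agent.S1064.result (F := F) rfl
  rw [← Nat.card_eq_fintype_card] at hc
  have h3 := card_ge ho
  have hI : ∀ m ∈ [7, 9, 12, 14, 18], 0 < m ∧ 7 + 1 < m + 1 + 1 ∧ ∀ m' ∈ [7, 9, 12, 14, 18], m ≠ m' →
      7 < m.totient + m'.totient := by decide
  refine ⟨h3, ho, pp_card F, tor_E7 F, fun x hx h2 => ?_⟩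
  obtain ⟨m, hm, hall⟩ := allOd (q := Nat.card F) (P := fun m => m ∈ [7, 9, 12, 14, 18]) hx
    (fun r hr hrd => by
      obtain ⟨h3, h4⟩ := h2 r hr hrd
      have := ((adj_E7 F hr (hrd.trans (orderOf_dvd_natCard x))).resolve_left h3).resolve_left h4
      simpa using this) (by
    rintro r s hr hs - - hmr hms hne ⟨z, hz⟩
    obtain ⟨h1, -, h3⟩ := hI _ hmr
    obtain ⟨h1', -, -⟩ := hI _ hms
    have key : ∀ t : ℕ, t.Prime → orderOf ((Nat.card F : ℕ) : ZMod t) ∈ [7, 9, 12, 14, 18] →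
        7 + 1 < t ∧ ¬ t ∣ Nat.card F := by
      intro t ht hmt
      obtain ⟨k1, -, -⟩ := hI _ hmt
      obtain ⟨k2, k3⟩ := lt_of_od (q := Nat.card F) (m := orderOf ((Nat.card F : ℕ) : ZMod t)) ht rfl k1
      have k4 : 7 ≤ orderOf ((Nat.card F : ℕ) : ZMod t) := by
        simp only [List.mem_cons, List.not_mem_nil, or_false] at hmt
        omega
      have k5 : t ≠ 8 := by rintro rfl; revert ht; norm_num
      refine ⟨by omega, k3⟩
    exact H169.TorPair.untw_no_pair e7T (Nat.card_eq_fintype_card.symm) hr hs (key r hr hmr).2 (key s hs hms).2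
      (key r hr hmr).1 (key s hs hms).1 hne (h3 _ hms hne) z hz)
  refine ⟨m, hm, ?_⟩
  have hB : orderOf x ∣ Nat.card ↥(chevE7.group F) := orderOf_dvd_natCard x
  generalize orderOf x = B at *
  have hB := hB.mul_left (Nat.gcd 2 (Nat.card F - 1))
  rw [hc] at hB
  have hB' := Int.natCast_dvd_natCast.2 hB
  simp only [Nat.cast_mul, Nat.cast_pow, cast_pred (show 1 ≤ Nat.card F by omega)] at hB'
  simp only [List.mem_cons, List.not_mem_nil, or_false] at hm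
  rcases hm with rfl | rfl | rfl | rfl | rfl
  · exact fin_dvd hall 14 63 [2, 6, 8, 10, 12, 18] (by decide) (by decide) (by omega) (by decide) hB'
        (by simp only [List.map_cons, List.map_nil, List.prod_cons, List.prod_nil]; ring)
  · exact fin_dvd hall 18 63 [2, 6, 8, 10, 12, 14] (by decide) (by decide) (by omega) (by decide) hB'
        (by simp only [List.map_cons, List.map_nil, List.prod_cons, List.prod_nil]; ring)
  · exact fin_dvd hall 12 63 [2, 6, 8, 10, 14, 18] (by decide) (by decide) (by omega) (by decide) hB'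
        (by simp only [List.map_cons, List.map_nil, List.prod_cons, List.prod_nil]; ring)
  · exact fin_dvd hall 14 63 [2, 6, 8, 10, 12, 18] (by decide) (by decide) (by omega) (by decide) hB'
        (by simp only [List.map_cons, List.map_nil, List.prod_cons, List.prod_nil]; ring)
  · exact fin_dvd hall 18 63 [2, 6, 8, 10, 12, 14] (by decide) (by decide) (by omega) (by decide) hB'
        (by simp only [List.map_cons, List.map_nil, List.prod_cons, List.prod_nil]; ring)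

end Cfsg.Agent.H77.E4Seven
end

-- part: H77/E4ClsT
section
set_option linter.all false
open scoped Cfsg.Agent.FastGrp

-- part: H77/E4Cert3
section
/-!
# Cyclic subgroups of the maximal tori of `³D₄`: certificates (helper77)
-/

set_option autoImplicit false

namespace Cfsg.Agent.H77.E4Cert3

open Cfsg.Agent.H129.WData Cfsg.Agent.H378.AdjTab Cfsg.Agent.H493.PGTorus

/-! ### `³D₄` : `(x³ - 1) (x + 1)` -/

/-- the partial products -/
def LD3 : List (Fin 4 × Mat 4) := [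
    (1, ![![1, 1, 0, 0],
        ![0, -1, 0, 0],
        ![0, 1, 1, 0],
        ![0, 1, 0, 1]])]

/-- the coefficients -/
def cD3 : Fin (3 + 1) → ℤ := ![-1, -1, 0, 1]

/-- the eigenvector -/
def VD3 : Fin (3 + 1) → Fin 4 → ℤ := ![![1, -1, 0, 0],
      ![0, 0, 0, -1],
      ![-1, 0, 0, 0],
      ![-1, 1, -1, 0]]

/-- the functional -/
def UD3 : Fin 4 → ℤ := ![0, -1, -1, 0]

/-- the twisted matrix -/
def ThD3 : Mat 4 := ![![0, 1, 1, 0],
      ![0, -1, 0, 0],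
      ![0, 1, 0, 1],
      ![1, 1, 0, 0]]

theorem chainD3 : ChainOK H493.PGD4T.Am LD3 := by decide +kernel

theorem thD3 : ∀ j, hd LD3 (H493.PGD4T.pi j) = ThD3 j := by decide +kernel

theorem eigD3 : EigOK (fun i j => ThD3 j i) cD3 VD3 UD3 := by decide +kernel

/-! ### `³D₄` : `(x³ + 1) (x - 1)` -/

/-- the partial products -/
def LD6 : List (Fin 4 × Mat 4) := [
    (0, ![![-1, 0, 0, 0],
        ![1, 1, 0, 0],
        ![0, 0, 1, 0],
        ![0, 0, 0, 1]])]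

/-- the coefficients -/
def cD6 : Fin (3 + 1) → ℤ := ![-1, 1, 0, -1]

/-- the eigenvector -/
def VD6 : Fin (3 + 1) → Fin 4 → ℤ := ![![0, 0, -1, 0],
      ![0, 0, 1, -1],
      ![1, -1, 0, 1],
      ![-1, 0, 0, 0]]

/-- the functional -/
def UD6 : Fin 4 → ℤ := ![0, -1, -1, -1]

/-- the twisted matrix -/
def ThD6 : Mat 4 := ![![0, 0, 1, 0],
      ![1, 1, 0, 0],
      ![0, 0, 0, 1],
      ![-1, 0, 0, 0]]

theorem chainD6 : ChainOK H493.PGD4T.Am LD6 := by decide +kernel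

theorem thD6 : ∀ j, hd LD6 (H493.PGD4T.pi j) = ThD6 j := by decide +kernel

theorem eigD6 : EigOK (fun i j => ThD6 j i) cD6 VD6 UD6 := by decide +kernel

end Cfsg.Agent.H77.E4Cert3
end

-- part: H77/E4ClsT
section
/-!
# `³D₄` and `²E₆` over fields of odd order (helper77)
-/

set_option autoImplicit false
set_option linter.unusedSectionVars false

namespace Cfsg.Agent.H77.E4ClsT

open CoxeterSystem Cfsg Cfsg.Lie Cfsg.Lie.ChevalleyDatum
open Cfsg.Agent.ChevalleyStructure Cfsg.Agent.ChevalleyStructure.Elts Cfsg.Agent.ChevalleyStructure.CoxeterGeom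
  Cfsg.Agent.ChevalleyStructure.CoxeterGeomTypes Cfsg.Agent.ChevalleyStructure.NPerm
open Cfsg.Agent.Tits.Roots Cfsg.Agent.Tits.Core Cfsg.Agent.Nodes Cfsg.Agent.Nodes.Reps Cfsg.Agent.Nodes.BNOf
  Cfsg.Agent.Nodes.RGDChev Cfsg.Agent.Nodes.Bruhat Cfsg.Agent.Nodes.SubComb Cfsg.Agent.Nodes.Coroot
open Cfsg.Agent.KFacts.RgdField Cfsg.Agent.KFacts.RgdChevCoord Cfsg.Agent.BpExc.TorCent Cfsg.Agent.BpExc.TorChev
open Cfsg.Agent.GpExc.Field Cfsg.Agent.BpExc.Tow Cfsg.Agent.BpExc.TowChev Cfsg.Agent.BpExc.Fr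
  Cfsg.Agent.BpExc.LangFr Cfsg.Agent.LangThm Cfsg.Agent.BpExc Cfsg.Agent.H129.TorusChar Cfsg.Agent.H129.TorusCent
  Cfsg.Agent.H129.TorusTw Cfsg.Agent.H129.TorusMain Cfsg.Agent.H493.PGTorus Cfsg.Agent.H493.PGTwist
  Cfsg.Agent.H129.WData
open Cfsg.Agent.H77.E4Poly Cfsg.Agent.H77.E4Tor Cfsg.Agent.H77.E4Cls Cfsg.Agent.H77.E4ClsB Cfsg.Agent.H77.E4Cert
  Cfsg.Agent.H77.E4Cert2 Cfsg.Agent.H77.E4Cert3 Cfsg.Agent.H378.TwAdj Cfsg.Agent.H378.TwRows Cfsg.Agent.H378.ExcAdj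
  Cfsg.Agent.H378.ExcNear

universe u

/-! ### `³D₄` -/

section D

open Cfsg.Agent.H129 Cfsg.Agent.H129.TriD4

variable {K : Type u} [Field K] [Fintype K] {q : ℕ} (hq : IsPrimePow q) (hK : Fintype.card K = q ^ 3)

include hq hK

theorem tor_D {L : List (Fin 4 × Mat 4)} (hL : ChainOK H493.PGD4T.Am L) {Th : Mat 4}
    (hTh : ∀ j, hd L (H493.PGD4T.pi j) = Th j) {f : ℕ} {c : Fin (f + 1) → ℤ} {V : Fin (f + 1) → Fin 4 → ℤ}
    {U : Fin 4 → ℤ} (h : EigOK (fun i j => Th j i) c V U) (hc : c 0 = 1 ∨ c 0 = -1) {m : ℕ} (hm : 0 < m)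
    (h1 : (m : ℤ) ∣ pv c (q : ℤ)) : ∃ x : ↥(twistedD4 K q), m ∣ orderOf x := by
  have := H493.PGD4T.finW
  obtain ⟨p, e, hpF, hpk, he, hqe, hk⟩ := H493.PGD4T.setup hq hK
  have hqe' : (q : ℤ) = ((p ^ e : ℕ) : ℤ) := by rw [hqe]
  rw [hqe'] at h1
  obtain ⟨x, hx⟩ := order_of_eig RGDTwD4.hp coxeterD4.toCoxeterSystem hk he isFrob_tau (fr_tau _)
    H129.TorusChar.invC_D4 (by norm_num) (e0 := embT (algebraMap K (AlgebraicClosure K)) hq hK) (d := 1)
    (fun y hy => by rw [pow_one]; exact tau_range _ hqe hq hK hy) (H493.PGD4T.lin _ hL hTh) h hc hm h1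
  exact ⟨x, by rwa [mul_one] at hx⟩

theorem pv_D3 : (((q ^ 3 - 1) * (q + 1) : ℕ) : ℤ) ∣ pv cD3 (q : ℤ) := by
  rw [Nat.cast_mul, cast_pred (hq.two_le.trans' (by norm_num))]
  simp [pv, cD3, Fin.sum_univ_succ]
  exact dvd_of_eq (by ring)

theorem pv_D6 : (((q ^ 3 + 1) * (q - 1) : ℕ) : ℤ) ∣ pv cD6 (q : ℤ) := by
  rw [Nat.cast_mul, Nat.cast_sub (hq.two_le.trans' (by norm_num))]
  simp [pv, cD6, Fin.sum_univ_succ]
  exact dvd_of_eq (by ring)

theorem tor_D3 : ∃ x : ↥(twistedD4 K q), (q ^ 3 - 1) * (q + 1) ∣ orderOf x :=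
  tor_D hq hK chainD3 thD3 eigD3 (by right; rfl)
    (Nat.mul_pos (Nat.sub_pos_of_lt (Nat.one_lt_pow (by norm_num) hq.two_le)) (by positivity)) (pv_D3 hq hK)

theorem tor_D6 : ∃ x : ↥(twistedD4 K q), (q ^ 3 + 1) * (q - 1) ∣ orderOf x :=
  tor_D hq hK chainD6 thD6 eigD6 (by right; rfl)
    (Nat.mul_pos (by positivity) (Nat.sub_pos_of_lt hq.two_le)) (pv_D6 hq hK)

theorem adj_3D4 (ho : Odd q) {r : ℕ} (hr : r.Prime) (hd : r ∣ Nat.card ↥(twistedD4 K q)) :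
    r = 2 ∨ H94.PG.Adj ↥(twistedD4 K q) r 2 ∨ od q r = 12 := by
  by_cases h2 : r = 2
  · exact Or.inl h2
  right
  have hfin : Finite ↥(twistedD4 K q) := inferInstance
  obtain ⟨p, n, hp, hn, hpn⟩ := id hq
  have hp := hp.nat_prime
  have hpq : p ∣ q := hpn ▸ dvd_pow_self p hn.ne'
  have h2q : ¬ 2 ∣ q := fun h => (Nat.not_even_iff_odd.2 ho) (even_iff_two_dvd.2 h)
  have hq2 := hq.two_le
  obtain ⟨x, hx⟩ := tor_D3 hq hK
  obtain ⟨y, hy⟩ := tor_D6 hq hK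
  have e1 : 2 ∣ (q ^ 3 - 1) * (q + 1) := (even_iff_two_dvd.1 ho.add_one).mul_left _
  have e2 : 2 ∣ (q ^ 3 + 1) * (q - 1) := (even_iff_two_dvd.1 (ho.pow (n := 3)).add_one).mul_right _
  have k1 : (r : ℤ) ∣ (((q ^ 3 - 1) * (q + 1) : ℕ) : ℤ) → H94.PG.Adj ↥(twistedD4 K q) r 2 := fun h =>
    adj_of_order (g := 1) hr h2 (Nat.coprime_one_right _) (by rwa [mul_one]) (Int.natCast_dvd_natCast.1 h) e1
  have k2 : (r : ℤ) ∣ (((q ^ 3 + 1) * (q - 1) : ℕ) : ℤ) → H94.PG.Adj ↥(twistedD4 K q) r 2 := fun h =>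
    adj_of_order (g := 1) hr h2 (Nat.coprime_one_right _) (by rwa [mul_one]) (Int.natCast_dvd_natCast.1 h) e2
  have c1 : (((q ^ 3 - 1) * (q + 1) : ℕ) : ℤ) = ((q : ℤ) ^ 3 - 1) * (q + 1) := by
    rw [Nat.cast_mul, cast_pred (by omega)]; push_cast; ring
  have c2 : (((q ^ 3 + 1) * (q - 1) : ℕ) : ℤ) = ((q : ℤ) ^ 3 + 1) * (q - 1) := by
    rw [Nat.cast_mul, Nat.cast_sub (by omega)]; push_cast; ring
  rw [c1] at k1
  rw [c2] at k2
  rw [Cfsg.Agent.S1067.result hq hK] at hd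
  rcases H493.PGD4T.cover hq.two_le hr hd with (h | h | h | h | h) | h
  · left
    rw [← hpn] at h
    have h3 := (Nat.prime_dvd_prime_iff_eq hr hp).1 (hr.dvd_of_dvd_pow h)
    have hp2 : p ≠ 2 := by rintro rfl; exact h2q hpq
    rw [h3]
    exact (pairD_p hq hK H493.PGD4T.chainA_ok H493.PGD4T.hThA H493.PGD4T.eigA_1 (by decide) (by decide)
      H493.PGD4T.fixA H493.PGD4T.vanA_1 Nat.prime_two hp (two_dvd_c1 h2q) hpq).symm.adj hp Nat.prime_two hp2
  · left; apply k1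
    rw [H493.PGCyc.pv_c1] at h
    exact h.trans ⟨((q : ℤ) ^ 2 + q + 1) * (q + 1), by ring⟩
  · left; apply k1
    rw [H493.PGCyc.pv_c2] at h
    exact h.trans ⟨(q : ℤ) ^ 3 - 1, by ring⟩
  · left; apply k1
    rw [H493.PGCyc.pv_c3] at h
    exact h.trans ⟨((q : ℤ) - 1) * (q + 1), by ring⟩
  · left; apply k2
    rw [H493.PGCyc.pv_c6] at h
    exact h.trans ⟨((q : ℤ) - 1) * (q + 1), by ring⟩
  · exact Or.inr (od_of_c12 hr h)

theorem exs_3D4 (ho : Odd q) : ExS ↥(twistedD4 K q) ((q ^ 3 - 1) * (q + 1)) 1 q [12] := by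
  have h3 : 3 ≤ q := by
    have := hq.two_le
    obtain ⟨k, hk⟩ := ho
    omega
  have hfin : Finite ↥(twistedD4 K q) := inferInstance
  obtain ⟨x, hx⟩ := tor_D3 hq hK
  refine ⟨h3, ho, hq, ⟨x, by rwa [mul_one]⟩, fun y hy h2 => ⟨12, List.mem_singleton.2 rfl, ?_⟩⟩
  have hall : AllOd q (orderOf y) 12 := fun r hr hrd => by
    obtain ⟨h3, h4⟩ := h2 r hr hrd
    exact ((adj_3D4 hq hK ho hr (hrd.trans (orderOf_dvd_natCard y))).resolve_left h3).resolve_left h4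
  have hB : orderOf y ∣ Nat.card ↥(twistedD4 K q) := orderOf_dvd_natCard y
  generalize orderOf y = B at *
  rw [Cfsg.Agent.S1067.result hq hK] at hB
  have hB' := Int.natCast_dvd_natCast.2 hB
  simp only [Nat.cast_mul, Nat.cast_pow, cast_pred (show 1 ≤ q by omega), Nat.cast_add, Nat.cast_one] at hB'
  refine fin_dvd hall 12 12 [2, 6] (by decide) (by decide) (by omega) (by decide)
    (hB'.mul_right (((q : ℤ) ^ 4 - 1))) ?_
  simp only [List.map_cons, List.map_nil, List.prod_cons, List.prod_nil]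
  ring

end D

/-! ### `²E₆` -/

section E

open Cfsg.Agent.H129 Cfsg.Agent.H493.TwE6Alg

variable {K : Type u} [Field K] [Fintype K] {q : ℕ} (hq : IsPrimePow q) (hK : Fintype.card K = q ^ 2)

include hq hK

theorem tor_T {L : List (Fin 6 × Mat 6)} (hL : ChainOK H493.PGE6T.Am L) {Th : Mat 6}
    (hTh : ∀ j, hd L (H493.TwE6Alg.pi j) = Th j) {f : ℕ} {c : Fin (f + 1) → ℤ} {V : Fin (f + 1) → Fin 6 → ℤ}
    {U : Fin 6 → ℤ} (h : EigOK (fun i j => Th j i) c V U) (hc : c 0 = 1 ∨ c 0 = -1) {m : ℕ} (hm : 0 < m)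
    (h1 : (m : ℤ) ∣ pv c (q : ℤ)) : ∃ x : ↥(twistedE6 K q), m ∣ orderOf x * 3 := by
  have := H493.PGE6.finW
  obtain ⟨p, e, hpF, hpk, he, hqe, hk⟩ := H493.PGE6T.setup hq hK
  have hqe' : (q : ℤ) = ((p ^ e : ℕ) : ℤ) := by rw [hqe]
  rw [hqe'] at h1
  obtain ⟨x, hx⟩ := order_of_eig RGDTwE6.hp CoxeterMatrix.E₆.toCoxeterSystem hk he H493.TwE6Alg.isFrob_tau
    (H493.TwE6Alg.fr_tau _) Cfsg.Agent.H129.TorusChar.invC_E6 (by norm_num)
    (e0 := H493.TwE6Alg.embT (algebraMap K (AlgebraicClosure K)) q) (d := Nat.gcd 3 (q + 1))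
    (fun y hy => H493.TwE6Alg.tau_pow _ hqe hq hK hy) (H493.PGE6T.lin _ hL hTh) h hc hm h1
  exact ⟨x, hx.trans (Nat.mul_dvd_mul_left _ (Nat.gcd_dvd_left _ _))⟩

theorem tor_T10 : ∃ x : ↥(twistedE6 K q), q ^ 5 + 1 ∣ orderOf x * 3 := by
  refine tor_T hq hK chainT10 thT10 eigT10 (by left; rfl) (by positivity) ?_
  simp [pv, cT10, Fin.sum_univ_succ]

theorem adj_2E6 (ho : Odd q) {r : ℕ} (hr : r.Prime) (hd : r ∣ Nat.card ↥(twistedE6 K q)) :
    r = 2 ∨ H94.PG.Adj ↥(twistedE6 K q) r 2 ∨ od q r ∈ [12, 18] := by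
  by_cases h2 : r = 2
  · exact Or.inl h2
  right
  by_cases h3 : r = 3
  · left; rw [h3]; exact adj_three hq hK
  have hfin : Finite ↥(twistedE6 K q) := inferInstance
  obtain ⟨p, n, hp, hn, hpn⟩ := id hq
  have hp := hp.nat_prime
  have hpq : p ∣ q := hpn ▸ dvd_pow_self p hn.ne'
  have h2q : ¬ 2 ∣ q := fun h => (Nat.not_even_iff_odd.2 ho) (even_iff_two_dvd.2 h)
  have hq2 := hq.two_le
  have hg := H493.PGE6T.natCard_ne_of hq hK hr h3
  have hg2 := H493.PGE6T.natCard_ne_of hq hK Nat.prime_two (by norm_num)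
  have hcop : Nat.Coprime (r * 2) 3 :=
    Nat.Coprime.mul_left ((Nat.coprime_primes hr Nat.prime_three).2 h3) (by norm_num)
  obtain ⟨x, hx⟩ := tor_2E6 hq hK
  obtain ⟨y, hy⟩ := tor_T10 hq hK
  have e1 : 2 ∣ (q ^ 4 - 1) * (q ^ 2 + q + 1) := by
    refine Dvd.dvd.mul_right ?_ _
    obtain ⟨k, hk⟩ := ho.pow (n := 4)
    omega
  have e2 : 2 ∣ q ^ 5 + 1 := even_iff_two_dvd.1 (ho.pow (n := 5)).add_one
  have c1 : (((q ^ 4 - 1) * (q ^ 2 + q + 1) : ℕ) : ℤ) = ((q : ℤ) ^ 4 - 1) * (q ^ 2 + q + 1) := by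
    rw [Nat.cast_mul, cast_pred (by omega)]; push_cast; ring
  have k1 : (r : ℤ) ∣ ((q : ℤ) ^ 4 - 1) * (q ^ 2 + q + 1) → H94.PG.Adj ↥(twistedE6 K q) r 2 := fun h => by
    rw [← c1] at h
    exact adj_of_order hr h2 hcop hx (Int.natCast_dvd_natCast.1 h) e1
  have k2 : (r : ℤ) ∣ (q : ℤ) ^ 5 + 1 → H94.PG.Adj ↥(twistedE6 K q) r 2 := fun h =>
    adj_of_order hr h2 hcop hy (by exact_mod_cast h) e2
  have h1 : r ∣ q ^ 36 * (q ^ 2 - 1) * (q ^ 5 + 1) * (q ^ 6 - 1) * (q ^ 8 - 1) * (q ^ 9 + 1) * (q ^ 12 - 1) := by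
    rw [← Cfsg.Agent.S1066.result hq hK]
    exact hd.mul_left _
  rcases H493.PGE6T.cover hq.two_le hr h1 with (h | h | h | h | h | h | h) | h | h | h
  · left
    rw [← hpn] at h
    have h4 := (Nat.prime_dvd_prime_iff_eq hr hp).1 (hr.dvd_of_dvd_pow h)
    have hp2 : p ≠ 2 := by rintro rfl; exact h2q hpq
    rw [h4]
    exact (pairE_p hq hK H493.PGE6T.chainA_ok H493.PGE6T.hThA H493.PGE6T.eigA_1 (by decide) (by decide)
      H493.PGE6T.fixA H493.PGE6T.vanA_1 Nat.prime_two hp hg2 (two_dvd_c1 h2q) hpq).symm.adj hp Nat.prime_two hp2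
  · left; apply k1
    rw [H493.PGCyc.pv_c1] at h
    exact h.trans ⟨((q : ℤ) + 1) * (q ^ 2 + 1) * (q ^ 2 + q + 1), by ring⟩
  · left; apply k1
    rw [H493.PGCyc.pv_c2] at h
    exact h.trans ⟨((q : ℤ) - 1) * (q ^ 2 + 1) * (q ^ 2 + q + 1), by ring⟩
  · left; apply k1
    rw [H493.PGCyc.pv_c3] at h
    exact h.trans ⟨(q : ℤ) ^ 4 - 1, by ring⟩
  · left; apply k1
    rw [H493.PGCyc.pv_c4] at h
    exact h.trans ⟨((q : ℤ) ^ 2 - 1) * (q ^ 2 + q + 1), by ring⟩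
  · left
    exact (pairE_gen hq hK H493.PGE6T.chainB_ok H493.PGE6T.hThB H493.PGE6T.eigB_6 (by decide) eigB_1 (by decide) hr
      Nat.prime_two hg hg2 h (two_dvd_c1 h2q)).adj hr Nat.prime_two h2
  · left; apply k2
    rw [H493.PGCyc.pv_c10] at h
    exact h.trans ⟨(q : ℤ) + 1, by ring⟩
  · left
    exact (pairE_gen hq hK H493.PGE6T.chainE_ok H493.PGE6T.hThE H493.PGE6T.eigE_8 (by decide) H493.PGE6T.eigE_1
      (by decide) hr Nat.prime_two hg hg2 h (two_dvd_c1 h2q)).adj hr Nat.prime_two h2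
  · right; rw [od_of_c12 hr h]; decide
  · right; rw [od_of_c18 hr h3 h]; decide

end E

open Cfsg.Agent.H720.TwFr in
theorem six_no_pair {K : Type u} [Field K] [Fintype K] {p f : ℕ} [Fact p.Prime] [CharP K p] (hf : 0 < f)
    (hK : Fintype.card K = (p ^ f) ^ 2) {r s m m' : ℕ} (hr : r.Prime) (hs : s.Prime)
    (hrq : ¬ r ∣ p ^ f) (hsq : ¬ s ∣ p ^ f) (hrl : 7 < r) (hsl : 7 < s)
    (hm : orderOf ((p ^ f : ℕ) : ZMod r) = m) (hm' : orderOf ((p ^ f : ℕ) : ZMod s) = m') (hne : m ≠ m')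
    (hl : 6 < m.totient + m'.totient) (x : ↥(twistedE6 K (p ^ f))) : orderOf x ≠ r * s := by
  intro hx
  have hpk : CharP (AlgebraicClosure K) p :=
    charP_of_injective_algebraMap (algebraMap K (AlgebraicClosure K)).injective p
  have hk : LocFin (AlgebraicClosure K) := by
    obtain ⟨p', e, hpF, hpc, hpk, he, hpe, hk⟩ := H129.TorusUntw.exists_closure hK
    exact hk
  have hAk : Cfsg.Agent.BpExc.TorAll.HAlg p (AlgebraicClosure K) := Cfsg.Agent.H944.RootVals.hAlg_closure p K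
  have cs := CoxeterMatrix.E₆.toCoxeterSystem
  have : Finite CoxeterMatrix.E₆.Group := finite_W hp6 cs
  have hrp : r ≠ p := fun h => hrq (by rw [h]; exact dvd_pow_self p hf.ne')
  have hsp : s ≠ p := fun h => hsq (by rw [h]; exact dvd_pow_self p hf.ne')
  have h1 := H169.TorPair.no_pair (σ := sig6 (AlgebraicClosure K) p f) hp6 cs hAk hk (isFrob_sig6 p f)
    (fr_sig6 hk p hp6 cs f)
    hr hs hrp hsp (by omega) (by omega) (by rw [hm, hm']; exact hne) (by rw [hm, hm']; exact hl)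
    (em6_fix (algebraMap K (AlgebraicClosure K)) p hf rfl hK x)
  rw [orderOf_injective _ (Cfsg.Agent.BpExc.FamTw.Six.em_injective (algebraMap K (AlgebraicClosure K)))] at h1
  exact h1 hx

theorem exs_2E6 {K : Type u} [Field K] [Fintype K] {q : ℕ} (hq : IsPrimePow q) (hK : Fintype.card K = q ^ 2)
    (ho : Odd q) : ExS ↥(twistedE6 K q) ((q ^ 4 - 1) * (q ^ 2 + q + 1)) 3 q [12, 18] := by
  have h3 : 3 ≤ q := by
    have := hq.two_le
    obtain ⟨k, hk⟩ := ho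
    omega
  have hfin : Finite ↥(twistedE6 K q) := inferInstance
  refine ⟨h3, ho, hq, tor_2E6 hq hK, fun y hy h2 => ?_⟩
  obtain ⟨m, hm, hall⟩ := allOd (q := q) (P := fun m => m ∈ [12, 18]) hy
    (fun r hr hrd => by
      obtain ⟨h3, h4⟩ := h2 r hr hrd
      exact ((adj_2E6 hq hK ho hr (hrd.trans (orderOf_dvd_natCard y))).resolve_left h3).resolve_left h4) (by
    rintro r s hr hs - - hmr hms hne ⟨z, hz⟩
    obtain ⟨p, f, hp, hf, rfl⟩ := (isPrimePow_nat_iff q).1 hq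
    have hpf : Fact p.Prime := ⟨hp⟩
    have hch : CharP K p := by
      obtain ⟨p', hp'⟩ := CharP.exists K
      obtain ⟨n, hpp, hn⟩ := FiniteField.card K p'
      have h5 : p' ∣ (p ^ f) ^ 2 := by rw [← hK, hn]; exact dvd_pow_self _ n.pos.ne'
      have h6 := (Nat.prime_dvd_prime_iff_eq hpp hp).1 (hpp.dvd_of_dvd_pow (hpp.dvd_of_dvd_pow h5))
      rwa [← h6]
    have hr0 : 12 ≤ orderOf (((p ^ f : ℕ) : ℕ) : ZMod r) := by
      simp only [List.mem_cons, List.not_mem_nil, or_false] at hmr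
      omega
    have hs0 : 12 ≤ orderOf (((p ^ f : ℕ) : ℕ) : ZMod s) := by
      simp only [List.mem_cons, List.not_mem_nil, or_false] at hms
      omega
    obtain ⟨h7, h8⟩ := lt_of_od (q := p ^ f) (m := orderOf (((p ^ f : ℕ) : ℕ) : ZMod r)) hr rfl (by omega)
    obtain ⟨h9, h10⟩ := lt_of_od (q := p ^ f) (m := orderOf (((p ^ f : ℕ) : ℕ) : ZMod s)) hs rfl (by omega)
    refine six_no_pair hf hK hr hs h8 h10 (by omega) (by omega) rfl rfl hne ?_ z hz
    simp only [List.mem_cons, List.not_mem_nil, or_false] at hmr hms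
    rcases hmr with h | h <;> rcases hms with h' | h' <;> rw [h, h'] <;> first | decide | exact absurd (h.trans h'.symm) hne)
  refine ⟨m, hm, ?_⟩
  have hB : orderOf y ∣ Nat.card ↥(twistedE6 K q) := orderOf_dvd_natCard y
  generalize orderOf y = B at *
  have hB := hB.mul_left (Nat.gcd 3 (q + 1))
  rw [Cfsg.Agent.S1066.result hq hK] at hB
  have hB' := Int.natCast_dvd_natCast.2 hB
  simp only [Nat.cast_mul, Nat.cast_pow, cast_pred (show 1 ≤ q by omega), Nat.cast_add, Nat.cast_one] at hB'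
  simp only [List.mem_cons, List.not_mem_nil, or_false] at hm
  rcases hm with rfl | rfl
  · refine fin_dvd hall 12 36 [2, 10, 6, 8, 18] (by decide) (by decide) (by omega) (by decide)
      (hB'.mul_right (((q : ℤ) ^ 5 - 1) * ((q : ℤ) ^ 9 - 1))) ?_
    simp only [List.map_cons, List.map_nil, List.prod_cons, List.prod_nil]
    ring
  · refine fin_dvd hall 18 36 [2, 10, 6, 8, 12] (by decide) (by decide) (by omega) (by decide)
      (hB'.mul_right (((q : ℤ) ^ 5 - 1) * ((q : ℤ) ^ 9 - 1))) ?_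
    simp only [List.map_cons, List.map_nil, List.prod_cons, List.prod_nil]
    ring

end Cfsg.Agent.H77.E4ClsT
end

private theorem dce_915dcb9ccf38 : _root_.True := by
  try have : _root_.True := by simp only [_root_.Cfsg.Agent.H77.E4Cert3.cD6.eq_1]
  try have : _root_.True := by simp only [_root_.Cfsg.Agent.H77.E4Cert2.cT10.eq_1]
  try have : _root_.True := by simp only [_root_.Cfsg.Agent.H77.E4Cert3.cD3.eq_1]
  exact _root_.True.intro
end
end
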